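import Mathlib

/-!
# Bounds for the `p`-part of a permutation group without elements of small support
-/

set_option autoImplicit false

namespace Cfsg.Agent.H901.Caps

open Equiv

/-- `k` disjoint `p`-cycles and their powers. -/
def rot (p k : ℕ) : Multiplicative (Fin k → ZMod p) →* Perm (Fin k × ZMod p) where
  toFun f :=
    { toFun := fun u => (u.1, f.toAdd u.1 + u.2)
      invFun := fun u => (u.1, -f.toAdd u.1 + u.2)
      left_inv := fun u => by simp
      right_inv := fun u => by simp }
  map_one' := by
    ext u <;> simp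
  map_mul' f g := by
    ext u
    · simp
    · simp [add_assoc]

theorem rot_apply (p k : ℕ) (f : Multiplicative (Fin k → ZMod p)) (u : Fin k × ZMod p) :
    rot p k f u = (u.1, f.toAdd u.1 + u.2) := rfl

theorem card_support_rot (p k : ℕ) [NeZero p] (f : Multiplicative (Fin k → ZMod p)) :
    (rot p k f).support.card = p * (Finset.univ.filter (fun i => f.toAdd i ≠ 0)).card := by
  have h : (rot p k f).support =
      (Finset.univ.filter (fun i => f.toAdd i ≠ 0)) ×ˢ (Finset.univ : Finset (ZMod p)) := by
    ext ⟨i, z⟩
    rw [Perm.mem_support, rot_apply, Finset.mem_product, Finset.mem_filter]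
    simp
  rw [h, Finset.card_product, Finset.card_univ, ZMod.card, mul_comm]

theorem card_support_via {α β : Type*} [Fintype α] [DecidableEq α] [Fintype β] [DecidableEq β]
    (e : α ↪ β) (g : Perm α) :
    (Perm.viaEmbeddingHom e g).support.card = g.support.card := by
  have h : (Perm.viaEmbeddingHom e g).support = g.support.map e := by
    ext x
    rw [Perm.mem_support, Finset.mem_map, Perm.viaEmbeddingHom_apply]
    constructor
    · intro hx
      by_cases hxr : x ∈ Set.range e
      · obtain ⟨y, rfl⟩ := hxr
        rw [Perm.viaEmbedding_apply] at hx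
        exact ⟨y, Perm.mem_support.2 fun h => hx (congrArg e h), rfl⟩
      · exact absurd (Perm.viaEmbedding_apply_of_notMem g e x hxr) hx
    · rintro ⟨y, hy, rfl⟩
      rw [Perm.viaEmbedding_apply]
      exact fun h => (Perm.mem_support.1 hy) (e.injective h)
  rw [h, Finset.card_map]

theorem cap {α : Type*} [Fintype α] [DecidableEq α] (p k : ℕ) [hp : Fact p.Prime]
    (hk : k * p ≤ Fintype.card α) (G : Subgroup (Perm α)) (T : Finset (Fin k → ZMod p))
    (hT : ∀ f ∈ T, ∀ f' ∈ T, f ≠ f' → ∀ g ∈ G, g ≠ 1 →
      g.support.card ≠ p * (Finset.univ.filter (fun i => f i ≠ f' i)).card) :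
    T.card * p ^ (Nat.card G).factorization p ≤
      p ^ (Fintype.card α).factorial.factorization p := by
  classical
  have : NeZero p := ⟨hp.out.ne_zero⟩
  obtain ⟨e⟩ : Nonempty (Fin k × ZMod p ↪ α) := by
    rw [Function.Embedding.nonempty_iff_card_le, Fintype.card_prod, Fintype.card_fin, ZMod.card]
    exact hk
  let ρ : Multiplicative (Fin k → ZMod p) →* Perm α := (Perm.viaEmbeddingHom e).comp (rot p k)
  have hsupp : ∀ f : Multiplicative (Fin k → ZMod p),
      (ρ f).support.card = p * (Finset.univ.filter (fun i => f.toAdd i ≠ 0)).card := by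
    intro f
    show (Perm.viaEmbeddingHom e (rot p k f)).support.card = _
    rw [card_support_via, card_support_rot]
  -- the range is a `p`-group
  have hE : IsPGroup p ρ.range := by
    have h1 : IsPGroup p (Multiplicative (Fin k → ZMod p)) := by
      apply IsPGroup.of_card (n := k)
      rw [Nat.card_congr Multiplicative.toAdd, Nat.card_eq_fintype_card, Fintype.card_fun,
        ZMod.card, Fintype.card_fin]
    exact h1.of_surjective ρ.rangeRestrict ρ.rangeRestrict_surjective
  obtain ⟨P, hP⟩ := hE.exists_le_sylow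
  -- a Sylow subgroup of `G`
  obtain ⟨Q⟩ : Nonempty (Sylow p G) := inferInstance
  set Q' : Subgroup (Perm α) := (Q : Subgroup G).map G.subtype with hQ'
  have hQ'p : IsPGroup p Q' := Q.isPGroup'.map _
  obtain ⟨P', hP'⟩ := hQ'p.exists_le_sylow
  obtain ⟨x, hx⟩ := MulAction.exists_smul_eq (Perm α) P' P
  set R : Subgroup (Perm α) := Q'.map (MulAut.conj x).toMonoidHom with hR
  have hRP : R ≤ (P : Subgroup (Perm α)) := by
    have h1 : (P : Subgroup (Perm α)) = (P' : Subgroup (Perm α)).map (MulAut.conj x).toMonoidHom := by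
      rw [← hx]
      rfl
    rw [h1]
    exact Subgroup.map_mono hP'
  have hRcard : Nat.card R = p ^ (Nat.card G).factorization p := by
    have h1 : Nat.card R = Nat.card Q' :=
      Nat.card_congr (Q'.equivMapOfInjective _ (MulAut.conj x).injective).symm.toEquiv
    have h2 : Nat.card Q' = Nat.card Q :=
      Nat.card_congr ((Q : Subgroup G).equivMapOfInjective _ G.subtype_injective).symm.toEquiv
    rw [h1, h2, Sylow.card_eq_multiplicity]
  have hPcard : Nat.card P = p ^ (Fintype.card α).factorial.factorization p := by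
    rw [Sylow.card_eq_multiplicity, Nat.card_perm, Nat.card_eq_fintype_card]
  -- the elements of `R` are conjugate to elements of `G`
  have hRG : ∀ y ∈ R, ∃ g ∈ G, g.support.card = y.support.card ∧ (y ≠ 1 → g ≠ 1) := by
    intro y hy
    obtain ⟨g, hg, rfl⟩ := Subgroup.mem_map.1 hy
    obtain ⟨g', hg', rfl⟩ := Subgroup.mem_map.1 hg
    refine ⟨g', g'.2, ?_, ?_⟩
    · show _ = (x * (g' : Perm α) * x⁻¹).support.card
      rw [Perm.card_support_conj]
    · intro h1 h2
      apply h1
      have h3 : G.subtype g' = 1 := h2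
      rw [h3, map_one]
  -- cosets
  let ψ : T → (P : Subgroup (Perm α)) ⧸ R.subgroupOf P := fun f =>
    QuotientGroup.mk (⟨ρ (Multiplicative.ofAdd f.1), hP ⟨_, rfl⟩⟩ : (P : Subgroup (Perm α)))
  have hψ : Function.Injective ψ := by
    rintro ⟨f, hf⟩ ⟨f', hf'⟩ hff
    by_contra hne
    have hne' : f ≠ f' := fun h => hne (Subtype.ext h)
    have h1 := QuotientGroup.eq.1 hff
    rw [Subgroup.mem_subgroupOf] at h1
    have h2 : (ρ (Multiplicative.ofAdd f))⁻¹ * ρ (Multiplicative.ofAdd f') ∈ R := h1
    rw [← map_inv, ← map_mul] at h2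
    set w : Multiplicative (Fin k → ZMod p) :=
      (Multiplicative.ofAdd f)⁻¹ * Multiplicative.ofAdd f' with hw
    have hwi : ∀ i, w.toAdd i = - f i + f' i := fun i => rfl
    have h3 : (ρ w).support.card = p * (Finset.univ.filter (fun i => f i ≠ f' i)).card := by
      rw [hsupp w]
      congr 2
      ext i
      rw [Finset.mem_filter, Finset.mem_filter, hwi]
      have : - f i + f' i ≠ 0 ↔ f i ≠ f' i := by
        rw [not_iff_not, neg_add_eq_zero]
      rw [this]
    have hpos : 0 < (Finset.univ.filter (fun i => f i ≠ f' i)).card := by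
      rw [Finset.card_pos]
      obtain ⟨i, hi⟩ := Function.ne_iff.1 hne'
      exact ⟨i, Finset.mem_filter.2 ⟨Finset.mem_univ _, hi⟩⟩
    have h4 : ρ w ≠ 1 := by
      intro h
      rw [h, Perm.support_one, Finset.card_empty] at h3
      have := Nat.mul_pos hp.out.pos hpos
      omega
    obtain ⟨g, hgG, hgs, hg1⟩ := hRG _ h2
    exact hT f hf f' hf' hne' g hgG (hg1 h4) (hgs.trans h3)
  have h5 := Nat.card_le_card_of_injective ψ hψ
  rw [Nat.card_eq_fintype_card, Fintype.card_coe] at h5
  have h6 : Nat.card ((P : Subgroup (Perm α)) ⧸ R.subgroupOf P) * Nat.card R = Nat.card P := by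
    have h7 := Subgroup.card_eq_card_quotient_mul_card_subgroup (R.subgroupOf (P : Subgroup (Perm α)))
    rw [h7, Nat.card_congr (Subgroup.subgroupOfEquivOfLe hRP).toEquiv]
  rw [← hRcard, ← hPcard, ← h6]
  exact Nat.mul_le_mul_right _ h5

/-- if no element moves exactly `p` points. -/
theorem cap_one {α : Type*} [Fintype α] [DecidableEq α] (p : ℕ) [hp : Fact p.Prime]
    (hn : p ≤ Fintype.card α) (G : Subgroup (Perm α))
    (hG : ∀ g ∈ G, g ≠ 1 → p < g.support.card) :
    (Nat.card G).factorization p + 1 ≤ (Fintype.card α).factorial.factorization p := by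
  classical
  have : NeZero p := ⟨hp.out.ne_zero⟩
  have h := cap p 1 (by omega) G (Finset.univ) (by
    intro f _ f' _ _ g hg hg1
    have h1 := hG g hg hg1
    have h2 : (Finset.univ.filter (fun i => f i ≠ f' i)).card ≤ 1 := by
      refine (Finset.card_le_univ _).trans ?_
      rw [Fintype.card_fin]
    have h3 := Nat.mul_le_mul_left p h2
    omega)
  rw [Finset.card_univ, Fintype.card_fun, ZMod.card, Fintype.card_fin, pow_one, mul_comm,
    ← pow_succ] at h
  exact (Nat.pow_le_pow_iff_right hp.out.one_lt).1 h

/-- if no element moves `p` or `2 p` points. -/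
theorem cap_two {α : Type*} [Fintype α] [DecidableEq α] (p k c : ℕ) [hp : Fact p.Prime]
    (hn : k * p ≤ Fintype.card α) (G : Subgroup (Perm α))
    (hG : ∀ g ∈ G, g ≠ 1 → 2 * p < g.support.card) (hc : p ^ c < 1 + k * (p - 1)) :
    (Nat.card G).factorization p + (c + 1) ≤ (Fintype.card α).factorial.factorization p := by
  classical
  have : NeZero p := ⟨hp.out.ne_zero⟩
  let T : Finset (Fin k → ZMod p) :=
    insert 0 ((Finset.univ ×ˢ (Finset.univ.erase 0)).image
      (fun u : Fin k × ZMod p => Pi.single u.1 u.2))
  have hTc : T.card = 1 + k * (p - 1) := by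
    have h0 : (0 : Fin k → ZMod p) ∉ (Finset.univ ×ˢ (Finset.univ.erase 0)).image
        (fun u : Fin k × ZMod p => (Pi.single u.1 u.2 : Fin k → ZMod p)) := by
      intro h
      obtain ⟨u, hu, hu2⟩ := Finset.mem_image.1 h
      rw [Finset.mem_product, Finset.mem_erase] at hu
      apply hu.2.1
      have := congrFun hu2 u.1
      simpa using this
    rw [Finset.card_insert_of_notMem h0, Finset.card_image_of_injOn, Finset.card_product,
      Finset.card_univ, Fintype.card_fin, Finset.card_erase_of_mem (Finset.mem_univ _),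
      Finset.card_univ, ZMod.card, add_comm]
    rintro ⟨i, a⟩ hi ⟨j, b⟩ hj hij
    rw [Finset.mem_coe, Finset.mem_product, Finset.mem_erase] at hi hj
    have hij' : (Pi.single i a : Fin k → ZMod p) = Pi.single j b := hij
    have h1 : i = j := by
      by_contra hne
      have h2 := congrFun hij' i
      rw [Pi.single_eq_same, Pi.single_eq_of_ne hne] at h2
      exact hi.2.1 h2
    subst h1
    have h2 := congrFun hij' i
    rw [Pi.single_eq_same, Pi.single_eq_same] at h2
    rw [h2]
  have hTm : ∀ f ∈ T, ∃ i : Option (Fin k), ∀ j, f j ≠ 0 → i = some j := by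
    intro f hf
    rcases Finset.mem_insert.1 hf with rfl | hf
    · exact ⟨none, fun j hj => absurd rfl hj⟩
    · obtain ⟨u, _, rfl⟩ := Finset.mem_image.1 hf
      refine ⟨some u.1, fun j hj => ?_⟩
      by_contra hne
      apply hj
      rw [Pi.single_eq_of_ne]
      intro h
      exact hne (by rw [h])
  have h := cap p k hn G T (by
    intro f hf f' hf' _ g hg hg1
    obtain ⟨i, hi⟩ := hTm f hf
    obtain ⟨i', hi'⟩ := hTm f' hf'
    have h1 := hG g hg hg1
    have h2 : (Finset.univ.filter (fun j => f j ≠ f' j)).card ≤ 2 := by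
      have h3 : (Finset.univ.filter (fun j => f j ≠ f' j)).image some ⊆ {i, i'} := by
        intro o ho
        obtain ⟨j, hj, rfl⟩ := Finset.mem_image.1 ho
        rw [Finset.mem_filter] at hj
        rw [Finset.mem_insert, Finset.mem_singleton]
        by_contra hcon
        push Not at hcon
        apply hj.2
        have h4 : f j = 0 := by
          by_contra h5
          exact hcon.1 (hi j h5).symm
        have h5 : f' j = 0 := by
          by_contra h6
          exact hcon.2 (hi' j h6).symm
        rw [h4, h5]
      have h4 := Finset.card_le_card h3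
      rw [Finset.card_image_of_injective _ (Option.some_injective _)] at h4
      exact h4.trans Finset.card_le_two
    have h3 := Nat.mul_le_mul_left p h2
    omega)
  rw [hTc] at h
  have h1 : p ^ (c + (Nat.card G).factorization p) <
      p ^ (Fintype.card α).factorial.factorization p := by
    rw [pow_add]
    exact lt_of_lt_of_le (Nat.mul_lt_mul_of_pos_right hc (pow_pos hp.out.pos _)) h
  have h2 := (Nat.pow_lt_pow_iff_right hp.out.one_lt).1 h1
  omega

end Cfsg.Agent.H901.Caps
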