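import Mathlib
import Cfsg.Agent.PermutationGroups.PSBochert

/-!
# The minimal degree of a doubly transitive group
-/

set_option autoImplicit false

namespace Cfsg.Agent.H901.MinDeg

open Equiv MulAction Equiv.Perm

/-- A primitive group not containing the alternating group has no elements moving at most three
points. -/
theorem three_lt_support {α : Type*} [Fintype α] [DecidableEq α] (G : Subgroup (Perm α))
    (hG : IsPreprimitive G α) (hA : ¬ alternatingGroup α ≤ G) (g : Perm α) (hg : g ∈ G)
    (hg1 : g ≠ 1) : 3 < g.support.card := by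
  by_contra hcon
  push Not at hcon
  have h2 := Perm.two_le_card_support_of_ne_one hg1
  rcases (by omega : g.support.card = 2 ∨ g.support.card = 3) with h | h
  · have hsw : g.IsSwap := Perm.card_support_eq_two.1 h
    have htop := subgroup_eq_top_of_isPreprimitive_of_isSwap_mem hG g hsw hg
    apply hA
    rw [htop]
    exact le_top
  · have h3 : g.IsThreeCycle := card_support_eq_three_iff.1 h
    exact hA (alternatingGroup_le_of_isPreprimitive_of_isThreeCycle_mem hG h3 hg)

/-- counting elements of a group which carry `b` to `c`. -/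
theorem card_carry {K X : Type*} [Group K] [Finite K] [MulAction K X] (b c : X)
    (hbc : c ∈ orbit K b) :
    Nat.card {h : K // h • b = c} * Nat.card (orbit K b) = Nat.card K := by
  classical
  obtain ⟨k, hk⟩ := hbc
  have hk' : k • b = c := hk
  have e : {h : K // h • b = c} ≃ stabilizer K b :=
    { toFun := fun h => ⟨k⁻¹ * h.1, by
        rw [mem_stabilizer_iff, mul_smul, h.2, ← hk', inv_smul_smul]⟩
      invFun := fun s => ⟨k * s.1, by
        rw [mul_smul, mem_stabilizer_iff.1 s.2, hk']⟩
      left_inv := fun h => by apply Subtype.ext; simp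
      right_inv := fun s => by apply Subtype.ext; simp }
  rw [Nat.card_congr e, mul_comm]
  have := Nat.card_congr (orbitProdStabilizerEquivGroup K b)
  rw [Nat.card_prod] at this
  exact this

/-- a doubly transitive group of degree `n` not containing the alternating group has minimal
degree greater than `1 + √(n-1)`. -/
theorem min_degree {α : Type*} [Fintype α] [DecidableEq α] (G : Subgroup (Perm α))
    (h2 : IsMultiplyPretransitive G α 2) (hn : 3 ≤ Fintype.card α)
    (hA : ¬ alternatingGroup α ≤ G) (g : Perm α) (hg : g ∈ G) (hg1 : g ≠ 1) :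
    Fintype.card α ≤ (g.support.card - 1) ^ 2 := by
  classical
  have hprim : IsPreprimitive G α := isPreprimitive_of_is_two_pretransitive h2
  have hmu := three_lt_support G hprim hA g hg hg1
  by_contra hcon
  push Not at hcon
  obtain ⟨a, ha⟩ : ∃ a, a ∈ g.support := Finset.card_pos.1 (by omega)
  set D : Finset α := g.support.erase a with hD
  have hDcard : D.card = g.support.card - 1 := Finset.card_erase_of_mem ha
  have haD : a ∉ D := Finset.notMem_erase _ _
  have hDne : ∀ b ∈ D, b ≠ a := fun b hb => Finset.ne_of_mem_erase hb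
  -- the stabilizer of `a`
  let K := stabilizer G a
  have htr : ∀ b c : α, b ≠ a → c ≠ a → ∃ h : K, h • b = c := by
    intro b c hb hc
    obtain ⟨h, h3, h4⟩ := is_two_pretransitive_iff.1 h2 hb.symm hc.symm
    exact ⟨⟨h, h3⟩, h4⟩
  have horb : ∀ b : α, b ≠ a → Nat.card (orbit K b) = Fintype.card α - 1 := by
    intro b hb
    have h3 : orbit K b = ((Finset.univ.erase a : Finset α) : Set α) := by
      ext c
      rw [Finset.mem_coe, Finset.mem_erase]
      constructor
      · rintro ⟨h, rfl⟩
        refine ⟨?_, Finset.mem_univ _⟩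
        intro h4
        have h5 : (h : G) • a = a := h.2
        have h6 : (h : G) • b = a := h4
        have h7 := h6.trans h5.symm
        exact hb (smul_left_cancel (h : G) h7)
      · rintro ⟨hc, -⟩
        exact htr b c hb hc
    rw [h3, Nat.card_coe_set_eq, Set.ncard_coe_finset, Finset.card_erase_of_mem (Finset.mem_univ a),
      Finset.card_univ]
  -- there is an element of `K` which moves `D` off itself
  have hex : ∃ h : K, ∀ b ∈ D, (h • b : α) ∉ D := by
    by_contra hcon2
    push Not at hcon2
    let S : Finset (K × (α × α)) :=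
      (Finset.univ ×ˢ (D ×ˢ D)).filter (fun u => (u.1 • u.2.1 : α) = u.2.2)
    -- first count
    have hc1 : S.card * (Fintype.card α - 1) = D.card * D.card * Nat.card K := by
      have h3 : S.card = ∑ u ∈ D ×ˢ D, (Finset.univ.filter (fun h : K => (h • u.1 : α) = u.2)).card := by
        rw [Finset.card_filter, Finset.sum_product_right]
        apply Finset.sum_congr rfl
        intro u _
        rw [Finset.card_filter]
      rw [h3, Finset.sum_mul]
      have h4 : ∀ u ∈ D ×ˢ D, (Finset.univ.filter (fun h : K => (h • u.1 : α) = u.2)).card *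
          (Fintype.card α - 1) = Nat.card K := by
        intro u hu
        rw [Finset.mem_product] at hu
        have h5 := card_carry (K := K) u.1 u.2 (htr u.1 u.2 (hDne _ hu.1) (hDne _ hu.2))
        rw [horb _ (hDne _ hu.1)] at h5
        rw [← h5]
        congr 1
        rw [Nat.card_eq_fintype_card, Fintype.card_subtype]
      rw [Finset.sum_congr rfl h4, Finset.sum_const, Finset.card_product, smul_eq_mul]
    -- second count
    have hc2 : Nat.card K + 1 ≤ S.card := by
      have h3 : S.card = ∑ h : K, ((D ×ˢ D).filter (fun u => (h • u.1 : α) = u.2)).card := by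
        rw [Finset.card_filter, Finset.sum_product]
        apply Finset.sum_congr rfl
        intro u _
        rw [Finset.card_filter]
      have h4 : ∀ h : K, 1 ≤ ((D ×ˢ D).filter (fun u => (h • u.1 : α) = u.2)).card := by
        intro h
        obtain ⟨b, hb, hb2⟩ := hcon2 h
        rw [Nat.succ_le_iff, Finset.card_pos]
        exact ⟨(b, h • b), Finset.mem_filter.2 ⟨Finset.mem_product.2 ⟨hb, hb2⟩, rfl⟩⟩
      have h5 : 2 ≤ ((D ×ˢ D).filter (fun u => ((1 : K) • u.1 : α) = u.2)).card := by
        have h6 : D.image (fun b => (b, b)) ⊆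
            (D ×ˢ D).filter (fun u => ((1 : K) • u.1 : α) = u.2) := by
          intro u hu
          obtain ⟨b, hb, rfl⟩ := Finset.mem_image.1 hu
          exact Finset.mem_filter.2 ⟨Finset.mem_product.2 ⟨hb, hb⟩, one_smul _ _⟩
        have h7 := Finset.card_le_card h6
        rw [Finset.card_image_of_injective _ (fun x y hxy => congrArg Prod.fst hxy)] at h7
        omega
      rw [h3, ← Finset.add_sum_erase _ _ (Finset.mem_univ (1 : K))]
      have h8 : ∑ h ∈ Finset.univ.erase (1 : K), 1 ≤ ∑ h ∈ Finset.univ.erase (1 : K),
          ((D ×ˢ D).filter (fun u => (h • u.1 : α) = u.2)).card :=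
        Finset.sum_le_sum fun h _ => h4 h
      rw [Finset.sum_const, smul_eq_mul, mul_one, Finset.card_erase_of_mem (Finset.mem_univ _),
        Finset.card_univ] at h8
      have h9 : 0 < Fintype.card K := Fintype.card_pos
      rw [Nat.card_eq_fintype_card]
      omega
    -- contradiction
    have h3 : D.card * D.card ≤ Fintype.card α - 1 := by
      rw [hDcard, ← pow_two]; omega
    have h4 : D.card * D.card * Nat.card K ≤ (Fintype.card α - 1) * Nat.card K :=
      Nat.mul_le_mul_right _ h3
    have h5 : (Nat.card K + 1) * (Fintype.card α - 1) ≤ S.card * (Fintype.card α - 1) :=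
      Nat.mul_le_mul_right _ hc2
    have h6 : 0 < Fintype.card α - 1 := by omega
    nlinarith
  obtain ⟨h, hh⟩ := hex
  have hha : ((h : G) : Perm α) a = a := h.2
  set y : Perm α := ((h : G) : Perm α) * g * ((h : G) : Perm α)⁻¹ with hy
  have hyG : y ∈ G := G.mul_mem (G.mul_mem (h : G).2 hg) (G.inv_mem (h : G).2)
  have hyne : ∀ z, y z ≠ z ↔ g (((h : G) : Perm α)⁻¹ z) ≠ ((h : G) : Perm α)⁻¹ z := by
    intro z
    rw [hy, Perm.mul_apply, Perm.mul_apply]
    rw [not_iff_not]
    constructor
    · intro h3
      rw [Perm.eq_inv_iff_eq]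
      exact h3
    · intro h3
      rw [h3]
      exact ((h : G) : Perm α).apply_symm_apply z
  have hinva : ((h : G) : Perm α)⁻¹ a = a := by
    rw [Perm.inv_eq_iff_eq]
    exact hha.symm
  have h3c : (g * y * g⁻¹ * y⁻¹).IsThreeCycle := by
    apply PermutationGroups.PSBochert.isThreeCycle_commutator g y a (Perm.mem_support.1 ha)
    · rw [hyne, hinva]
      exact Perm.mem_support.1 ha
    · intro z hz1 hz2
      by_contra hza
      rw [hyne] at hz2
      have h3 : ((h : G) : Perm α)⁻¹ z ∈ g.support := Perm.mem_support.2 hz2
      have h4 : ((h : G) : Perm α)⁻¹ z ≠ a := by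
        intro h5
        rw [Perm.inv_eq_iff_eq] at h5
        rw [hha] at h5
        exact hza h5
      have h5 : ((h : G) : Perm α)⁻¹ z ∈ D := Finset.mem_erase.2 ⟨h4, h3⟩
      apply hh _ h5
      have h6 : (h • (((h : G) : Perm α)⁻¹ z) : α) = z := by
        show ((h : G) : Perm α) (((h : G) : Perm α)⁻¹ z) = z
        exact ((h : G) : Perm α).apply_symm_apply z
      rw [h6]
      exact Finset.mem_erase.2 ⟨hza, Perm.mem_support.2 hz1⟩
  exact hA (alternatingGroup_le_of_isPreprimitive_of_isThreeCycle_mem hprim h3c
    (G.mul_mem (G.mul_mem (G.mul_mem hg hyG) (G.inv_mem hg)) (G.inv_mem hyG)))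

end Cfsg.Agent.H901.MinDeg
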