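import Cfsg.Agent.PermutationGroups.OrderBound.NumSmall
import Cfsg.Agent.PermutationGroups.OrderBound.NumMid
import Cfsg.Agent.PermutationGroups.OrderBound.NumLarge

/-!
# The order bound `3 ^ n` for primitive groups of degree `n ≥ 349`: numerics
-/

set_option autoImplicit false

namespace Cfsg.Agent.H901.PrimBig

open Cfsg.Agent.PermutationGroups.OrderBound
open Cfsg.Agent.PermutationGroups.OrderBound.Defs

/-- the numerical statement with `3 ^ n`. -/
def Good3 (n j : ℕ) : Prop :=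
  (n.descFactorial (j - 1) : ℝ) * UB (n - j + 1) (dmin (n - j + 1)) ≤ 3 ^ n ∧
  (2 ≤ j → ∀ b, 2 ≤ b → 2 * b ≤ n - j + 1 → b ∣ n - j + 1 →
    ∃ c : ℕ, 1 ≤ c ∧ (n.descFactorial (j - 2) : ℝ) * IB (n - j + 2) b c ≤ 3 ^ n)

/-! ### Degrees up to 1434 -/

section Small

open NumSmall

/-- comparing `n! / m!` with `n₂! / m₁!` -/
theorem final_le3 (n n2 m1 k L : ℕ) (hn : 3 ≤ n) (hn2 : n ≤ n2) (hk : k ≤ n) (hm1 : m1 ≤ n - k)
    (x : ℝ) (hx : x * 1048576 ≤ L)
    (hchk : n2.descFactorial (n2 - m1) * L ≤ 3 ^ n2 * 1048576) :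
    (n.descFactorial k : ℝ) * x ≤ 3 ^ n := by
  have h1 : n.descFactorial k * 3 ^ (n2 - n) ≤ n2.descFactorial (n2 - m1) := by
    have e1 : m1.factorial * n2.descFactorial (n2 - m1) = n2.factorial := by
      have := Nat.factorial_mul_descFactorial (n := n2) (k := n2 - m1) (by omega)
      rwa [Nat.sub_sub_self (by omega)] at this
    have e2 := Nat.factorial_mul_descFactorial hk
    have e3 : n.factorial * (n + 1) ^ (n2 - n) ≤ n2.factorial := by
      have := Nat.factorial_mul_pow_le_factorial (m := n) (n := n2 - n)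
      rwa [Nat.add_sub_cancel' hn2] at this
    have e4 : n.factorial * 3 ^ (n2 - n) ≤ n2.factorial :=
      le_trans (Nat.mul_le_mul_left _ (Nat.pow_le_pow_left (by omega) _)) e3
    have e5 : m1.factorial ≤ (n - k).factorial := Nat.factorial_le hm1
    have e6 : m1.factorial * (n.descFactorial k * 3 ^ (n2 - n)) ≤
        m1.factorial * n2.descFactorial (n2 - m1) := by
      rw [e1, ← mul_assoc]
      refine le_trans (Nat.mul_le_mul_right _ (Nat.mul_le_mul_right _ e5)) ?_
      rw [e2]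
      exact e4
    exact Nat.le_of_mul_le_mul_left e6 (Nat.factorial_pos _)
  have h2 : n.descFactorial k * 3 ^ (n2 - n) * L ≤ 3 ^ n2 * 1048576 :=
    le_trans (Nat.mul_le_mul_right _ h1) hchk
  have h3 : n.descFactorial k * L ≤ 3 ^ n * 1048576 := by
    have e : 3 ^ n2 = 3 ^ n * 3 ^ (n2 - n) := by
      rw [← pow_add, Nat.add_sub_cancel' hn2]
    rw [e] at h2
    have e7 : 3 ^ (n2 - n) * (n.descFactorial k * L) ≤ 3 ^ (n2 - n) * (3 ^ n * 1048576) := by
      calc 3 ^ (n2 - n) * (n.descFactorial k * L) = n.descFactorial k * 3 ^ (n2 - n) * L := by ring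
        _ ≤ _ := h2
        _ = _ := by ring
    exact Nat.le_of_mul_le_mul_left e7 (by positivity)
  have h4 : (n.descFactorial k : ℝ) * L ≤ 3 ^ n * 1048576 := by exact_mod_cast h3
  have h5 : (n.descFactorial k : ℝ) * (x * 1048576) ≤ n.descFactorial k * L :=
    mul_le_mul_of_nonneg_left hx (by positivity)
  have h6 : (n.descFactorial k : ℝ) * x * 1048576 ≤ 3 ^ n * 1048576 := by
    rw [mul_assoc]; exact h5.trans h4
  exact le_of_mul_le_mul_right h6 (by norm_num)

/-- Check of the first inequality, degrees `m1 ≤ m ≤ M`, `n ≤ n2`. -/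
def chkU3 (m1 M n2 : ℕ) : Bool :=
  Nat.ble (Nat.mul (n2.descFactorial (n2 - m1))
    (loop 1 (fun r => Nat.sub r (dmin m1 - 1)) M ((M - 1) * 1048576) 1048576)) (3 ^ n2 * 1048576)

/-- Check of the second inequality, uniform in `b`, degrees `m1 ≤ m ≤ M`, `n ≤ n2`. -/
def chkI3 (m1 M n2 : ℕ) : Bool :=
  Nat.ble (Nat.mul (n2.descFactorial (n2 - m1))
    (loop 12
      (fun r => Nat.sub (Nat.mul 12 r) (Nat.sub (Nat.add (Nat.mul 8 (Nat.sub (Nat.sub M 1) r)) 12)
        (Nat.sub (Nat.add (Nat.mul 8 (Nat.sub (Nat.sub M 1) r)) 12) (Nat.add (Nat.mul 3 m1) 9))))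
      M (2 * (M - 1) * 1048576) 1048576)) (3 ^ n2 * 1048576)

/-- Blocks `n₁ ≤ n ≤ n₂`, checked at once. -/
theorem good_block3 (p q V n1 n2 : ℕ) (hp : p.Prime) (hp5 : 5 ≤ p) (hq : q = 1 ∨ q = 2)
    (hV : V = q * p) (h1 : V + 3 ≤ n1) (h2 : n2 < (q + 1) * p)
    (hU : chkU3 (V + 1) n2 n2 = true) (hI : chkI3 (V + 2) n2 n2 = true)
    (n j : ℕ) (hn : n1 ≤ n) (hn' : n ≤ n2) (hj : 1 ≤ j) (hjn : j ≤ n) (hK : Kcond n j) :
    Good3 n j := by
  have hjV : j + V ≤ n := by
    rw [hV]
    exact hK p q hp hp5 hq (by omega) (by omega)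
  refine ⟨?_, fun hj2 b _ hb _ => ⟨2, by norm_num, ?_⟩⟩
  · refine final_le3 n n2 (V + 1) (j - 1) _ (by omega) hn' (by omega) (by omega) _
      (UB_le (n - j + 1) n2 _ (dmin (V + 1) - 1) (by omega) (by omega) ?_)
      (Nat.le_of_ble_eq_true hU)
    have := dmin_pos (V + 1)
    have := dmin_mono (show V + 1 ≤ n - j + 1 by omega)
    omega
  · exact final_le3 n n2 (V + 2) (j - 2) _ (by omega) hn' (by omega) (by omega) _
      (IB_two_le (n - j + 2) n2 (V + 2) b (by omega) (by omega) (by omega) (by omega))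
      (Nat.le_of_ble_eq_true hI)

theorem cU0 : chkU3 347 356 356 = true := by decide +kernel
theorem cI0 : chkI3 348 356 356 = true := by decide +kernel
theorem cU1 : chkU3 354 363 363 = true := by decide +kernel
theorem cI1 : chkI3 355 363 363 = true := by decide +kernel
theorem cU2 : chkU3 360 369 369 = true := by decide +kernel
theorem cI2 : chkI3 361 369 369 = true := by decide +kernel
theorem cU3 : chkU3 368 378 378 = true := by decide +kernel
theorem cI3 : chkI3 369 378 378 = true := by decide +kernel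
theorem cU4 : chkU3 374 384 384 = true := by decide +kernel
theorem cI4 : chkI3 375 384 384 = true := by decide +kernel
theorem cU5 : chkU3 383 394 394 = true := by decide +kernel
theorem cI5 : chkI3 384 394 394 = true := by decide +kernel
theorem cU6 : chkU3 390 401 401 = true := by decide +kernel
theorem cI6 : chkI3 391 401 401 = true := by decide +kernel
theorem cU7 : chkU3 399 411 411 = true := by decide +kernel
theorem cI7 : chkI3 400 411 411 = true := by decide +kernel
theorem cU8 : chkU3 410 423 423 = true := by decide +kernel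
theorem cI8 : chkI3 411 423 423 = true := by decide +kernel
theorem cU9 : chkU3 422 435 435 = true := by decide +kernel
theorem cI9 : chkI3 423 435 435 = true := by decide +kernel
theorem cU10 : chkU3 434 448 448 = true := by decide +kernel
theorem cI10 : chkI3 435 448 448 = true := by decide +kernel
theorem cU11 : chkU3 447 462 462 = true := by decide +kernel
theorem cI11 : chkI3 448 462 462 = true := by decide +kernel
theorem cU12 : chkU3 459 475 475 = true := by decide +kernel
theorem cI12 : chkI3 460 475 475 = true := by decide +kernel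
theorem cU13 : chkU3 468 484 484 = true := by decide +kernel
theorem cI13 : chkI3 469 484 484 = true := by decide +kernel
theorem cU14 : chkU3 483 500 500 = true := by decide +kernel
theorem cI14 : chkI3 484 500 500 = true := by decide +kernel
theorem cU15 : chkU3 492 510 510 = true := by decide +kernel
theorem cI15 : chkI3 493 510 510 = true := by decide +kernel
theorem cU16 : chkU3 504 523 523 = true := by decide +kernel
theorem cI16 : chkI3 505 523 523 = true := by decide +kernel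
theorem cU17 : chkU3 522 542 542 = true := by decide +kernel
theorem cI17 : chkI3 523 542 542 = true := by decide +kernel
theorem cU18 : chkU3 539 560 560 = true := by decide +kernel
theorem cI18 : chkI3 540 560 560 = true := by decide +kernel
theorem cU19 : chkU3 558 581 581 = true := by decide +kernel
theorem cI19 : chkI3 559 581 581 = true := by decide +kernel
theorem cU20 : chkU3 578 602 602 = true := by decide +kernel
theorem cI20 : chkI3 579 602 602 = true := by decide +kernel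
theorem cU21 : chkU3 600 626 626 = true := by decide +kernel
theorem cI21 : chkI3 601 626 626 = true := by decide +kernel
theorem cU22 : chkU3 623 651 651 = true := by decide +kernel
theorem cI22 : chkI3 624 651 651 = true := by decide +kernel
theorem cU23 : chkU3 648 677 677 = true := by decide +kernel
theorem cI23 : chkI3 649 677 677 = true := by decide +kernel
theorem cU24 : chkU3 675 707 707 = true := by decide +kernel
theorem cI24 : chkI3 676 707 707 = true := by decide +kernel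
theorem cU25 : chkU3 702 734 734 = true := by decide +kernel
theorem cI25 : chkI3 703 734 734 = true := by decide +kernel
theorem cU26 : chkU3 728 763 763 = true := by decide +kernel
theorem cI26 : chkI3 729 763 763 = true := by decide +kernel
theorem cU27 : chkU3 762 800 800 = true := by decide +kernel
theorem cI27 : chkI3 763 800 800 = true := by decide +kernel
theorem cU28 : chkU3 798 837 837 = true := by decide +kernel
theorem cI28 : chkI3 799 837 837 = true := by decide +kernel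
theorem cU29 : chkU3 830 872 872 = true := by decide +kernel
theorem cI29 : chkI3 831 872 872 = true := by decide +kernel
theorem cU30 : chkU3 867 910 910 = true := by decide +kernel
theorem cI30 : chkI3 868 910 910 = true := by decide +kernel
theorem cU31 : chkU3 908 954 954 = true := by decide +kernel
theorem cI31 : chkI3 909 954 954 = true := by decide +kernel
theorem cU32 : chkU3 948 998 998 = true := by decide +kernel
theorem cI32 : chkI3 949 998 998 = true := by decide +kernel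
theorem cU33 : chkU3 992 1043 1043 = true := by decide +kernel
theorem cI33 : chkI3 993 1043 1043 = true := by decide +kernel
theorem cU34 : chkU3 1040 1095 1095 = true := by decide +kernel
theorem cI34 : chkI3 1041 1095 1095 = true := by decide +kernel
theorem cU35 : chkU3 1094 1153 1153 = true := by decide +kernel
theorem cI35 : chkI3 1095 1153 1153 = true := by decide +kernel
theorem cU36 : chkU3 1152 1216 1216 = true := by decide +kernel
theorem cI36 : chkI3 1153 1216 1216 = true := by decide +kernel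
theorem cU37 : chkU3 1215 1284 1284 = true := by decide +kernel
theorem cI37 : chkI3 1216 1284 1284 = true := by decide +kernel
theorem cU38 : chkU3 1283 1356 1356 = true := by decide +kernel
theorem cI38 : chkI3 1284 1356 1356 = true := by decide +kernel
theorem cU39 : chkU3 1355 1434 1434 = true := by decide +kernel
theorem cI39 : chkI3 1356 1434 1434 = true := by decide +kernel

theorem good3_small (n j : ℕ) (hn : 349 ≤ n) (hn' : n ≤ 1434) (hj : 1 ≤ j) (hjn : j ≤ n)
    (hK : Kcond n j) : Good3 n j := by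
  rcases Nat.lt_or_ge 356 n with g0 | g0
  swap
  · exact good_block3 173 2 346 349 356 (by norm_num) (by norm_num) (by norm_num) (by norm_num) (by norm_num) (by norm_num) cU0 cI0 n j (by omega) g0 hj hjn hK
  rcases Nat.lt_or_ge 363 n with g1 | g1
  swap
  · exact good_block3 353 1 353 357 363 (by norm_num) (by norm_num) (by norm_num) (by norm_num) (by norm_num) (by norm_num) cU1 cI1 n j (by omega) g1 hj hjn hK
  rcases Nat.lt_or_ge 369 n with g2 | g2
  swap
  · exact good_block3 359 1 359 364 369 (by norm_num) (by norm_num) (by norm_num) (by norm_num) (by norm_num) (by norm_num) cU2 cI2 n j (by omega) g2 hj hjn hK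
  rcases Nat.lt_or_ge 378 n with g3 | g3
  swap
  · exact good_block3 367 1 367 370 378 (by norm_num) (by norm_num) (by norm_num) (by norm_num) (by norm_num) (by norm_num) cU3 cI3 n j (by omega) g3 hj hjn hK
  rcases Nat.lt_or_ge 384 n with g4 | g4
  swap
  · exact good_block3 373 1 373 379 384 (by norm_num) (by norm_num) (by norm_num) (by norm_num) (by norm_num) (by norm_num) cU4 cI4 n j (by omega) g4 hj hjn hK
  rcases Nat.lt_or_ge 394 n with g5 | g5
  swap
  · exact good_block3 191 2 382 385 394 (by norm_num) (by norm_num) (by norm_num) (by norm_num) (by norm_num) (by norm_num) cU5 cI5 n j (by omega) g5 hj hjn hK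
  rcases Nat.lt_or_ge 401 n with g6 | g6
  swap
  · exact good_block3 389 1 389 395 401 (by norm_num) (by norm_num) (by norm_num) (by norm_num) (by norm_num) (by norm_num) cU6 cI6 n j (by omega) g6 hj hjn hK
  rcases Nat.lt_or_ge 411 n with g7 | g7
  swap
  · exact good_block3 199 2 398 402 411 (by norm_num) (by norm_num) (by norm_num) (by norm_num) (by norm_num) (by norm_num) cU7 cI7 n j (by omega) g7 hj hjn hK
  rcases Nat.lt_or_ge 423 n with g8 | g8
  swap
  · exact good_block3 409 1 409 412 423 (by norm_num) (by norm_num) (by norm_num) (by norm_num) (by norm_num) (by norm_num) cU8 cI8 n j (by omega) g8 hj hjn hK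
  rcases Nat.lt_or_ge 435 n with g9 | g9
  swap
  · exact good_block3 421 1 421 424 435 (by norm_num) (by norm_num) (by norm_num) (by norm_num) (by norm_num) (by norm_num) cU9 cI9 n j (by omega) g9 hj hjn hK
  rcases Nat.lt_or_ge 448 n with g10 | g10
  swap
  · exact good_block3 433 1 433 436 448 (by norm_num) (by norm_num) (by norm_num) (by norm_num) (by norm_num) (by norm_num) cU10 cI10 n j (by omega) g10 hj hjn hK
  rcases Nat.lt_or_ge 462 n with g11 | g11
  swap
  · exact good_block3 223 2 446 449 462 (by norm_num) (by norm_num) (by norm_num) (by norm_num) (by norm_num) (by norm_num) cU11 cI11 n j (by omega) g11 hj hjn hK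
  rcases Nat.lt_or_ge 475 n with g12 | g12
  swap
  · exact good_block3 229 2 458 463 475 (by norm_num) (by norm_num) (by norm_num) (by norm_num) (by norm_num) (by norm_num) cU12 cI12 n j (by omega) g12 hj hjn hK
  rcases Nat.lt_or_ge 484 n with g13 | g13
  swap
  · exact good_block3 467 1 467 476 484 (by norm_num) (by norm_num) (by norm_num) (by norm_num) (by norm_num) (by norm_num) cU13 cI13 n j (by omega) g13 hj hjn hK
  rcases Nat.lt_or_ge 500 n with g14 | g14
  swap
  · exact good_block3 241 2 482 485 500 (by norm_num) (by norm_num) (by norm_num) (by norm_num) (by norm_num) (by norm_num) cU14 cI14 n j (by omega) g14 hj hjn hK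
  rcases Nat.lt_or_ge 510 n with g15 | g15
  swap
  · exact good_block3 491 1 491 501 510 (by norm_num) (by norm_num) (by norm_num) (by norm_num) (by norm_num) (by norm_num) cU15 cI15 n j (by omega) g15 hj hjn hK
  rcases Nat.lt_or_ge 523 n with g16 | g16
  swap
  · exact good_block3 503 1 503 511 523 (by norm_num) (by norm_num) (by norm_num) (by norm_num) (by norm_num) (by norm_num) cU16 cI16 n j (by omega) g16 hj hjn hK
  rcases Nat.lt_or_ge 542 n with g17 | g17
  swap
  · exact good_block3 521 1 521 524 542 (by norm_num) (by norm_num) (by norm_num) (by norm_num) (by norm_num) (by norm_num) cU17 cI17 n j (by omega) g17 hj hjn hK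
  rcases Nat.lt_or_ge 560 n with g18 | g18
  swap
  · exact good_block3 269 2 538 543 560 (by norm_num) (by norm_num) (by norm_num) (by norm_num) (by norm_num) (by norm_num) cU18 cI18 n j (by omega) g18 hj hjn hK
  rcases Nat.lt_or_ge 581 n with g19 | g19
  swap
  · exact good_block3 557 1 557 561 581 (by norm_num) (by norm_num) (by norm_num) (by norm_num) (by norm_num) (by norm_num) cU19 cI19 n j (by omega) g19 hj hjn hK
  rcases Nat.lt_or_ge 602 n with g20 | g20
  swap
  · exact good_block3 577 1 577 582 602 (by norm_num) (by norm_num) (by norm_num) (by norm_num) (by norm_num) (by norm_num) cU20 cI20 n j (by omega) g20 hj hjn hK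
  rcases Nat.lt_or_ge 626 n with g21 | g21
  swap
  · exact good_block3 599 1 599 603 626 (by norm_num) (by norm_num) (by norm_num) (by norm_num) (by norm_num) (by norm_num) cU21 cI21 n j (by omega) g21 hj hjn hK
  rcases Nat.lt_or_ge 651 n with g22 | g22
  swap
  · exact good_block3 311 2 622 627 651 (by norm_num) (by norm_num) (by norm_num) (by norm_num) (by norm_num) (by norm_num) cU22 cI22 n j (by omega) g22 hj hjn hK
  rcases Nat.lt_or_ge 677 n with g23 | g23
  swap
  · exact good_block3 647 1 647 652 677 (by norm_num) (by norm_num) (by norm_num) (by norm_num) (by norm_num) (by norm_num) cU23 cI23 n j (by omega) g23 hj hjn hK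
  rcases Nat.lt_or_ge 707 n with g24 | g24
  swap
  · exact good_block3 337 2 674 678 707 (by norm_num) (by norm_num) (by norm_num) (by norm_num) (by norm_num) (by norm_num) cU24 cI24 n j (by omega) g24 hj hjn hK
  rcases Nat.lt_or_ge 734 n with g25 | g25
  swap
  · exact good_block3 701 1 701 708 734 (by norm_num) (by norm_num) (by norm_num) (by norm_num) (by norm_num) (by norm_num) cU25 cI25 n j (by omega) g25 hj hjn hK
  rcases Nat.lt_or_ge 763 n with g26 | g26
  swap
  · exact good_block3 727 1 727 735 763 (by norm_num) (by norm_num) (by norm_num) (by norm_num) (by norm_num) (by norm_num) cU26 cI26 n j (by omega) g26 hj hjn hK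
  rcases Nat.lt_or_ge 800 n with g27 | g27
  swap
  · exact good_block3 761 1 761 764 800 (by norm_num) (by norm_num) (by norm_num) (by norm_num) (by norm_num) (by norm_num) cU27 cI27 n j (by omega) g27 hj hjn hK
  rcases Nat.lt_or_ge 837 n with g28 | g28
  swap
  · exact good_block3 797 1 797 801 837 (by norm_num) (by norm_num) (by norm_num) (by norm_num) (by norm_num) (by norm_num) cU28 cI28 n j (by omega) g28 hj hjn hK
  rcases Nat.lt_or_ge 872 n with g29 | g29
  swap
  · exact good_block3 829 1 829 838 872 (by norm_num) (by norm_num) (by norm_num) (by norm_num) (by norm_num) (by norm_num) cU29 cI29 n j (by omega) g29 hj hjn hK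
  rcases Nat.lt_or_ge 910 n with g30 | g30
  swap
  · exact good_block3 433 2 866 873 910 (by norm_num) (by norm_num) (by norm_num) (by norm_num) (by norm_num) (by norm_num) cU30 cI30 n j (by omega) g30 hj hjn hK
  rcases Nat.lt_or_ge 954 n with g31 | g31
  swap
  · exact good_block3 907 1 907 911 954 (by norm_num) (by norm_num) (by norm_num) (by norm_num) (by norm_num) (by norm_num) cU31 cI31 n j (by omega) g31 hj hjn hK
  rcases Nat.lt_or_ge 998 n with g32 | g32
  swap
  · exact good_block3 947 1 947 955 998 (by norm_num) (by norm_num) (by norm_num) (by norm_num) (by norm_num) (by norm_num) cU32 cI32 n j (by omega) g32 hj hjn hK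
  rcases Nat.lt_or_ge 1043 n with g33 | g33
  swap
  · exact good_block3 991 1 991 999 1043 (by norm_num) (by norm_num) (by norm_num) (by norm_num) (by norm_num) (by norm_num) cU33 cI33 n j (by omega) g33 hj hjn hK
  rcases Nat.lt_or_ge 1095 n with g34 | g34
  swap
  · exact good_block3 1039 1 1039 1044 1095 (by norm_num) (by norm_num) (by norm_num) (by norm_num) (by norm_num) (by norm_num) cU34 cI34 n j (by omega) g34 hj hjn hK
  rcases Nat.lt_or_ge 1153 n with g35 | g35
  swap
  · exact good_block3 1093 1 1093 1096 1153 (by norm_num) (by norm_num) (by norm_num) (by norm_num) (by norm_num) (by norm_num) cU35 cI35 n j (by omega) g35 hj hjn hK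
  rcases Nat.lt_or_ge 1216 n with g36 | g36
  swap
  · exact good_block3 1151 1 1151 1154 1216 (by norm_num) (by norm_num) (by norm_num) (by norm_num) (by norm_num) (by norm_num) cU36 cI36 n j (by omega) g36 hj hjn hK
  rcases Nat.lt_or_ge 1284 n with g37 | g37
  swap
  · exact good_block3 607 2 1214 1217 1284 (by norm_num) (by norm_num) (by norm_num) (by norm_num) (by norm_num) (by norm_num) cU37 cI37 n j (by omega) g37 hj hjn hK
  rcases Nat.lt_or_ge 1356 n with g38 | g38
  swap
  · exact good_block3 641 2 1282 1285 1356 (by norm_num) (by norm_num) (by norm_num) (by norm_num) (by norm_num) (by norm_num) cU38 cI38 n j (by omega) g38 hj hjn hK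
  rcases Nat.lt_or_ge 1434 n with g39 | g39
  swap
  · exact good_block3 677 2 1354 1357 1434 (by norm_num) (by norm_num) (by norm_num) (by norm_num) (by norm_num) (by norm_num) cU39 cI39 n j (by omega) g39 hj hjn hK
  omega

end Small

/-! ### Degrees below `2 ^ 23` -/

section Mid

open NumBlocks NumMid

theorem bits_bound3 (f g : ℕ → ℕ) (hg : ∀ i, 1 ≤ g i) (s K n1 h : ℕ)
    (hE : 32 + s * sumLg f g K + h * lg n1 1 ≤ 25 * n1) :
    (4 * ∏ i ∈ Finset.range K, ((f i : ℝ) / g i) ^ s) * (n1 : ℝ) ^ h ≤ 3 ^ n1 := by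
  have h0 : (0 : ℝ) ≤ ∏ i ∈ Finset.range K, ((f i : ℝ) / g i) ^ s :=
    Finset.prod_nonneg fun i _ => by positivity
  refine le_of_pow_le_pow_left₀ (n := 16) (by norm_num) (by positivity) ?_
  have e1 : ((4 * ∏ i ∈ Finset.range K, ((f i : ℝ) / g i) ^ s) * (n1 : ℝ) ^ h) ^ 16 =
      2 ^ 32 * (∏ i ∈ Finset.range K, (((f i : ℝ) / g i) ^ 16)) ^ s *
        (((n1 : ℝ) / ((1 : ℕ) : ℝ)) ^ 16) ^ h := by
    rw [mul_pow, mul_pow, ← Finset.prod_pow, ← Finset.prod_pow, Nat.cast_one, div_one]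
    congr 1
    · congr 1
      · norm_num
      · apply Finset.prod_congr rfl
        intro i _
        rw [← pow_mul, ← pow_mul, mul_comm]
    · rw [← pow_mul, ← pow_mul, mul_comm]
  rw [e1]
  have h2 : (∏ i ∈ Finset.range K, (((f i : ℝ) / g i) ^ 16)) ^ s ≤ (2 ^ sumLg f g K) ^ s :=
    pow_le_pow_left₀ (Finset.prod_nonneg fun i _ => by positivity) (sumLg_spec f g hg K) s
  have h3 : (((n1 : ℝ) / ((1 : ℕ) : ℝ)) ^ 16) ^ h ≤ (2 ^ lg n1 1) ^ h :=
    pow_le_pow_left₀ (by positivity) (lg_spec n1 1 le_rfl) h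
  calc (2 : ℝ) ^ 32 * (∏ i ∈ Finset.range K, (((f i : ℝ) / g i) ^ 16)) ^ s *
        (((n1 : ℝ) / ((1 : ℕ) : ℝ)) ^ 16) ^ h
      ≤ 2 ^ 32 * (2 ^ sumLg f g K) ^ s * (2 ^ lg n1 1) ^ h := by
        apply mul_le_mul _ h3 (by positivity) (by positivity)
        exact mul_le_mul_of_nonneg_left h2 (by positivity)
    _ = 2 ^ (32 + s * sumLg f g K + h * lg n1 1) := by
        rw [← pow_mul, ← pow_mul, ← pow_add, ← pow_add, mul_comm (sumLg f g K) s,
          mul_comm (lg n1 1) h]
    _ ≤ 2 ^ (25 * n1) := pow_le_pow_right₀ (by norm_num) hE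
    _ = (2 ^ 25) ^ n1 := by rw [pow_mul]
    _ ≤ (3 ^ 16) ^ n1 := pow_le_pow_left₀ (by norm_num) (by norm_num) _
    _ = (3 ^ n1) ^ 16 := by rw [← pow_mul, ← pow_mul, mul_comm]

/-- the check for the block `p + 3 ≤ n ≤ p' + 2`. -/
def chk3 (p p' D sU KU sI KI : ℕ) : Bool :=
  Nat.ble 5 p && Nat.blt p p' && Nat.blt (p' + 2) (2 * p) && Nat.ble 1 D &&
  Nat.ble (p' + 1) (D * (D - 1)) &&
  Nat.ble 1 sU && Nat.ble (2 * (D - 1) ^ sU) (D ^ sU) && Nat.ble ((p' + 1) * (p' + 2)) (2 ^ KU) &&
  Nat.ble 1 sI && Nat.ble (2 * (3 * (p' + 1) - 2 * sI) ^ sI) ((3 * (p' + 1)) ^ sI) &&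
  Nat.ble (8 * KI * sI) (3 * (p' + 1)) &&
  Nat.ble (2 * (p' + 1) * (p' + 2)) (2 ^ (KI * (KI - 1) / 2)) &&
  Nat.ble (32 + sU * sumLg (fun i => 2 ^ i + (p' + 1)) (fun i => 2 ^ i) KU +
    (p' - p + 1) * lg (p' + 2) 1) (25 * (p' + 2)) &&
  Nat.ble (32 + sI * sumLg (fun i => 2 ^ (i * (i - 1) / 2) + 2 * (p' + 1))
    (fun i => 2 ^ (i * (i - 1) / 2)) KI + (p' - p) * lg (p' + 2) 1) (25 * (p' + 2))

/-- from the end of a block to any point of it. -/
theorem shift_bound3 (n n1 e : ℕ) (C : ℝ) (hC : 0 ≤ C) (hn1 : 4 ≤ n1) (hnn : n ≤ n1)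
    (h : C * (n1 : ℝ) ^ (e + (n1 - n)) ≤ 3 ^ n1) : C * (n1 : ℝ) ^ e ≤ 3 ^ n := by
  obtain ⟨r, hr⟩ := Nat.exists_eq_add_of_le hnn
  have hr' : n1 - n = r := by omega
  rw [hr', pow_add] at h
  have h4 : (3 : ℝ) ≤ (n1 : ℝ) := by
    have : (4 : ℝ) ≤ (n1 : ℝ) := by exact_mod_cast hn1
    linarith
  have h5 : (3 : ℝ) ^ r ≤ (n1 : ℝ) ^ r := pow_le_pow_left₀ (by norm_num) h4 r
  have h6 : (3 : ℝ) ^ n1 = 3 ^ n * 3 ^ r := by rw [← pow_add]; congr 1
  have h7 : C * (n1 : ℝ) ^ e * 3 ^ r ≤ 3 ^ n * 3 ^ r := by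
    rw [← h6]
    calc C * (n1 : ℝ) ^ e * 3 ^ r ≤ C * (n1 : ℝ) ^ e * (n1 : ℝ) ^ r :=
          mul_le_mul_of_nonneg_left h5 (by positivity)
      _ = C * ((n1 : ℝ) ^ e * (n1 : ℝ) ^ r) := by ring
      _ ≤ _ := h
  exact le_of_mul_le_mul_right h7 (by positivity)

theorem good_block_mid (p p' D sU KU sI KI n j : ℕ) (hp : p.Prime)
    (hchk : chk3 p p' D sU KU sI KI = true) (hn : p + 3 ≤ n) (hn' : n ≤ p' + 2) (hj : 1 ≤ j)
    (hK : Kcond n j) : Good3 n j := by
  simp only [chk3, Bool.and_eq_true, Nat.ble_eq, Nat.blt_eq] at hchk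
  obtain ⟨⟨⟨⟨⟨⟨⟨⟨⟨⟨⟨⟨⟨h1, h2⟩, h3⟩, h4⟩, h5⟩, h6⟩, h7⟩, h8⟩, h9⟩, h10⟩, h11⟩, h12⟩, h13⟩, h14⟩ :=
    hchk
  have hjn : j + 1 * p ≤ n := hK p 1 hp h1 (Or.inl rfl) (by omega) (by omega)
  have hfg1 : ∀ i : ℕ, 1 + ((p' + 2 - 1 : ℕ) : ℝ) / 2 ^ i =
      (((2 ^ i + (p' + 1) : ℕ) : ℝ) / ((2 ^ i : ℕ) : ℝ)) := by
    intro i
    rw [show p' + 2 - 1 = p' + 1 by omega]
    push_cast
    field_simp
  have hfg2 : ∀ i : ℕ, 1 + ((2 * (p' + 2 - 1) : ℕ) : ℝ) / 2 ^ (i * (i - 1) / 2) =
      (((2 ^ (i * (i - 1) / 2) + 2 * (p' + 1) : ℕ) : ℝ) / ((2 ^ (i * (i - 1) / 2) : ℕ) : ℝ)) := by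
    intro i
    rw [show p' + 2 - 1 = p' + 1 by omega]
    push_cast
    field_simp
  have hnR : (n : ℝ) ≤ ((p' + 2 : ℕ) : ℝ) := by exact_mod_cast hn'
  have hn1R : (1 : ℝ) ≤ ((p' + 2 : ℕ) : ℝ) := by
    have : 1 ≤ p' + 2 := by omega
    exact_mod_cast this
  refine ⟨?_, ?_⟩
  · have hU := UB_blocks (n - j + 1) (p' + 2) D sU KU (by omega) (by omega) h4
      (by simpa using h5) h6 h7 (by simpa using h8)
    simp only [hfg1] at hU
    have hE := bits_bound3 (fun i => 2 ^ i + (p' + 1)) (fun i => 2 ^ i)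
      (fun i => Nat.one_le_two_pow) sU KU (p' + 2) (p' - p + 1) h13
    set C : ℝ := 4 * ∏ i ∈ Finset.range KU,
      (((2 ^ i + (p' + 1) : ℕ) : ℝ) / ((2 ^ i : ℕ) : ℝ)) ^ sU with hCdef
    have hC0 : 0 ≤ C := by
      apply mul_nonneg (by norm_num)
      exact Finset.prod_nonneg fun i _ => by positivity
    have hD : (n.descFactorial (j - 1) : ℝ) ≤ ((p' + 2 : ℕ) : ℝ) ^ (n - p - 1) := by
      calc (n.descFactorial (j - 1) : ℝ) ≤ ((n ^ (j - 1) : ℕ) : ℝ) := by
            exact_mod_cast Nat.descFactorial_le_pow n (j - 1)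
        _ = (n : ℝ) ^ (j - 1) := by push_cast; ring
        _ ≤ ((p' + 2 : ℕ) : ℝ) ^ (j - 1) := pow_le_pow_left₀ (Nat.cast_nonneg _) hnR _
        _ ≤ _ := pow_le_pow_right₀ hn1R (by omega)
    have hfin := shift_bound3 n (p' + 2) (n - p - 1) C hC0 (by omega) hn' (by
      rw [show n - p - 1 + (p' + 2 - n) = p' - p + 1 by omega]
      exact hE)
    calc (n.descFactorial (j - 1) : ℝ) * UB (n - j + 1) (dmin (n - j + 1))
        ≤ (n.descFactorial (j - 1) : ℝ) * C := mul_le_mul_of_nonneg_left hU (Nat.cast_nonneg _)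
      _ ≤ ((p' + 2 : ℕ) : ℝ) ^ (n - p - 1) * C := mul_le_mul_of_nonneg_right hD hC0
      _ = C * ((p' + 2 : ℕ) : ℝ) ^ (n - p - 1) := mul_comm _ _
      _ ≤ 3 ^ n := hfin
  · intro hj2 b hb hb2 _
    refine ⟨2, by norm_num, ?_⟩
    have hI := IB_blocks (n - j + 2) (p' + 2) b sI KI (by omega) (by omega) hb (by omega) h9
      (by simpa using h10) (by simpa using h11) (by simpa using h12)
    simp only [hfg2] at hI
    have hE := bits_bound3 (fun i => 2 ^ (i * (i - 1) / 2) + 2 * (p' + 1))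
      (fun i => 2 ^ (i * (i - 1) / 2)) (fun i => Nat.one_le_two_pow) sI KI (p' + 2) (p' - p) h14
    set C : ℝ := 4 * ∏ i ∈ Finset.range KI,
      (((2 ^ (i * (i - 1) / 2) + 2 * (p' + 1) : ℕ) : ℝ) / ((2 ^ (i * (i - 1) / 2) : ℕ) : ℝ)) ^ sI
      with hCdef
    have hC0 : 0 ≤ C := by
      apply mul_nonneg (by norm_num)
      exact Finset.prod_nonneg fun i _ => by positivity
    have hD : (n.descFactorial (j - 2) : ℝ) ≤ ((p' + 2 : ℕ) : ℝ) ^ (n - p - 2) := by
      calc (n.descFactorial (j - 2) : ℝ) ≤ ((n ^ (j - 2) : ℕ) : ℝ) := by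
            exact_mod_cast Nat.descFactorial_le_pow n (j - 2)
        _ = (n : ℝ) ^ (j - 2) := by push_cast; ring
        _ ≤ ((p' + 2 : ℕ) : ℝ) ^ (j - 2) := pow_le_pow_left₀ (Nat.cast_nonneg _) hnR _
        _ ≤ _ := pow_le_pow_right₀ hn1R (by omega)
    have hfin := shift_bound3 n (p' + 2) (n - p - 2) C hC0 (by omega) hn' (by
      rw [show n - p - 2 + (p' + 2 - n) = p' - p by omega]
      exact hE)
    calc (n.descFactorial (j - 2) : ℝ) * IB (n - j + 2) b 2
        ≤ (n.descFactorial (j - 2) : ℝ) * C := mul_le_mul_of_nonneg_left hI (Nat.cast_nonneg _)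
      _ ≤ ((p' + 2 : ℕ) : ℝ) ^ (n - p - 2) * C := mul_le_mul_of_nonneg_right hD hC0
      _ = C * ((p' + 2 : ℕ) : ℝ) ^ (n - p - 2) := mul_comm _ _
      _ ≤ 3 ^ n := hfin

/-- the check of the whole chain. -/
def chkAll3 : ℕ → List (ℕ × ℕ × ℕ × ℕ × ℕ × ℕ) → Bool
  | _, [] => true
  | p, (p', D, sU, KU, sI, KI) :: l =>
    Nat.ble 2 p && noDiv p 3000 2 && chk3 p p' D sU KU sI KI && chkAll3 p' l

theorem good_chain3 (l : List (ℕ × ℕ × ℕ × ℕ × ℕ × ℕ)) : ∀ p, chkAll3 p l = true →
    ∀ n j, p + 3 ≤ n → n ≤ lastP p l + 2 → 1 ≤ j → Kcond n j → Good3 n j := by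
  induction l with
  | nil =>
    intro p _ n j h1 h2
    rw [lastP] at h2
    omega
  | cons a l ih =>
    obtain ⟨p', D, sU, KU, sI, KI⟩ := a
    intro p h n j h1 h2 hj hK
    rw [chkAll3, Bool.and_eq_true, Bool.and_eq_true, Bool.and_eq_true, Nat.ble_eq] at h
    obtain ⟨⟨⟨ha, hb⟩, hc⟩, hd⟩ := h
    rcases Nat.lt_or_ge (p' + 2) n with hlt | hge
    · exact ih p' hd n j (by omega) h2 hj hK
    · exact good_block_mid p p' D sU KU sI KI n j (prime_of_noDiv p 3000 ha hb) hc h1 hge hj hK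

/-- the chain of primes, with the parameters of the blocks. -/
def data3 : List (ℕ × ℕ × ℕ × ℕ × ℕ × ℕ) := [
   (1453, 39, 27, 22, 39, 8), (1481, 39, 27, 22, 40, 8), (1511, 40, 28, 22, 40, 8), (1543, 40, 28, 22, 40, 8),
   (1579, 41, 29, 22, 41, 8), (1621, 41, 29, 22, 41, 8), (1663, 42, 29, 22, 42, 8), (1709, 42, 29, 22, 42, 8),
   (1753, 43, 30, 22, 43, 8), (1801, 43, 30, 22, 44, 8), (1847, 44, 31, 22, 44, 8), (1901, 45, 31, 22, 45, 8),
   (1951, 45, 31, 22, 45, 8), (2017, 46, 32, 22, 46, 8), (2083, 47, 33, 23, 47, 8), (2153, 47, 33, 23, 48, 8),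
   (2221, 48, 33, 23, 48, 8), (2297, 49, 34, 23, 49, 8), (2383, 50, 35, 23, 50, 8), (2477, 51, 36, 23, 51, 8),
   (2579, 52, 36, 23, 52, 8), (2689, 53, 37, 23, 53, 8), (2803, 54, 38, 23, 54, 8), (2927, 55, 38, 24, 56, 8),
   (3061, 56, 39, 24, 57, 8), (3203, 58, 40, 24, 58, 8), (3361, 59, 41, 24, 59, 8), (3529, 60, 42, 24, 61, 8),
   (3709, 62, 43, 24, 62, 8), (3907, 64, 45, 24, 64, 8), (4111, 65, 45, 25, 66, 8), (4337, 67, 47, 25, 67, 8),
   (4583, 69, 48, 25, 69, 8), (4831, 71, 49, 25, 71, 8), (5113, 73, 51, 25, 73, 8), (5419, 75, 52, 25, 75, 8),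
   (5749, 77, 54, 25, 78, 8), (6101, 79, 55, 26, 80, 8), (6481, 82, 57, 26, 82, 8), (6899, 84, 58, 26, 85, 8),
   (7351, 87, 60, 26, 88, 8), (7829, 89, 62, 26, 91, 8), (8353, 92, 64, 27, 94, 8), (8923, 95, 66, 27, 97, 8),
   (9533, 99, 69, 27, 100, 8), (10181, 102, 71, 27, 103, 8), (10891, 105, 73, 27, 107, 8), (11633, 109, 76, 28, 110, 9),
   (12457, 113, 78, 28, 114, 9), (13339, 116, 81, 28, 118, 9), (14303, 121, 84, 28, 122, 9), (15331, 125, 87, 28, 127, 9),
   (16453, 129, 90, 29, 131, 9), (17669, 134, 93, 29, 136, 9), (18979, 139, 97, 29, 141, 9), (20393, 144, 100, 29, 146, 9),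
   (21937, 149, 103, 29, 151, 9), (23593, 155, 108, 30, 157, 9), (25391, 160, 111, 30, 163, 9), (27337, 166, 115, 30, 169, 9),
   (29437, 173, 120, 30, 175, 9), (31699, 179, 124, 30, 182, 9), (34159, 186, 129, 31, 189, 9), (36821, 193, 134, 31, 196, 9),
   (39679, 200, 139, 31, 203, 9), (42787, 208, 144, 31, 211, 9), (46153, 216, 150, 31, 219, 9), (49789, 224, 155, 32, 228, 9),
   (53699, 233, 162, 32, 237, 9), (57923, 242, 168, 32, 246, 9), (62507, 251, 174, 32, 255, 9), (67453, 261, 181, 33, 265, 9),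
   (72797, 271, 188, 33, 275, 9), (78583, 281, 195, 33, 286, 9), (84857, 292, 203, 33, 297, 9), (91631, 304, 211, 33, 309, 9),
   (98939, 316, 219, 34, 321, 9), (106801, 328, 228, 34, 334, 9), (115279, 341, 237, 34, 347, 9), (124489, 354, 246, 34, 360, 9),
   (134417, 368, 255, 35, 374, 9), (145133, 382, 265, 35, 389, 9), (156683, 397, 275, 35, 404, 9), (169181, 412, 286, 35, 420, 9),
   (182659, 428, 297, 35, 436, 9), (197161, 445, 309, 36, 453, 10), (212801, 462, 320, 36, 471, 10), (229727, 480, 333, 36, 489, 10),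
   (247957, 499, 346, 36, 508, 10), (267593, 518, 359, 37, 528, 10), (288731, 538, 373, 37, 548, 10), (311561, 559, 388, 37, 569, 10),
   (336121, 581, 403, 37, 591, 10), (362561, 603, 418, 37, 614, 10), (390991, 626, 434, 38, 638, 10), (421661, 650, 451, 38, 662, 10),
   (454673, 675, 468, 38, 688, 10), (490151, 701, 486, 38, 714, 10), (528263, 728, 505, 39, 741, 10), (569369, 756, 524, 39, 770, 10),
   (613523, 784, 544, 39, 799, 10), (660949, 814, 564, 39, 829, 10), (711847, 845, 586, 39, 861, 10), (766679, 877, 608, 40, 893, 10),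
   (825509, 910, 631, 40, 927, 10), (888637, 944, 654, 40, 962, 10), (956587, 979, 679, 40, 998, 10), (1029433, 1016, 704, 40, 1035, 10),
   (1107553, 1053, 730, 41, 1073, 10), (1191563, 1093, 758, 41, 1113, 10), (1281587, 1133, 785, 41, 1155, 10), (1378019, 1175, 815, 41, 1197, 10),
   (1481671, 1218, 844, 41, 1242, 10), (1592639, 1263, 876, 42, 1287, 10), (1711447, 1309, 907, 42, 1334, 10), (1839001, 1357, 941, 42, 1383, 10),
   (1975511, 1407, 975, 42, 1433, 10), (2121503, 1458, 1011, 43, 1486, 10), (2278181, 1510, 1047, 43, 1539, 10), (2445697, 1565, 1085, 43, 1595, 10),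
   (2624753, 1621, 1124, 43, 1652, 10), (2816717, 1679, 1164, 43, 1712, 10), (3021797, 1739, 1206, 44, 1773, 10), (3240851, 1801, 1249, 44, 1836, 10),
   (3475489, 1865, 1293, 44, 1901, 10), (3726029, 1931, 1339, 44, 1969, 10), (3994279, 2000, 1386, 44, 2038, 10), (4280581, 2070, 1435, 45, 2110, 11),
   (4586017, 2142, 1485, 45, 2184, 11), (4912807, 2217, 1537, 45, 2260, 11), (5261261, 2295, 1591, 45, 2339, 11), (5633959, 2375, 1646, 45, 2421, 11),
   (6031213, 2457, 1703, 46, 2504, 11), (6455837, 2542, 1762, 46, 2591, 11), (6908287, 2629, 1822, 46, 2680, 11), (7390151, 2719, 1885, 46, 2772, 11),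
   (7904873, 2813, 1950, 46, 2867, 11), (8452879, 2908, 2016, 47, 2965, 11)
  ]

theorem chkAll_data3 : chkAll3 1423 data3 = true := by decide +kernel

theorem good3_mid (n j : ℕ) (hn : 1426 ≤ n) (hn' : n < 2 ^ 23) (hj : 1 ≤ j) (hK : Kcond n j) :
    Good3 n j := by
  have hlast : lastP 1423 data3 = 8452879 := by decide +kernel
  refine good_chain3 data3 1423 chkAll_data3 n j (by omega) ?_ hj hK
  rw [hlast]
  have : (2 : ℕ) ^ 23 = 8388608 := by norm_num
  omega

end Mid

/-! ### Large degrees -/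

section Large

open NumLarge

theorem pow_bound3 (J : ℕ) (hJ : 23 ≤ J) : (4 * J ^ 2 + 18 * J + 25) ^ 2 ≤ 2 ^ J := by
  induction J, hJ using Nat.le_induction with
  | base => norm_num
  | succ J hJ ih =>
    have h1 : (4 * (J + 1) ^ 2 + 18 * (J + 1) + 25) ^ 2 ≤ 2 * (4 * J ^ 2 + 18 * J + 25) ^ 2 := by
      obtain ⟨k, rfl⟩ : ∃ k, J = k + 23 := ⟨J - 23, by omega⟩
      ring_nf
      nlinarith [Nat.zero_le k, Nat.zero_le (k ^ 2), Nat.zero_le (k ^ 3), Nat.zero_le (k ^ 4)]
    rw [pow_succ 2 J]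
    linarith

theorem good3_large (n j : ℕ) (hn : 2 ^ 23 ≤ n) (hj : 1 ≤ j) (hjn : j ≤ n) (hW : Wcond n j) :
    Good3 n j := by
  set J := Nat.log 2 n with hJdef
  have hn0 : n ≠ 0 := by
    have : 0 < 2 ^ 23 := by norm_num
    omega
  have hJ : 23 ≤ J := (Nat.le_log_iff_pow_le (by norm_num) hn0).mpr hn
  have hJn : 2 ^ J ≤ n := Nat.pow_log_le_self 2 hn0
  have hnJ : n < 2 ^ (J + 1) := Nat.lt_pow_succ_log_self (by norm_num) n
  have hdeg := degree_bound n j J hJ hJn hnJ hW
  set r := Nat.sqrt n with hr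
  have hr1 : 4 * J ^ 2 + 18 * J + 25 ≤ r := by
    rw [hr, Nat.le_sqrt, ← sq]
    exact (pow_bound3 J hJ).trans hJn
  have hr2 : r * r ≤ n := Nat.sqrt_le n
  have hr3 : n < (r + 1) * (r + 1) := Nat.lt_succ_sqrt n
  have hkey : 2 * ((2 * J ^ 2 + 9 * J + 10) * (r + 2) + 2) ≤ n := by
    refine le_trans ?_ hr2
    obtain ⟨k, hk⟩ : ∃ k, r = 4 * J ^ 2 + 18 * J + 25 + k :=
      ⟨r - (4 * J ^ 2 + 18 * J + 25), by omega⟩
    set C := 2 * J ^ 2 + 9 * J + 10 with hC
    have hk' : r = 2 * C + 5 + k := by omega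
    rw [hk']
    nlinarith [Nat.zero_le k, Nat.zero_le C, Nat.zero_le (k * C), Nat.zero_le (k * k)]
  -- `2 ^ e ≤ 3 ^ n` when `2 e ≤ 3 n`
  have hpow : ∀ e : ℕ, 2 * e ≤ 3 * n → (2 : ℝ) ^ e ≤ 3 ^ n := by
    intro e he
    refine le_of_pow_le_pow_left₀ (n := 2) (by norm_num) (by positivity) ?_
    calc ((2 : ℝ) ^ e) ^ 2 = 2 ^ (2 * e) := by rw [← pow_mul, mul_comm]
      _ ≤ 2 ^ (3 * n) := pow_le_pow_right₀ (by norm_num) he
      _ = (2 ^ 3) ^ n := by rw [pow_mul]
      _ ≤ (3 ^ 2) ^ n := pow_le_pow_left₀ (by norm_num) (by norm_num) _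
      _ = (3 ^ n) ^ 2 := by rw [← pow_mul, ← pow_mul, mul_comm]
  have hnR : (n : ℝ) ≤ 2 ^ (J + 1) := by exact_mod_cast hnJ.le
  refine ⟨?_, ?_⟩
  · -- uniprimitive part
    have hM1 : 1 ≤ n - j + 1 := by omega
    have hMn : n - j + 1 ≤ n := by omega
    obtain ⟨hd1, hd2⟩ := dmin_spec (n - j + 1) hM1
    have hd3 := dmin_le (n - j + 1) n hMn
    rw [← hr] at hd3
    set M := n - j + 1 with hM
    set d := dmin M with hd
    have hMP : M ≤ 2 ^ (J + 1) := hMn.trans hnJ.le
    have hMR : (M : ℝ) ≤ 2 ^ (J + 1) := by exact_mod_cast hMP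
    have h1 := NumLarge.UB_le M d (J + 1) hM1 hd2 hd1 hMP
    have h2 : (n.descFactorial (j - 1) : ℝ) ≤ (2 ^ (J + 1)) ^ (j - 1) := by
      calc (n.descFactorial (j - 1) : ℝ) ≤ ((n ^ (j - 1) : ℕ) : ℝ) := by
            exact_mod_cast Nat.descFactorial_le_pow n (j - 1)
        _ = (n : ℝ) ^ (j - 1) := by push_cast; ring
        _ ≤ _ := pow_le_pow_left₀ (Nat.cast_nonneg _) hnR _
    have hUB0 : (0 : ℝ) ≤ 4 * (M : ℝ) ^ (d * (2 * (J + 1))) := by positivity
    calc (n.descFactorial (j - 1) : ℝ) * UB M d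
        ≤ (n.descFactorial (j - 1) : ℝ) * (4 * (M : ℝ) ^ (d * (2 * (J + 1)))) :=
          mul_le_mul_of_nonneg_left h1 (Nat.cast_nonneg _)
      _ ≤ (2 ^ (J + 1)) ^ (j - 1) * (4 * (M : ℝ) ^ (d * (2 * (J + 1)))) :=
          mul_le_mul_of_nonneg_right h2 hUB0
      _ ≤ (2 ^ (J + 1)) ^ (j - 1) * (4 * (2 ^ (J + 1)) ^ (d * (2 * (J + 1)))) := by
          gcongr
      _ = 2 ^ ((J + 1) * (j - 1) + 2 + (J + 1) * (d * (2 * (J + 1)))) := by
          rw [← pow_mul, ← pow_mul, pow_add, pow_add]; norm_num; ring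
      _ ≤ 3 ^ n := by
          apply hpow
          have e1 : (J + 1) * (j - 1) ≤ (J + 1) * j := Nat.mul_le_mul_left _ (Nat.sub_le _ _)
          have e2 : (J + 1) * (d * (2 * (J + 1))) ≤ (J + 1) * ((r + 2) * (2 * (J + 1))) :=
            Nat.mul_le_mul_left _ (Nat.mul_le_mul_right _ hd3)
          have e3 : (J + 1) * ((r + 2) * (2 * (J + 1))) = (2 * J ^ 2 + 4 * J + 2) * (r + 2) := by
            ring
          have e4 : (2 * J ^ 2 + 4 * J + 2) * (r + 2) ≤ (2 * J ^ 2 + 9 * J + 10) * (r + 2) :=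
            Nat.mul_le_mul_right _ (by omega)
          omega
  · -- imprimitive part
    intro hj2 b hb hb2 _
    refine ⟨2, by norm_num, ?_⟩
    have hM1 : 1 ≤ n - j + 2 := by omega
    have hMn : n - j + 2 ≤ n := by omega
    set M := n - j + 2 with hM
    have hMP : M ≤ 2 ^ (J + 1) := hMn.trans hnJ.le
    have hMR : (M : ℝ) ≤ 2 ^ (J + 1) := by exact_mod_cast hMP
    have h1 := NumLarge.IB_le M b (r + 1) (J + 1) hM1 (by omega) (hMn.trans hr3.le) hb (by omega) hMP
    have h2 : (n.descFactorial (j - 2) : ℝ) ≤ (2 ^ (J + 1)) ^ (j - 2) := by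
      calc (n.descFactorial (j - 2) : ℝ) ≤ ((n ^ (j - 2) : ℕ) : ℝ) := by
            exact_mod_cast Nat.descFactorial_le_pow n (j - 2)
        _ = (n : ℝ) ^ (j - 2) := by push_cast; ring
        _ ≤ _ := pow_le_pow_left₀ (Nat.cast_nonneg _) hnR _
    have hIB0 : (0 : ℝ) ≤ 4 * (2 * (M : ℝ)) ^ (2 * (r + 1) + (r + 1) * (2 * (J + 1) + 1)) := by
      positivity
    calc (n.descFactorial (j - 2) : ℝ) * IB M b 2
        ≤ (n.descFactorial (j - 2) : ℝ) *
          (4 * (2 * (M : ℝ)) ^ (2 * (r + 1) + (r + 1) * (2 * (J + 1) + 1))) :=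
          mul_le_mul_of_nonneg_left h1 (Nat.cast_nonneg _)
      _ ≤ (2 ^ (J + 1)) ^ (j - 2) *
          (4 * (2 * (M : ℝ)) ^ (2 * (r + 1) + (r + 1) * (2 * (J + 1) + 1))) :=
          mul_le_mul_of_nonneg_right h2 hIB0
      _ ≤ (2 ^ (J + 1)) ^ (j - 2) *
          (4 * (2 ^ (J + 2)) ^ (2 * (r + 1) + (r + 1) * (2 * (J + 1) + 1))) := by
          have hM2 : 2 * (M : ℝ) ≤ 2 ^ (J + 2) := by
            rw [pow_succ 2 (J + 1)]; linarith
          gcongr
      _ = 2 ^ ((J + 1) * (j - 2) + 2 +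
            (J + 2) * (2 * (r + 1) + (r + 1) * (2 * (J + 1) + 1))) := by
          rw [← pow_mul, ← pow_mul, pow_add, pow_add]; norm_num; ring
      _ ≤ 3 ^ n := by
          apply hpow
          have e1 : (J + 1) * (j - 2) ≤ (J + 1) * j := Nat.mul_le_mul_left _ (Nat.sub_le _ _)
          have e3 : (J + 2) * (2 * (r + 1) + (r + 1) * (2 * (J + 1) + 1)) =
              (2 * J ^ 2 + 9 * J + 10) * (r + 1) := by ring
          have e4 : (2 * J ^ 2 + 9 * J + 10) * (r + 1) ≤ (2 * J ^ 2 + 9 * J + 10) * (r + 2) :=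
            Nat.mul_le_mul_left _ (by omega)
          omega

end Large

theorem good3 (n j : ℕ) (hn : 349 ≤ n) (hj : 1 ≤ j) (hjn : j ≤ n) (hK : Kcond n j)
    (hW : Wcond n j) : Good3 n j := by
  rcases Nat.lt_or_ge n 1426 with h1 | h1
  · exact good3_small n j hn (by omega) hj hjn hK
  rcases Nat.lt_or_ge n (2 ^ 23) with h2 | h2
  · exact good3_mid n j h1 h2 hj hK
  · exact good3_large n j h2 hj hjn hW

end Cfsg.Agent.H901.PrimBig
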