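import Cfsg.Agent.H901.OvData
import Cfsg.Agent.GTwoOdd.CentPSU

/-!
# The groups `PSU₃(q)`, `q` odd (helper901)
-/

set_option autoImplicit false

namespace Cfsg.Agent.H901.Ov

open Matrix Cfsg.Agent.LieClassical.HermBasic Cfsg.Agent.GTwoOdd.Core.HFiveB

variable {F : Type*} [Field F] [Fintype F] {q : ℕ}

theorem oneCl_PSU3 (hF : Fintype.card F = q ^ 2) (hq : Odd q) : OneCl (Cfsg.PSU 3 F q) := by
  intro x y hx hx1 hy hy1
  obtain ⟨a, ha⟩ := GTwoOdd.CentPSU.exists_conj_vv hF hq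
    (orderOf_eq_prime (by rw [pow_two, hx]) hx1)
  obtain ⟨b, hb⟩ := GTwoOdd.CentPSU.exists_conj_vv hF hq
    (orderOf_eq_prime (by rw [pow_two, hy]) hy1)
  refine ⟨b * a⁻¹, ?_⟩
  rw [← ha, ← hb]
  group

omit [Fintype F] in
theorem su_ext {X Y : Cfsg.SU 3 F q} (h : X.1.1 = Y.1.1) : X = Y := Subtype.ext (Subtype.ext h)

/-- diagonal elements -/
theorem exists_dg (_hF : Fintype.card F = q ^ 2) {a b c : F} (habc : a * b * c = 1)
    (ha : a ^ (q + 1) = 1) (hb : b ^ (q + 1) = 1) (hc : c ^ (q + 1) = 1) :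
    ∃ d : Cfsg.SU 3 F q, d.1.1 = !![a, 0, 0; 0, b, 0; 0, 0, c] := by
  have hd : (!![a, 0, 0; 0, b, 0; 0, 0, c] : Matrix (Fin 3) (Fin 3) F).det = 1 := by
    rw [det_fin_three]; simp [habc]
  let d : SpecialLinearGroup (Fin 3) F := ⟨!![a, 0, 0; 0, b, 0; 0, 0, c], hd⟩
  suffices hc : d ∈ Cfsg.SU 3 F q from ⟨⟨d, hc⟩, rfl⟩
  rw [mem_SU_iff]
  intro u v
  change Cfsg.hermForm 3 F q (!![a, 0, 0; 0, b, 0; 0, 0, c] *ᵥ u)
    (!![a, 0, 0; 0, b, 0; 0, 0, c] *ᵥ v) = _
  rw [herm_def, herm_def, Fin.sum_univ_three, Fin.sum_univ_three]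
  rw [pow_succ'] at ha hb hc
  simp [Matrix.mulVec, dotProduct, Fin.sum_univ_three, mul_pow]
  linear_combination (u 0 * v 0 ^ q) * ha + (u 1 * v 1 ^ q) * hb + (u 2 * v 2 ^ q) * hc

/-- the swap of the first two coordinates -/
theorem exists_sw (_hF : Fintype.card F = q ^ 2) (hq : Odd q) :
    ∃ d : Cfsg.SU 3 F q, d.1.1 = !![0, 1, 0; 1, 0, 0; 0, 0, -1] := by
  have hd : (!![0, 1, 0; 1, 0, 0; 0, 0, -1] : Matrix (Fin 3) (Fin 3) F).det = 1 := by
    rw [det_fin_three]; simp
  let d : SpecialLinearGroup (Fin 3) F := ⟨!![0, 1, 0; 1, 0, 0; 0, 0, -1], hd⟩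
  suffices hc : d ∈ Cfsg.SU 3 F q from ⟨⟨d, hc⟩, rfl⟩
  rw [mem_SU_iff]
  intro u v
  change Cfsg.hermForm 3 F q (!![0, 1, 0; 1, 0, 0; 0, 0, -1] *ᵥ u)
    (!![0, 1, 0; 1, 0, 0; 0, 0, -1] *ᵥ v) = _
  rw [herm_def, herm_def, Fin.sum_univ_three, Fin.sum_univ_three]
  simp [Matrix.mulVec, dotProduct, Fin.sum_univ_three, hq.neg_pow]
  ring

theorem not_center (hF : Fintype.card F = q ^ 2) (hq : Odd q) {z : Cfsg.SU 3 F q} {a b c : F}
    (hz : z.1.1 = !![a, 0, 0; 0, b, 0; 0, 0, c]) (h : a ≠ b ∨ a ≠ c) :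
    (QuotientGroup.mk z : Cfsg.PSU 3 F q) ≠ 1 := by
  intro h1
  have h2 := center_scalar hF hq ((QuotientGroup.eq_one_iff _).1 h1)
  rw [hz] at h2
  have h3 := congrFun (congrFun h2 1) 1
  have h4 := congrFun (congrFun h2 2) 2
  simp at h3 h4
  rcases h with h | h
  · exact h h3.symm
  · exact h h4.symm

theorem one_ne_neg (hF : Fintype.card F = q ^ 2) (hq : Odd q) : (-1 : F) ≠ 1 := by
  intro h
  apply GTwoOdd.CentPSU.two_ne hF hq
  linear_combination -h

theorem kill_PSU3 (hF : Fintype.card F = q ^ 2) (hq : Odd q) : Kill (Cfsg.PSU 3 F q) := by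
  have hne := one_ne_neg hF hq
  have hev : Even (q + 1) := hq.add_one
  have hneg : (-1 : F) ^ (q + 1) = 1 := hev.neg_one_pow
  have hq2 := two_le hF
  have hsplit : 4 ∣ q + 1 ∨ q % 4 = 1 := by
    have := Nat.odd_iff.1 hq
    omega
  rcases hsplit with h4 | h4
  · -- configuration (W)
    obtain ⟨k, hk⟩ := h4
    obtain ⟨i, hi⟩ : ∃ i : F, i * i = -1 := by
      have h1 : IsSquare (-1 : F) := by
        rw [FiniteField.isSquare_neg_one_iff, hF]
        have h3 : q % 4 = 3 := by omega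
        rw [pow_two, Nat.mul_mod, h3]
        norm_num
      obtain ⟨i, hi⟩ := h1
      exact ⟨i, hi.symm⟩
    have hiq : i ^ (q + 1) = 1 := by
      have : i ^ 4 = 1 := by
        calc i ^ 4 = (i * i) * (i * i) := by ring
          _ = 1 := by rw [hi]; ring
      rw [hk, pow_mul, this, one_pow]
    have hiq' : (-i) ^ (q + 1) = 1 := by rw [hev.neg_pow, hiq]
    obtain ⟨u, hu⟩ := exists_dg (q := q) hF (a := i) (b := -i) (c := 1)
      (by linear_combination -hi) hiq hiq' (one_pow _)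
    obtain ⟨s, hs⟩ := exists_dg (q := q) hF (a := (-1 : F)) (b := 1) (c := -1) (by ring) hneg
      (one_pow _) hneg
    have huu : (u * u).1.1 = !![-1, 0, 0; 0, -1, 0; 0, 0, 1] := by
      change u.1.1 * u.1.1 = _
      rw [hu]
      ext a b
      fin_cases a <;> fin_cases b <;> simp [Matrix.mul_apply, Fin.sum_univ_three, hi]
    have hsu : (s⁻¹ * (u * u)).1.1 = !![1, 0, 0; 0, -1, 0; 0, 0, -1] := by
      have h1 : s⁻¹ = s := by
        apply inv_eq_of_mul_eq_one_left
        apply su_ext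
        change s.1.1 * s.1.1 = 1
        rw [hs]
        ext a b
        fin_cases a <;> fin_cases b <;> simp [Matrix.mul_apply, Fin.sum_univ_three]
      rw [h1]
      change s.1.1 * (u * u).1.1 = _
      rw [huu, hs]
      ext a b
      fin_cases a <;> fin_cases b <;> simp [Matrix.mul_apply, Fin.sum_univ_three]
    refine Or.inl ⟨QuotientGroup.mk u, QuotientGroup.mk s, ?_, ?_, ?_, ?_, ?_, ?_⟩
    · rw [← QuotientGroup.mk_mul, ← QuotientGroup.mk_mul, ← QuotientGroup.mk_one]
      congr 1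
      apply su_ext
      change (u * u).1.1 * (u * u).1.1 = 1
      rw [huu]
      ext a b
      fin_cases a <;> fin_cases b <;> simp [Matrix.mul_apply, Fin.sum_univ_three]
    · rw [← QuotientGroup.mk_mul]
      exact not_center hF hq huu (Or.inr hne)
    · rw [← QuotientGroup.mk_mul, ← QuotientGroup.mk_one]
      congr 1
      apply su_ext
      change s.1.1 * s.1.1 = 1
      rw [hs]
      ext a b
      fin_cases a <;> fin_cases b <;> simp [Matrix.mul_apply, Fin.sum_univ_three]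
    · exact not_center hF hq hs (Or.inl hne)
    · rw [← QuotientGroup.mk_mul, ← QuotientGroup.mk_mul]
      congr 1
      apply su_ext
      change u.1.1 * s.1.1 = s.1.1 * u.1.1
      rw [hs, hu]
      ext a b
      fin_cases a <;> fin_cases b <;> simp [Matrix.mul_apply, Fin.sum_univ_three]
    · intro h
      rw [← QuotientGroup.mk_mul, QuotientGroup.eq] at h
      exact not_center hF hq hsu (Or.inl hne.symm) ((QuotientGroup.eq_one_iff _).2 h)
  · -- configuration (A)
    obtain ⟨k, hk⟩ : ∃ k, q = 4 * k + 1 := ⟨q / 4, by omega⟩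
    obtain ⟨r, hr, hrd⟩ := Nat.exists_prime_and_dvd (n := 2 * k + 1) (by omega)
    have hr2 : r ≠ 2 := by
      rintro rfl
      omega
    have hrq : r ∣ q + 1 := by
      obtain ⟨m, hm⟩ := hrd
      exact ⟨2 * m, by
        rw [hk]
        calc 4 * k + 1 + 1 = 2 * (2 * k + 1) := by ring
          _ = r * (2 * m) := by rw [hm]; ring⟩
    have : Fact r.Prime := ⟨hr⟩
    obtain ⟨ζ, hζ⟩ := exists_prime_orderOf_dvd_card' (G := Fˣ) r (by
      rw [card_units_eq hF]
      exact Dvd.dvd.mul_right hrq _)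
    have hζr : (ζ : F) ^ r = 1 := by
      rw [← Units.val_pow_eq_pow_val, ← hζ, pow_orderOf_eq_one, Units.val_one]
    have hζq : (ζ : F) ^ (q + 1) = 1 := by
      obtain ⟨m, hm⟩ := hrq
      rw [hm, pow_mul, hζr, one_pow]
    have hζ1 : (ζ : F) ≠ 1 := by
      intro h
      have h1 : ζ = 1 := Units.ext h
      rw [h1, orderOf_one] at hζ
      exact hr.one_lt.ne hζ
    have hζq' : ((ζ : F)⁻¹) ^ (q + 1) = 1 := by rw [inv_pow, hζq, inv_one]
    have hζζ : (ζ : F) * (ζ : F)⁻¹ = 1 := mul_inv_cancel₀ ζ.ne_zero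
    obtain ⟨g, hg⟩ := exists_dg (q := q) hF (a := (ζ : F)) (b := (ζ : F)⁻¹) (c := 1)
      (by rw [mul_one, hζζ]) hζq hζq' (one_pow _)
    obtain ⟨g', hg'⟩ := exists_dg (q := q) hF (a := (ζ : F)⁻¹) (b := (ζ : F)) (c := 1)
      (by rw [mul_one, mul_comm, hζζ]) hζq' hζq (one_pow _)
    obtain ⟨s, hs⟩ := exists_sw (q := q) hF hq
    obtain ⟨e₁, he₁⟩ := exists_dg (q := q) hF (a := (-1 : F)) (b := 1) (c := -1) (by ring) hneg
      (one_pow _) hneg
    obtain ⟨e₂, he₂⟩ := exists_dg (q := q) hF (a := (1 : F)) (b := -1) (c := -1) (by ring)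
      (one_pow _) hneg hneg
    have hginv : g⁻¹ = g' := by
      apply inv_eq_of_mul_eq_one_left
      apply su_ext
      change g'.1.1 * g.1.1 = 1
      rw [hg', hg]
      ext a b
      fin_cases a <;> fin_cases b <;> simp [Matrix.mul_apply, Fin.sum_univ_three]
    have hss : s * s = 1 := by
      apply su_ext
      change s.1.1 * s.1.1 = 1
      rw [hs]
      ext a b
      fin_cases a <;> fin_cases b <;> simp [Matrix.mul_apply, Fin.sum_univ_three]
    have he11 : e₁ * e₁ = 1 := by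
      apply su_ext
      change e₁.1.1 * e₁.1.1 = 1
      rw [he₁]
      ext a b
      fin_cases a <;> fin_cases b <;> simp [Matrix.mul_apply, Fin.sum_univ_three]
    have he22 : e₂ * e₂ = 1 := by
      apply su_ext
      change e₂.1.1 * e₂.1.1 = 1
      rw [he₂]
      ext a b
      fin_cases a <;> fin_cases b <;> simp [Matrix.mul_apply, Fin.sum_univ_three]
    have he12 : (e₁⁻¹ * e₂).1.1 = !![-1, 0, 0; 0, -1, 0; 0, 0, 1] := by
      have h1 : e₁⁻¹ = e₁ := inv_eq_of_mul_eq_one_left he11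
      rw [h1]
      change e₁.1.1 * e₂.1.1 = _
      rw [he₁, he₂]
      ext a b
      fin_cases a <;> fin_cases b <;> simp [Matrix.mul_apply, Fin.sum_univ_three]
    have hsg : s * g = g' * s := by
      apply su_ext
      change s.1.1 * g.1.1 = g'.1.1 * s.1.1
      rw [hs, hg, hg']
      ext a b
      fin_cases a <;> fin_cases b <;> simp [Matrix.mul_apply, Fin.sum_univ_three]
    have hgpow : ∀ n : ℕ, (g ^ n).1.1 = !![(ζ : F) ^ n, 0, 0; 0, ((ζ : F)⁻¹) ^ n, 0; 0, 0, 1] := by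
      intro n
      induction n with
      | zero =>
        rw [pow_zero, pow_zero, pow_zero]
        change (1 : Matrix (Fin 3) (Fin 3) F) = _
        ext a b
        fin_cases a <;> fin_cases b <;> simp
      | succ n ih =>
        rw [pow_succ]
        change (g ^ n).1.1 * g.1.1 = _
        rw [ih, hg]
        ext a b
        fin_cases a <;> fin_cases b <;> simp [Matrix.mul_apply, Fin.sum_univ_three, pow_succ,
          mul_comm]
    have hgo : orderOf (QuotientGroup.mk g : Cfsg.PSU 3 F q) = r := by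
      refine orderOf_eq_prime ?_ (not_center hF hq hg (Or.inr hζ1))
      rw [← QuotientGroup.mk_pow, ← QuotientGroup.mk_one]
      congr 1
      apply su_ext
      rw [hgpow, inv_pow, hζr, inv_one]
      change _ = (1 : Matrix (Fin 3) (Fin 3) F)
      ext a b
      fin_cases a <;> fin_cases b <;> simp
    have hconj : (QuotientGroup.mk s : Cfsg.PSU 3 F q) * QuotientGroup.mk g *
        (QuotientGroup.mk s)⁻¹ = (QuotientGroup.mk g)⁻¹ := by
      rw [← QuotientGroup.mk_inv, ← QuotientGroup.mk_inv, ← QuotientGroup.mk_mul,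
        ← QuotientGroup.mk_mul, hsg, mul_inv_cancel_right, hginv]
    refine Or.inr (Or.inl ⟨r, QuotientGroup.mk g, QuotientGroup.mk s, QuotientGroup.mk e₁,
      QuotientGroup.mk e₂, hr, hr2, hgo, ?_, ?_, hconj, ?_, ?_, ?_, ?_, ?_, ?_, ?_, ?_⟩)
    · rw [← QuotientGroup.mk_mul, hss, QuotientGroup.mk_one]
    · intro h
      rw [h, one_mul, inv_one, mul_one] at hconj
      exact odd_pow_ne hr hr2 hgo hconj
    · rw [← QuotientGroup.mk_mul, he11, QuotientGroup.mk_one]
    · exact not_center hF hq he₁ (Or.inl hne)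
    · rw [← QuotientGroup.mk_mul, he22, QuotientGroup.mk_one]
    · exact not_center hF hq he₂ (Or.inl hne.symm)
    · intro h
      rw [QuotientGroup.eq] at h
      exact not_center hF hq he12 (Or.inr hne) ((QuotientGroup.eq_one_iff _).2 h)
    · rw [← QuotientGroup.mk_mul, ← QuotientGroup.mk_mul]
      congr 1
      apply su_ext
      change e₁.1.1 * e₂.1.1 = e₂.1.1 * e₁.1.1
      rw [he₁, he₂]
      ext a b
      fin_cases a <;> fin_cases b <;> simp [Matrix.mul_apply, Fin.sum_univ_three]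
    · rw [← QuotientGroup.mk_mul, ← QuotientGroup.mk_mul]
      congr 1
      apply su_ext
      change g.1.1 * e₁.1.1 = e₁.1.1 * g.1.1
      rw [he₁, hg]
      ext a b
      fin_cases a <;> fin_cases b <;> simp [Matrix.mul_apply, Fin.sum_univ_three]
    · rw [← QuotientGroup.mk_mul, ← QuotientGroup.mk_mul]
      congr 1
      apply su_ext
      change g.1.1 * e₂.1.1 = e₂.1.1 * g.1.1
      rw [he₂, hg]
      ext a b
      fin_cases a <;> fin_cases b <;> simp [Matrix.mul_apply, Fin.sum_univ_three]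

end Cfsg.Agent.H901.Ov
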