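import Cfsg.Agent.H901.SaxLin
import Cfsg.Agent.S0245
import Cfsg.Agent.S0246

/-!
# Geometric classes of `Sp_2m(q)` and primitive prime divisors (helper901, for S2498 and S2528)

`geo_cases` : a subgroup of a member of a geometric class of `Sp_2m(q)` whose order is divisible by the primitive
prime divisors for the exponents `2m`, `2m - 2` and the odd one of `m`, `m - 1` lies in `O^-_2m(q)` (`q`, `m` even)
or in `Sp_2(q²).2` (`m = 2`).
-/

set_option autoImplicit false
set_option linter.unusedSectionVars false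

namespace Cfsg.Agent.H901.SaxSp

open Module Cfsg Cfsg.Geo Cfsg.Agent.H884.El Cfsg.Agent.H955 Cfsg.Agent.H954.TSing
open Cfsg.Agent.H262.El (pre pre_le pre_ne scalars_le_pre mem_pre spToGL_injective two_le_of_symp)
open Cfsg.Agent.ClassicalGeometry.SympBasic Cfsg.Agent.H876 Cfsg.Agent.H931
open Cfsg.Agent.H951 (fx cm Inv)
open scoped MatrixGroups Matrix

universe u

variable {F : Type u} [Field F] [Fintype F] {m : ℕ} {H : Subgroup (GL (Fin m ⊕ Fin m) F)}

/-- `H` lies in `O^-_2m(q)`, `q` and `m` even. -/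
def InOMinus (m : ℕ) (F : Type u) [Field F] [Fintype F] (H : Subgroup (GL (Fin m ⊕ Fin m) F)) : Prop :=
  Even m ∧ ¬ Odd (Fintype.card F) ∧ ∃ Q : QuadraticForm F (Fin m ⊕ Fin m → F),
    (∀ u v, QuadraticMap.polar Q u v = sympForm m F u v) ∧ ¬ IsPlus Q ∧ H ≤ Cfsg.isometryGroup F (⇑Q)

/-- `H` lies in `Sp_2(q²).2 < Sp_4(q)`. -/
def InExt (m : ℕ) (F : Type u) [Field F] [Fintype F] (H : Subgroup (GL (Fin m ⊕ Fin m) F)) : Prop :=
  m = 2 ∧ ∃ K : Subalgebra F (Matrix (Fin m ⊕ Fin m) (Fin m ⊕ Fin m) F), IsFieldSubalgebra 2 K ∧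
    IsSelfAdjointFor (sympForm m F) K ∧ (∀ k ∈ K, ∀ v, sympForm m F (k *ᵥ v) v = 0) ∧
    H ≤ subalgebraNormalizer K

theorem PP.od {q e r : ℕ} (h : PP q e r) (he : 1 ≤ e) : Cfsg.Agent.H262.El.Od q e r :=
  ⟨h.prime, h.ord, h.not_dvd he⟩

/-- isometries in `Sp_2m(q)`, `q` even. -/
theorem le_isometryGroup (hm : 1 ≤ m) {Q : QuadraticForm F (Fin m ⊕ Fin m → F)}
    (hpol : ∀ u v, QuadraticMap.polar Q u v = sympForm m F u v) {Q0 : (Fin m ⊕ Fin m → F) → F} (hQ0 : ⇑Q = Q0) :
    quadSimilarityGroup Q0 ⊓ spGL m F ≤ Cfsg.isometryGroup F (⇑Q) := by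
  subst hQ0
  rintro g ⟨⟨c, hc⟩, hg⟩
  have h1 : ∀ u v, (c : F) * sympForm m F u v = sympForm m F u v := by
    intro u v
    have h2 : sympForm m F ((g : Matrix _ _ F) *ᵥ u) ((g : Matrix _ _ F) *ᵥ v) = sympForm m F u v := hg u v
    rw [← hpol, ← hpol] at h2
    rw [← hpol u v]
    have h3 : QuadraticMap.polar Q ((g : Matrix _ _ F) *ᵥ u) ((g : Matrix _ _ F) *ᵥ v) =
        c * QuadraticMap.polar Q u v := by
      simp only [QuadraticMap.polar, ← Matrix.mulVec_add, hc]
      ring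
    rw [← h3, h2]
  have h4 := h1 (Pi.single (Sum.inr ⟨0, by omega⟩) 1) (Pi.single (Sum.inl ⟨0, by omega⟩) 1)
  rw [sympForm_single_inr_left, Pi.single_eq_same, mul_one] at h4
  rw [H925.mem_iso_iff]
  intro v
  rw [hc, h4, one_mul]

variable (m) in
theorem finrank_sum : finrank F (Fin m ⊕ Fin m → F) = 2 * m := by
  rw [Module.finrank_fintype_fun_eq_card, Cfsg.Agent.H931.card_sum_fin]

/-- class 8 -/
theorem class_eight (hm : 2 ≤ m) (hodd : ¬ Odd (Fintype.card F)) {Q0 : (Fin m ⊕ Fin m → F) → F}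
    (hQ : IsNondegenerateQuadraticForm Q0) (hpol : ∀ u v, QuadraticMap.polar Q0 u v = sympForm m F u v)
    {r₀ : ℕ} (hr₀ : PP (Nat.card F) (2 * m) r₀) (h0 : r₀ ∣ Nat.card H) (h3 : Hits H (oddE m))
    (hH : H ≤ quadSimilarityGroup Q0 ⊓ spGL m F) : InOMinus m F H := by
  have hq := one_lt_q F
  obtain ⟨Q, hQ', hnd⟩ := Cfsg.Agent.H883.Bridge.exists_quadraticForm hQ
  subst hQ'
  have hHi := hH.trans (le_isometryGroup (by omega) hpol rfl)
  have hfin := finrank_sum (F := F) m
  obtain ⟨g, hgH, hiso, -, hg1⟩ := exists_elt hHi hr₀ (by omega) h0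
  obtain ⟨hcm, hcmP⟩ := hiso.even_case hnd (lin_ne_one hg1) hr₀ (even_two_mul m) (by omega)
  have hcmt : cm (lin g) = ⊤ := Submodule.eq_top_of_finrank_eq (by rw [hcm, hfin])
  have hnP : ¬ IsPlus Q := by
    intro hP
    apply hcmP
    rw [hcmt]
    obtain ⟨U, hU, hUd⟩ := hP
    refine ⟨U.comap (⊤ : Submodule F _).subtype, fun w hw => ?_, ?_⟩
    · rw [res_apply]
      exact hU _ hw
    · rw [finrank_top, ← hUd]
      congr 1
      exact ((Submodule.comapSubtypeEquivOfLe (p := U) (q := ⊤) le_top).finrank_eq)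
  refine ⟨?_, hodd, Q, hpol, hnP, hHi⟩
  by_contra hme
  rw [Nat.not_even_iff_odd] at hme
  have hm3 : 3 ≤ m := by
    obtain ⟨k, hk⟩ := hme
    omega
  rw [oddE_of_odd hme] at h3
  obtain ⟨r₃, hr₃⟩ := exists_pp (q := Nat.card F) (e := m) (by omega) hm3 (by
    rintro ⟨-, rfl⟩
    exact absurd hme (by decide))
  obtain ⟨z, hzH, hziso, -, hz1⟩ := exists_elt hHi hr₃ (by omega) (h3 _ hr₃)
  obtain ⟨hzcm, hzP, -⟩ := hziso.odd_case hnd (lin_ne_one hz1) hr₃ hme (by omega)
  have hzt : cm (lin z) = ⊤ := Submodule.eq_top_of_finrank_eq (by rw [hzcm, hfin])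
  apply hcmP
  rw [hcmt, ← hzt]
  exact hzP

/-- **The geometric classes of `Sp_2m(q)`**, `(m, q) ≠ (2, 2), (3, 2)`; `q` even if `m = 2`. -/
theorem geo_cases (hm : 2 ≤ m) (hex : ¬ (m = 2 ∧ Fintype.card F = 2)) (h32 : ¬ (m = 3 ∧ Fintype.card F = 2))
    (hm2 : m = 2 → ¬ Odd (Fintype.card F))
    {M : Subgroup (GL (Fin m ⊕ Fin m) F)} (hM : InSymplecticClass m F M) (hHM : H ≤ M)
    (h0 : Hits H (2 * m)) (h1 : Hits H (2 * m - 2)) (h3 : Hits H (oddE m)) :
    InOMinus m F H ∨ InExt m F H := by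
  classical
  have hq := one_lt_q F
  have hc : Nat.card F = Fintype.card F := Nat.card_eq_fintype_card
  obtain ⟨p, a, hp, ha, hpa⟩ := exists_char F
  have hne : Nonempty (Fin m ⊕ Fin m) := ⟨Sum.inl ⟨0, by omega⟩⟩
  have hι : Fintype.card (Fin m ⊕ Fin m) = 2 * m := Cfsg.Agent.H931.card_sum_fin
  -- the primes
  obtain ⟨r₀, hr₀⟩ : ∃ r, PP p (a * (2 * m)) r := by
    by_cases h2 : m = 2
    · subst h2
      apply exists_pp hp.two_le
      · have := Nat.mul_le_mul_right (2 * 2) ha; omega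
      · rintro ⟨-, h6⟩
        omega
    · refine exists_ppp hp ha (by omega) ?_ (fun b hb => by
        have := Nat.mul_le_mul hb (show 6 ≤ 2 * m by omega); omega)
      rintro ⟨h4, h5⟩
      exact h32 ⟨by omega, by rw [← hc, hpa, h4]⟩
  have hr₀q : PP (Nat.card F) (2 * m) r₀ := by rw [hpa]; exact hr₀.of_pow ha
  have h0r := h0 _ hr₀q
  have hlt := hr₀q.lt (by omega)
  have hH : H ≤ spGL m F := by
    refine hHM.trans ?_
    rcases hM with (hM | hM | hM | hM | hM | hM | hM) | hM | hM | hM | hM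
    · obtain ⟨W, -, -, rfl⟩ := hM; exact inf_le_right
    · obtain ⟨W, -, -, -, rfl⟩ := hM; exact inf_le_right
    · obtain ⟨t, k, D, -, rfl⟩ := hM; exact inf_le_right
    · obtain ⟨D, -, -, -, rfl⟩ := hM; exact inf_le_right
    · obtain ⟨F₀, s, P, ζ, -, -, -, -, rfl⟩ := hM; exact inf_le_right
    · obtain ⟨R, p', k, -, -, -, -, -, -, -, -, -, rfl⟩ := hM; exact inf_le_right
    · obtain ⟨Q, -, -, -, rfl⟩ := hM; exact inf_le_right
    · obtain ⟨s, K, -, -, -, -, rfl⟩ := hM; exact inf_le_right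
    · obtain ⟨K, -, -, -, -, rfl⟩ := hM; exact inf_le_right
    · obtain ⟨n₁, n₂, e, P, f₁, f₂, -, -, -, -, -, rfl⟩ := hM; exact inf_le_right
    · obtain ⟨k, t, e, P, f₁, -, -, -, -, -, -, rfl⟩ := hM; exact inf_le_right
  -- quadratic fields
  have hquad : m ≠ 2 → ∀ K : Subalgebra F (Matrix (Fin m ⊕ Fin m) (Fin m ⊕ Fin m) F), IsFieldSubalgebra 2 K →
      H ≤ subalgebraNormalizer K → False := by
    intro h2 K hK hHK
    have ho3 := oddE_odd (m := m) (by omega)
    have he33 : 3 ≤ oddE m ∧ 2 * m < 4 * oddE m := by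
      rcases Nat.even_or_odd m with he | ho
      · rw [oddE_of_even he]
        obtain ⟨k, hk⟩ := he
        omega
      · rw [oddE_of_odd ho]
        obtain ⟨k, hk⟩ := ho
        omega
    obtain ⟨r₃, hr₃⟩ := exists_pp (q := Nat.card F) (e := oddE m) (by omega) he33.1 (by
      rintro ⟨-, h⟩
      rw [h] at ho3
      exact absurd ho3 (by decide))
    exact no_quadratic_field_sp (by omega) hH hr₃ ho3 he33.1 he33.2 (h3 _ hr₃) hK hHK
  -- an irreducible element
  obtain ⟨y, hyH, hyr, hy1⟩ := exists_elt' hr₀q.prime h0r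
  have hirr : ∀ W : Submodule F (Fin m ⊕ Fin m → F),
      (∀ v ∈ W, (y : Matrix (Fin m ⊕ Fin m) (Fin m ⊕ Fin m) F) *ᵥ v ∈ W) → W = ⊥ ∨ W = ⊤ :=
    Cfsg.Agent.H262.El.irr_of_od (by rw [hι, ← hc]; exact PP.od hr₀q (by omega)) hyr hy1
  -- decompositions
  have hdec : ∀ (t k : ℕ) (D : Fin t → Submodule F (Fin m ⊕ Fin m → F)), IsMDecomposition k D →
      y ∉ decompositionStabilizer D := by
    intro t k D hD hyD
    have htk : t * k = 2 * m := by rw [Cfsg.Agent.H918.decomp_card hD, hι]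
    have ht : t ≤ 2 * m := by
      rw [← htk]
      exact Nat.le_mul_of_pos_right t hD.pos
    have h1 := Cfsg.Agent.H262.El.fixes_of_decomposition hD hyD hr₀q.prime (by omega) hyr
      ⟨0, by have := hD.two_le; omega⟩
    rcases hirr _ h1 with h2 | h2
    · exact Cfsg.Agent.H918.decomp_ne_bot hD _ h2
    · have h3 := hD.finrank_eq ⟨0, by have := hD.two_le; omega⟩
      rw [h2, finrank_top, finrank_sum] at h3
      have h4 := hD.two_le
      have h5 := hD.pos
      have h6 : 2 * k ≤ t * k := Nat.mul_le_mul_right k h4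
      omega
  rcases hM with (hM | hM | hM | hM | hM | hM | hM) | hM | hM | hM | hM
  · exfalso
    obtain ⟨W, hW0, hW, rfl⟩ := hM
    exact Cfsg.Agent.H262.El.not_mem_subspaceStabilizer_of_irr hirr hW0
      (Cfsg.Agent.H262.El.totallySingular_ne_top (by omega) hW) (hHM hyH).1
  · exfalso
    obtain ⟨W, hW0, hW, hW2, rfl⟩ := hM
    refine Cfsg.Agent.H262.El.not_mem_subspaceStabilizer_of_irr hirr hW0 ?_ (hHM hyH).1
    rintro rfl
    rw [finrank_top, finrank_sum] at hW2
    omega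
  · exfalso
    obtain ⟨t, k, D, hD, rfl⟩ := hM
    exact hdec t k D hD.decomp (hHM hyH).1
  · exfalso
    obtain ⟨D, -, hD, -, rfl⟩ := hM
    exact hdec 2 m D hD (hHM hyH).1
  · exfalso
    obtain ⟨F₀, s, P, ζ, hs, hcard, -, -, rfl⟩ := hM
    exact kill_subfield (hHM.trans inf_le_left) hs (by rw [hc]; exact hcard) hp hpa hr₀ (by omega) (by omega) h0r
  · -- class 6
    exfalso
    obtain ⟨R, p', k, hR, habs, -, hp', hodd', hcard, hRc, hZ, -, rfl⟩ := hM
    have hm3 : m ≠ 2 := by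
      rintro rfl
      exact hm2 rfl (by rw [hcard]; exact hodd')
    have hsn := Cfsg.Agent.H921.card_eq_pow_of_center_prime hR habs hZ hRc
    rw [hι] at hsn
    have hme : Even m := even_of_pow (by omega) Nat.prime_two hsn
    have hm4 : 4 ≤ m := by
      obtain ⟨j, hj⟩ := hme
      omega
    have hq3 : Nat.card F ≠ 2 := by
      rw [hc, hcard]
      rintro rfl
      exact absurd hodd' (by decide)
    have hk1 : 1 ≤ k := by
      rcases Nat.eq_zero_or_pos k with rfl | h
      · rw [pow_zero] at hsn; omega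
      · exact h
    have key : ∀ d t, 2 ≤ d → PP (Nat.card F) d t → t ∣ Nat.card H → t ≤ 2 * m + 1 := by
      intro d t hd ht htH
      have := symp_le (hHM.trans inf_le_left) habs hR hk1 (by rw [hι]; exact hsn)
        (Or.inr (Or.inr ⟨rfl, hZ, hRc⟩)) ht hd htH
      rwa [hι] at this
    obtain ⟨r₁, hr₁⟩ := exists_pp (q := Nat.card F) (e := 2 * m - 2) (by omega) (by omega) (by omega)
    obtain ⟨r₃, hr₃⟩ := exists_pp (q := Nat.card F) (e := m - 1) (by omega) (by omega) (by omega)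
    have h6 := key _ _ (by omega) hr₁ (h1 _ hr₁)
    have h7 := key _ _ (by omega) hr₃ (h3 _ (by rw [oddE_of_even hme]; exact hr₃))
    exact false_of_even hm4 hme hr₁ hr₃ (by omega) (by omega)
  · -- class 8
    left
    obtain ⟨Q, hodd, hQ, hpol, rfl⟩ := hM
    exact class_eight hm hodd hQ hpol hr₀q h0r h3 hHM
  · -- extension fields
    obtain ⟨s, K, hs, hK, hsa, halt, rfl⟩ := hM
    have hHK := hHM.trans inf_le_left
    have hsn : s ∣ 2 * m := by rw [← hι]; exact dvd_of_field hK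
    by_cases hm3 : m = 2
    · right
      subst hm3
      have hs2 : s = 2 := by
        have : s ∣ 2 ^ 2 := hsn
        exact (Nat.prime_dvd_prime_iff_eq hs Nat.prime_two).1 (hs.dvd_of_dvd_pow this)
      subst hs2
      exact ⟨rfl, K, hK, hsa, halt, hHK⟩
    · exfalso
      have hs2 : s = 2 := by
        by_cases hexc : Nat.card F = 2 ∧ 2 * m - 2 = 6
        · have hm4 : m = 4 := by omega
          rw [hm4] at hsn
          have : s ∣ 2 ^ 3 := by norm_num; exact hsn
          exact (Nat.prime_dvd_prime_iff_eq hs Nat.prime_two).1 (hs.dvd_of_dvd_pow this)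
        · obtain ⟨r₁, hr₁⟩ := exists_pp (q := Nat.card F) (e := 2 * m - 2) (by omega) (by omega) hexc
          have h5 := ext_cases hs hK hHK (by rw [hι]; exact hsn) hr₁ (by omega) (h1 _ hr₁)
          exact eq_two (by omega) hs hsn (hr₁.lt (by omega)) h5
      subst hs2
      exact hquad hm3 K hK hHK
  · exfalso
    obtain ⟨K, hodd, hK, -, -, rfl⟩ := hM
    have hHK := hHM.trans inf_le_left
    exact hquad (fun h => hm2 h hodd) K hK hHK
  · exfalso
    obtain ⟨n₁, n₂, e, P, f₁, f₂, -, hn2, hf₁, -, -, rfl⟩ := hM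
    have h12 : n₁ * n₂ = Fintype.card (Fin m ⊕ Fin m) := by
      have h1 := Fintype.card_congr e
      rw [Fintype.card_prod, Fintype.card_fin, Fintype.card_fin] at h1
      exact h1.symm
    refine kill_tensor e P (hHM.trans inf_le_left) (two_le_of_symp hf₁ ?_) (by omega) h12 hr₀q (by omega) h0r
    rintro rfl
    rw [hι, zero_mul] at h12
    omega
  · exfalso
    obtain ⟨k, t, e, P, f₁, -, -, ht, -, hf₁, -, rfl⟩ := hM
    have hkt : k ^ t = 2 * m := by
      have h1 := Fintype.card_congr e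
      rw [hι, Fintype.card_fun, Fintype.card_fin, Fintype.card_fin] at h1
      exact h1.symm
    have hk2 : 2 ≤ k := two_le_of_symp hf₁ (by
      rintro rfl
      rw [zero_pow (by omega)] at hkt
      omega)
    have htm : t < 2 * m := by
      rw [← hkt]
      exact lt_of_lt_of_le Nat.lt_two_pow_self (Nat.pow_le_pow_left hk2 t)
    have hkm : k < 2 * m := by
      rw [← hkt]
      calc k = k ^ 1 := (pow_one k).symm
        _ < k ^ t := Nat.pow_lt_pow_right (by omega) (by omega)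
    refine hy1 (Cfsg.Agent.H262.El.eq_one_of_mem_tensorWreathSubgroup (hHM hyH).1 hr₀q.prime hyr (by omega)
      (by rw [← hc]; exact hr₀q.not_dvd (by omega)) ?_)
    intro j hj1 hj2
    rw [← hc, hr₀q.dvd_iff (by omega)]
    intro h
    have := Nat.le_of_dvd hj1 h
    omega

/-! ### `PSp_2m(q)` -/

open Cfsg.Agent.H938.Sax (PGap OrdGap)

theorem card_psp (hm : 1 ≤ m) : Nat.gcd 2 (Fintype.card F - 1) * Nat.card (PSp m F) =
    Fintype.card F ^ (m ^ 2) * ∏ i ∈ Finset.range m, (Fintype.card F ^ (2 * (i + 1)) - 1) := by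
  have h1 := S0245.result (F := F) rfl m
  have h2 := S0246.result (F := F) rfl m hm
  have h3 := Subgroup.card_mul_index (Subgroup.center ↥(Matrix.symplecticGroup (Fin m) F))
  rw [h1, h2] at h3
  exact h3

theorem dvd_card_psp {r e i : ℕ} (hr : PP (Nat.card F) e r) (hr2 : r ≠ 2) (hi : 1 ≤ i) (him : i ≤ m)
    (hd : e ∣ 2 * i) : r ∣ Nat.card (PSp m F) := by
  have h1 := card_psp (F := F) (m := m) (by omega)
  have h2 : r ∣ Nat.gcd 2 (Fintype.card F - 1) * Nat.card (PSp m F) := by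
    rw [h1]
    apply Dvd.dvd.mul_left
    refine dvd_trans ?_ (Finset.dvd_prod_of_mem _ (Finset.mem_range.2 (by omega : i - 1 < m)))
    rw [← Nat.card_eq_fintype_card, hr.dvd_iff (one_lt_q F).le]
    rwa [show 2 * (i - 1 + 1) = 2 * i by omega]
  rcases (Nat.Prime.dvd_mul hr.prime).1 h2 with h | h
  · exfalso
    exact hr2 ((Nat.prime_dvd_prime_iff_eq hr.prime Nat.prime_two).1 (h.trans (Nat.gcd_dvd_left _ _)))
  · exact h

theorem card_dvd_pre (R : Subgroup (PSp m F)) : Nat.card R ∣ Nat.card (pre R) := by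
  have h1 : Nat.card (pre R) =
      Nat.card (R.comap (QuotientGroup.mk' (Subgroup.center (Matrix.symplecticGroup (Fin m) F)))) := by
    unfold pre
    rw [Subgroup.card_map_of_injective spToGL_injective]
  rw [h1]
  have h2 : R = (R.comap (QuotientGroup.mk' (Subgroup.center (Matrix.symplecticGroup (Fin m) F)))).map
      (QuotientGroup.mk' (Subgroup.center (Matrix.symplecticGroup (Fin m) F))) :=
    (Subgroup.map_comap_eq_self_of_surjective (QuotientGroup.mk'_surjective _) R).symm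
  conv_lhs => rw [h2]
  exact Subgroup.card_map_dvd _ _

/-- if no prime is missing, the primitive prime divisors are hit. -/
theorem hits_of {R : Subgroup (PSp m F)} (hR : ¬ PGap (PSp m F) R) {e i : ℕ} (hi : 1 ≤ i) (him : i ≤ m)
    (hd : e ∣ 2 * i) (he : 2 ≤ e ∨ (1 ≤ e ∧ ¬ Odd (Fintype.card F))) : Hits (pre R) e := by
  intro r hr
  have hr2 : r ≠ 2 := by
    rintro rfl
    rcases he with he | ⟨he, hodd⟩
    · have := hr.lt (by omega); omega
    · have h1 := hr.not_dvd he
      rw [Nat.card_eq_fintype_card] at h1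
      rw [Nat.not_odd_iff_even] at hodd
      exact h1 hodd.two_dvd
  have h1 := dvd_card_psp hr hr2 hi him hd
  have h2 : r ∣ Nat.card R := by
    by_contra h
    exact hR ⟨r, hr.prime, h1, h⟩
  exact h2.trans (card_dvd_pre R)

/-- **Proper subgroups of `PSp_2m(q)`**: a prime is missing, or the residual class, or `O^-_2m(q)` (`q`, `m` even), or
`m = 2` and `PSp_2(q²).2`. -/
theorem psp_cases (hm : 2 ≤ m) (hex : ¬ (m = 2 ∧ Fintype.card F = 2)) (h32 : ¬ (m = 3 ∧ Fintype.card F = 2))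
    (hm2 : m = 2 → ¬ Odd (Fintype.card F)) {R : Subgroup (PSp m F)} (hR : R ≠ ⊤) :
    PGap (PSp m F) R ∨ InSymplecticResidualClass (pre R) ∨ InOMinus m F (pre R) ∨ InExt m F (pre R) := by
  by_cases hP : PGap (PSp m F) R
  · exact Or.inl hP
  right
  rcases Cfsg.Agent.S5662.result m hm hex (pre R) (pre_le R) (by
    rw [sup_eq_left.2 (scalars_le_pre R)]
    exact pre_ne hR) with ⟨M, hM, hle⟩ | h
  · right
    refine geo_cases hm hex h32 hm2 hM hle (hits_of hP (i := m) (by omega) le_rfl dvd_rfl (Or.inl (by omega)))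
      (hits_of hP (i := m - 1) (by omega) (by omega) (by rw [show 2 * m - 2 = 2 * (m - 1) by omega])
        (Or.inl (by omega))) ?_
    have ho := oddE_odd (m := m) (by omega)
    have h1 : 1 ≤ oddE m := ho.pos
    have h2 : oddE m ≤ m := by unfold oddE; split_ifs <;> omega
    refine hits_of hP (i := oddE m) h1 h2 (Dvd.intro_left _ rfl) ?_
    by_cases h : m = 2
    · exact Or.inr ⟨h1, hm2 h⟩
    · left
      rcases Nat.even_or_odd m with he | ho'
      · rw [oddE_of_even he]; omega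
      · rw [oddE_of_odd ho']; omega
  · exact Or.inl h

end Cfsg.Agent.H901.SaxSp
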