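import Mathlib

/-!
# Lengths of subgroup chains

`LenLE G k` says that every strictly increasing chain of subgroups of `G` has length at most `k`
(`k + 1` terms), `HasChain G k` that there is a strictly increasing chain of length `k`.
-/

set_option autoImplicit false

namespace Cfsg.Agent.H901.ChainLen

/-- every chain of subgroups of `G` has length at most `k`. -/
def LenLE (G : Type*) [Group G] (k : ℕ) : Prop :=
  ∀ p : LTSeries (Subgroup G), p.length ≤ k

/-- there is a chain of subgroups of length `k`. -/
def HasChain (G : Type*) [Group G] (k : ℕ) : Prop :=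
  ∃ p : LTSeries (Subgroup G), p.length = k

theorem LenLE.mono {G : Type*} [Group G] {k l : ℕ} (h : LenLE G k) (hkl : k ≤ l) : LenLE G l :=
  fun p => (h p).trans hkl

/-- a strictly monotone rank function bounds the chains. -/
theorem of_rank {G : Type*} [Group G] {k : ℕ} (r : Subgroup G → ℕ) (hr : StrictMono r)
    (hk : ∀ K, r K ≤ k) : LenLE G k := by
  intro p
  have hmono : StrictMono (fun i : Fin (p.length + 1) => r (p i)) := hr.comp p.strictMono
  have h : ∀ (m : ℕ) (hm : m < p.length + 1), m ≤ r (p ⟨m, hm⟩) := by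
    intro m
    induction m with
    | zero => intro _; exact Nat.zero_le _
    | succ m ih =>
      intro hm
      have h1 := ih (by omega)
      have h2 : r (p ⟨m, by omega⟩) < r (p ⟨m + 1, hm⟩) := hmono (by
        rw [Fin.lt_def]; exact Nat.lt_succ_self m)
      omega
  exact (h p.length (Nat.lt_succ_self _)).trans (hk _)

theorem exists_rank {G : Type*} [Group G] {k : ℕ} (h : LenLE G k) :
    ∃ r : Subgroup G → ℕ, StrictMono r ∧ ∀ K, r K ≤ k := by
  have hle : ∀ K : Subgroup G, Order.height K ≤ (k : ℕ∞) := by
    intro K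
    exact Order.height_le fun p _ => by exact_mod_cast h p
  have hlt : ∀ K : Subgroup G, Order.height K < ⊤ := fun K =>
    lt_of_le_of_lt (hle K) (ENat.natCast_lt_top k)
  refine ⟨fun K => (Order.height K).toNat, ?_, ?_⟩
  · intro A B hAB
    have h1 := Order.height_strictMono hAB (hlt A)
    obtain ⟨a, ha⟩ := ENat.ne_top_iff_exists.1 (hlt A).ne
    obtain ⟨b, hb⟩ := ENat.ne_top_iff_exists.1 (hlt B).ne
    show (Order.height A).toNat < (Order.height B).toNat
    rw [← ha, ← hb] at h1 ⊢
    simpa using h1
  · intro K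
    have := ENat.toNat_le_toNat (hle K) (ENat.natCast_ne_top k)
    simpa using this

theorem LenLE.of_injective {G H : Type*} [Group G] [Group H] {k : ℕ} (h : LenLE G k)
    (f : H →* G) (hf : Function.Injective f) : LenLE H k := by
  obtain ⟨r, hr, hk⟩ := exists_rank h
  refine of_rank (fun K => r (K.map f)) ?_ fun K => hk _
  intro A B hAB
  apply hr
  exact (Subgroup.map_lt_map_iff_of_injective hf).2 hAB

theorem LenLE.of_equiv {G H : Type*} [Group G] [Group H] {k : ℕ} (h : LenLE G k)
    (e : H ≃* G) : LenLE H k :=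
  h.of_injective e.toMonoidHom e.injective

theorem LenLE.subgroup {G : Type*} [Group G] {k : ℕ} (h : LenLE G k) (H : Subgroup G) :
    LenLE H k :=
  h.of_injective H.subtype H.subtype_injective

theorem LenLE.of_le {G : Type*} [Group G] {k : ℕ} {H K : Subgroup G} (h : LenLE K k)
    (hHK : H ≤ K) : LenLE H k :=
  h.of_injective (Subgroup.inclusion hHK) (Subgroup.inclusion_injective hHK)

/-- extensions. -/
theorem LenLE.of_ker {G Q : Type*} [Group G] [Group Q] {a b : ℕ} (f : G →* Q)
    (ha : LenLE f.ker a) (hb : LenLE Q b) : LenLE G (a + b) := by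
  obtain ⟨r, hr, hk⟩ := exists_rank ha
  obtain ⟨s, hs, hl⟩ := exists_rank hb
  refine of_rank (fun K => r (K.comap f.ker.subtype) + s (K.map f)) ?_
    fun K => add_le_add (hk _) (hl _)
  intro A B hAB
  have h1 : A.comap f.ker.subtype ≤ B.comap f.ker.subtype := Subgroup.comap_mono hAB.le
  have h2 : A.map f ≤ B.map f := Subgroup.map_mono hAB.le
  have h3 := hr.monotone h1
  have h4 := hs.monotone h2
  by_contra hcon
  have h5 : r (A.comap f.ker.subtype) = r (B.comap f.ker.subtype) := by
    have : ¬ (r (A.comap f.ker.subtype) + s (A.map f) < r (B.comap f.ker.subtype) + s (B.map f)) :=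
      hcon
    omega
  have h6 : s (A.map f) = s (B.map f) := by
    have : ¬ (r (A.comap f.ker.subtype) + s (A.map f) < r (B.comap f.ker.subtype) + s (B.map f)) :=
      hcon
    omega
  have h7 : A.comap f.ker.subtype = B.comap f.ker.subtype := by
    by_contra hne
    exact (hr (lt_of_le_of_ne h1 hne)).ne h5
  have h8 : A.map f = B.map f := by
    by_contra hne
    exact (hs (lt_of_le_of_ne h2 hne)).ne h6
  apply hAB.ne
  apply le_antisymm hAB.le
  intro x hx
  have hx2 : f x ∈ A.map f := by rw [h8]; exact Subgroup.mem_map_of_mem f hx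
  obtain ⟨y, hy, hyx⟩ := Subgroup.mem_map.1 hx2
  have hz : y⁻¹ * x ∈ f.ker := by
    rw [MonoidHom.mem_ker, map_mul, map_inv, hyx, inv_mul_cancel]
  have hz2 : (⟨y⁻¹ * x, hz⟩ : f.ker) ∈ B.comap f.ker.subtype :=
    B.mul_mem (B.inv_mem (hAB.le hy)) hx
  rw [← h7] at hz2
  have hz3 : y⁻¹ * x ∈ A := hz2
  have := A.mul_mem hy hz3
  rwa [mul_inv_cancel_left] at this

theorem LenLE.prod {G H : Type*} [Group G] [Group H] {a b : ℕ}
    (ha : LenLE G a) (hb : LenLE H b) : LenLE (G × H) (a + b) := by
  refine LenLE.of_ker (MonoidHom.snd G H) ?_ hb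
  refine ha.of_injective ((MonoidHom.fst G H).comp (MonoidHom.snd G H).ker.subtype) ?_
  intro x y hxy
  apply Subtype.ext
  apply Prod.ext
  · exact hxy
  · have h1 : (x : G × H).2 = 1 := x.2
    have h2 : (y : G × H).2 = 1 := y.2
    rw [h1, h2]

theorem LenLE.of_subsingleton {G : Type*} [Group G] [Subsingleton G] (k : ℕ) : LenLE G k := by
  refine of_rank (fun _ => 0) ?_ fun _ => Nat.zero_le _
  intro A B hAB
  exact absurd (Subsingleton.elim A B) hAB.ne

theorem LenLE.pi {ι : Type*} [Fintype ι] {G : Type*} [Group G] {a : ℕ} (ha : LenLE G a) :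
    LenLE (ι → G) (Fintype.card ι * a) := by
  classical
  -- reduce to `Fin n`
  have key : ∀ n : ℕ, LenLE (Fin n → G) (n * a) := by
    intro n
    induction n with
    | zero => exact LenLE.of_subsingleton _
    | succ n ih =>
      have h1 : LenLE (G × (Fin n → G)) (a + n * a) := ha.prod ih
      have h2 : (n + 1) * a = a + n * a := by ring
      rw [h2]
      refine h1.of_injective
        { toFun := fun f => (f 0, fun i => f i.succ)
          map_one' := rfl
          map_mul' := fun _ _ => rfl } ?_
      intro f g hfg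
      have h3 : f 0 = g 0 := congrArg Prod.fst hfg
      have h4 : (fun i : Fin n => f i.succ) = fun i : Fin n => g i.succ := congrArg Prod.snd hfg
      funext i
      refine Fin.cases h3 (fun j => ?_) i
      exact congrFun h4 j
  refine (key (Fintype.card ι)).of_injective
    { toFun := fun f i => f ((Fintype.equivFin ι).symm i)
      map_one' := rfl
      map_mul' := fun _ _ => rfl } ?_
  intro f g hfg
  funext i
  have := congrFun hfg (Fintype.equivFin ι i)
  simpa using this

/-- the chain length is at most one more than that of the proper subgroups. -/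
theorem LenLE.of_proper {G : Type*} [Group G] {k : ℕ}
    (h : ∀ H : Subgroup G, H < ⊤ → LenLE H k) : LenLE G (k + 1) := by
  intro p
  by_contra hcon
  push Not at hcon
  have hlen : 1 ≤ p.length := by omega
  -- the last but one term
  let i0 : Fin (p.length + 1) := ⟨p.length - 1, by omega⟩
  let i1 : Fin (p.length + 1) := ⟨p.length, by omega⟩
  have hlt : p i0 < p i1 := p.strictMono (by
    rw [Fin.lt_def]; show p.length - 1 < p.length; omega)
  have htop : p i0 < ⊤ := lt_of_lt_of_le hlt le_top
  obtain ⟨r, hr, hk⟩ := exists_rank (h (p i0) htop)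
  have hind : ∀ (m : ℕ) (hm : m < p.length), m ≤ r ((p ⟨m, by omega⟩).subgroupOf (p i0)) := by
    intro m
    induction m with
    | zero => intro _; exact Nat.zero_le _
    | succ m ih =>
      intro hm
      have h1 := ih (by omega)
      have hle1 : p ⟨m + 1, by omega⟩ ≤ p i0 := p.strictMono.monotone (by
        rw [Fin.le_def]; show m + 1 ≤ p.length - 1; omega)
      have hlt1 : p ⟨m, by omega⟩ < p ⟨m + 1, by omega⟩ := p.strictMono (by
        rw [Fin.lt_def]; exact Nat.lt_succ_self m)
      have h2 : (p ⟨m, by omega⟩).subgroupOf (p i0) < (p ⟨m + 1, by omega⟩).subgroupOf (p i0) := by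
        refine lt_of_le_of_ne (Subgroup.comap_mono hlt1.le) ?_
        intro heq
        apply hlt1.ne
        have h3 := congrArg (Subgroup.map (p i0).subtype) heq
        rwa [Subgroup.subgroupOf_map_subtype, Subgroup.subgroupOf_map_subtype,
          inf_eq_left.2 (hlt1.le.trans hle1), inf_eq_left.2 hle1] at h3
      have := hr h2
      omega
  have h5 := (hind (p.length - 1) (by omega)).trans (hk _)
  omega

/-- a proper subgroup has smaller length. -/
theorem LenLE.of_lt {G : Type*} [Group G] {k : ℕ} {H K : Subgroup G} (h : LenLE K (k + 1))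
    (hHK : H < K) : LenLE H k := by
  intro p
  by_contra hcon
  push Not at hcon
  -- push the chain into `K` and add `⊤`
  have hinj := Subgroup.inclusion_injective hHK.le
  let q : LTSeries (Subgroup K) := p.map (Subgroup.map (Subgroup.inclusion hHK.le)) (by
    intro A B hAB
    exact (Subgroup.map_lt_map_iff_of_injective hinj).2 hAB)
  have hlast : q.last < ⊤ := by
    rw [lt_top_iff_ne_top]
    intro htop
    apply hHK.not_ge
    intro x hx
    have h1 : (⟨x, hx⟩ : K) ∈ q.last := by rw [htop]; exact Subgroup.mem_top _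
    have h2 : q.last = (p.last).map (Subgroup.inclusion hHK.le) := rfl
    rw [h2] at h1
    obtain ⟨y, _, hy⟩ := Subgroup.mem_map.1 h1
    have h3 := congrArg Subtype.val hy
    have h4 : (y : G) = x := h3
    rw [← h4]
    exact y.2
  have hq : (q.snoc ⊤ hlast).length ≤ k + 1 := h _
  have hq2 : (q.snoc ⊤ hlast).length = p.length + 1 := rfl
  omega

theorem LenLE.zero_of_lt {G : Type*} [Group G] {H K : Subgroup G} {k : ℕ} (h : LenLE K k)
    (hHK : H < K) : 1 ≤ k := by
  by_contra hcon
  have hk : k = 0 := by omega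
  subst hk
  have hlt : H.subgroupOf K < ⊤ := by
    rw [lt_top_iff_ne_top]
    intro htop
    exact hHK.not_ge (Subgroup.subgroupOf_eq_top.1 htop)
  let q : LTSeries (Subgroup K) := (RelSeries.singleton _ (H.subgroupOf K)).snoc ⊤ hlt
  have := h q
  have h2 : q.length = 1 := rfl
  omega

theorem LenLE.of_lt' {G : Type*} [Group G] {k : ℕ} {H K : Subgroup G} (h : LenLE K k)
    (hHK : H < K) : LenLE H (k - 1) := by
  have := h.zero_of_lt hHK
  obtain ⟨l, rfl⟩ : ∃ l, k = l + 1 := ⟨k - 1, by omega⟩
  exact h.of_lt hHK

/-- the chain length is at most the number of prime factors of the order. -/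
theorem LenLE.of_card {G : Type*} [Group G] [Finite G] :
    LenLE G (ArithmeticFunction.cardFactors (Nat.card G)) := by
  refine of_rank (fun K => ArithmeticFunction.cardFactors (Nat.card K)) ?_ ?_
  · intro A B hAB
    have h1 : Nat.card A ∣ Nat.card B := Subgroup.card_dvd_of_le hAB.le
    obtain ⟨c, hc⟩ := h1
    have hA : Nat.card A ≠ 0 := Nat.card_pos.ne'
    have hB : Nat.card B ≠ 0 := Nat.card_pos.ne'
    have hc0 : c ≠ 0 := by
      rintro rfl
      rw [mul_zero] at hc
      exact hB hc
    have hc1 : c ≠ 1 := by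
      rintro rfl
      rw [mul_one] at hc
      exact hAB.ne (Subgroup.eq_of_le_of_card_ge hAB.le hc.le)
    show ArithmeticFunction.cardFactors (Nat.card A) < ArithmeticFunction.cardFactors (Nat.card B)
    rw [hc, ArithmeticFunction.cardFactors_mul hA hc0]
    have h3 : 0 < ArithmeticFunction.cardFactors c := by
      rw [Nat.pos_iff_ne_zero]
      intro h4
      rcases ArithmeticFunction.cardFactors_eq_zero_iff_eq_zero_or_one.1 h4 with h5 | h5
      · exact hc0 h5
      · exact hc1 h5
    omega
  · intro K
    obtain ⟨c, hc⟩ := Subgroup.card_subgroup_dvd_card K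
    have hG : Nat.card G ≠ 0 := Nat.card_pos.ne'
    have hK : Nat.card K ≠ 0 := Nat.card_pos.ne'
    have hc0 : c ≠ 0 := by
      rintro rfl
      rw [mul_zero] at hc
      exact hG hc
    show ArithmeticFunction.cardFactors (Nat.card K) ≤ ArithmeticFunction.cardFactors (Nat.card G)
    rw [hc, ArithmeticFunction.cardFactors_mul hK hc0]
    omega

/-! ### Lower bounds -/

theorem HasChain.of_injective {G H : Type*} [Group G] [Group H] {k : ℕ} (h : HasChain H k)
    (f : H →* G) (hf : Function.Injective f) : HasChain G k := by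
  obtain ⟨p, hp⟩ := h
  refine ⟨p.map (Subgroup.map f) ?_, hp⟩
  intro A B hAB
  exact (Subgroup.map_lt_map_iff_of_injective hf).2 hAB

theorem HasChain.zero (G : Type*) [Group G] : HasChain G 0 :=
  ⟨RelSeries.singleton _ ⊤, rfl⟩

/-- one step more through an injective homomorphism which is not surjective. -/
theorem HasChain.succ {G H : Type*} [Group G] [Group H] {k : ℕ} (h : HasChain H k)
    (f : H →* G) (hf : Function.Injective f) (hf2 : ¬ Function.Surjective f) :
    HasChain G (k + 1) := by
  obtain ⟨p, hp⟩ := h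
  let q : LTSeries (Subgroup G) := p.map (Subgroup.map f) (by
    intro A B hAB
    exact (Subgroup.map_lt_map_iff_of_injective hf).2 hAB)
  have hlast : q.last < ⊤ := by
    rw [lt_top_iff_ne_top]
    intro htop
    apply hf2
    intro x
    have h1 : x ∈ q.last := by rw [htop]; exact Subgroup.mem_top _
    obtain ⟨y, _, hy⟩ := Subgroup.mem_map.1 h1
    exact ⟨y, hy⟩
  refine ⟨q.snoc ⊤ hlast, ?_⟩
  have : (q.snoc ⊤ hlast).length = p.length + 1 := rfl
  omega

theorem HasChain.prod {G H : Type*} [Group G] [Group H] {a b : ℕ}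
    (ha : HasChain G a) (hb : HasChain H b) : HasChain (G × H) (a + b) := by
  obtain ⟨p, hp⟩ := ha
  obtain ⟨q, hq⟩ := hb
  let p' : LTSeries (Subgroup (G × H)) := p.map (fun A => A.prod q.head) (by
    intro A B hAB
    refine lt_of_le_of_ne (Subgroup.prod_mono hAB.le le_rfl) ?_
    intro heq
    apply hAB.not_ge
    intro x hx
    have h1 : (x, (1 : H)) ∈ A.prod q.head := by
      show (x, (1 : H)) ∈ (fun A => A.prod q.head) A
      rw [heq]
      exact Subgroup.mem_prod.2 ⟨hx, q.head.one_mem⟩
    exact (Subgroup.mem_prod.1 h1).1)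
  let q' : LTSeries (Subgroup (G × H)) := q.map (fun B => (p.last).prod B) (by
    intro A B hAB
    refine lt_of_le_of_ne (Subgroup.prod_mono le_rfl hAB.le) ?_
    intro heq
    apply hAB.not_ge
    intro x hx
    have h1 : ((1 : G), x) ∈ (p.last).prod A := by
      show ((1 : G), x) ∈ (fun B => (p.last).prod B) A
      rw [heq]
      exact Subgroup.mem_prod.2 ⟨p.last.one_mem, hx⟩
    exact (Subgroup.mem_prod.1 h1).2)
  refine ⟨RelSeries.smash p' q' rfl, ?_⟩
  show p'.length + q'.length = a + b
  have h1 : p'.length = p.length := rfl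
  have h2 : q'.length = q.length := rfl
  omega

/-! ### The form of the statement -/

theorem exists_strictAnti_of_hasChain {G : Type*} [Group G] {k : ℕ} (h : HasChain G k) :
    ∃ c : Fin (k + 1) → Subgroup G, StrictAnti c := by
  obtain ⟨p, rfl⟩ := h
  refine ⟨fun i => p (Fin.rev i), ?_⟩
  intro i j hij
  exact p.strictMono (Fin.rev_lt_rev.2 hij)

theorem not_strictAnti_of_lenLE {G : Type*} [Group G] {k : ℕ} (h : LenLE G k)
    (c : Fin (k + 2) → Subgroup G) : ¬ StrictAnti c := by
  intro hc
  let p : LTSeries (Subgroup G) :=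
    { length := k + 1
      toFun := fun i => c (Fin.rev i)
      step := fun i => hc (by
        rw [Fin.rev_lt_rev]
        exact Fin.castSucc_lt_succ) }
  have := h p
  have h2 : p.length = k + 1 := rfl
  omega

end Cfsg.Agent.H901.ChainLen
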