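import Cfsg.Agent.H901.ChainLen
import Cfsg.Agent.H901.PopCount

/-!
# The upper bound for chains in the symmetric group, from the bound for primitive groups
-/

set_option autoImplicit false

namespace Cfsg.Agent.H901.ChainUpper

open Cfsg.Agent.H901.ChainLen Cfsg.Agent.H901.PopCount Equiv MulAction
open scoped Pointwise

/-- The bound for primitive groups of degree `n` which the proof needs. -/
def PrimBound (n : ℕ) : Prop :=
  ∀ (α : Type) [Fintype α] [DecidableEq α] (G : Subgroup (Perm α)), Fintype.card α = n →
    IsPreprimitive G α → ¬ alternatingGroup α ≤ G →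
    ArithmeticFunction.cardFactors (Nat.card G) + 1 ≤ F n ∧
      (G ≤ alternatingGroup α → ArithmeticFunction.cardFactors (Nat.card G) + 2 ≤ F n)

variable {α : Type}

/-- the setwise stabilizer. -/
def St (s : Set α) : Subgroup (Perm α) where
  carrier := {σ | ∀ x, σ x ∈ s ↔ x ∈ s}
  one_mem' := fun _ => Iff.rfl
  mul_mem' := by
    intro σ τ hσ hτ x
    exact (hσ (τ x)).trans (hτ x)
  inv_mem' := by
    intro σ hσ x
    have := hσ (σ⁻¹ x)
    rw [show σ (σ⁻¹ x) = x from σ.apply_symm_apply x] at this
    exact this.symm

/-- the stabilizer of an equivalence relation. -/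
def Wr (r : Setoid α) : Subgroup (Perm α) where
  carrier := {σ | ∀ x y, r (σ x) (σ y) ↔ r x y}
  one_mem' := fun _ _ => Iff.rfl
  mul_mem' := by
    intro σ τ hσ hτ x y
    exact (hσ (τ x) (τ y)).trans (hτ x y)
  inv_mem' := by
    intro σ hσ x y
    have := hσ (σ⁻¹ x) (σ⁻¹ y)
    rw [show σ (σ⁻¹ x) = x from σ.apply_symm_apply x,
      show σ (σ⁻¹ y) = y from σ.apply_symm_apply y] at this
    exact this.symm

theorem lenLE_perm_of_card {β : Type} [Fintype β] {n k : ℕ} (h : LenLE (Perm (Fin n)) k)
    (hn : Fintype.card β = n) : LenLE (Perm β) k :=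
  h.of_equiv (Fintype.equivFinOfCardEq hn).permCongrHom

theorem lenLE_St [Fintype α] (s : Set α) {a b k l : ℕ}
    (ha : Nat.card s = a) (hb : Nat.card (sᶜ : Set α) = b) (hk : LenLE (Perm (Fin a)) k)
    (hl : LenLE (Perm (Fin b)) l) : LenLE (St s) (k + l) := by
  classical
  rw [Nat.card_eq_fintype_card] at ha hb
  have h1 := lenLE_perm_of_card hk ha
  have h2 := lenLE_perm_of_card hl hb
  refine (h1.prod h2).of_injective
    { toFun := fun σ => (Perm.subtypePerm (σ : Perm α) σ.2,
        Perm.subtypePerm (σ : Perm α) (p := fun x => x ∈ sᶜ) (fun x => not_congr (σ.2 x)))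
      map_one' := rfl
      map_mul' := fun σ τ => rfl } ?_
  intro σ τ hst
  apply Subtype.ext
  ext x
  by_cases hx : x ∈ s
  · have h3 := congrArg (fun u => ((u.1 ⟨x, hx⟩ : s) : α)) hst
    exact h3
  · have h3 := congrArg (fun u => ((u.2 ⟨x, hx⟩ : (sᶜ : Set α)) : α)) hst
    exact h3

theorem lenLE_Wr [Fintype α] (r : Setoid α) {a b k l : ℕ}
    (ha : ∀ c : Quotient r, Nat.card {x : α // (⟦x⟧ : Quotient r) = c} = a)
    (hb : Nat.card (Quotient r) = b)
    (hk : LenLE (Perm (Fin a)) k) (hl : LenLE (Perm (Fin b)) l) : LenLE (Wr r) (b * k + l) := by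
  classical
  rw [Nat.card_eq_fintype_card] at hb
  have h2 := lenLE_perm_of_card hl hb
  -- the action on the classes
  let φ : Wr r →* Perm (Quotient r) :=
    { toFun := fun σ => Quotient.congr (σ : Perm α) (fun x y => (σ.2 x y).symm)
      map_one' := by
        ext c
        refine Quotient.inductionOn c fun x => rfl
      map_mul' := by
        intro σ τ
        ext c
        refine Quotient.inductionOn c fun x => rfl }
  refine LenLE.of_ker φ ?_ h2
  -- the kernel
  have hker : ∀ σ : φ.ker, ∀ x : α, (⟦((σ : Wr r) : Perm α) x⟧ : Quotient r) = ⟦x⟧ := by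
    intro σ x
    have h3 : φ (σ : Wr r) = 1 := σ.2
    exact congrArg (fun f : Perm (Quotient r) => f ⟦x⟧) h3
  let e : ∀ c : Quotient r, {x : α // (⟦x⟧ : Quotient r) = c} ≃ Fin a := fun c =>
    Fintype.equivFinOfCardEq (by rw [← Nat.card_eq_fintype_card]; exact ha c)
  have h4 : LenLE (Quotient r → Perm (Fin a)) (Fintype.card (Quotient r) * k) := hk.pi
  rw [hb] at h4
  refine h4.of_injective
    { toFun := fun σ c => (e c).permCongrHom
        (Perm.subtypePerm ((σ : Wr r) : Perm α) (fun x => by rw [hker σ x]))
      map_one' := by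
        funext c
        exact map_one (e c).permCongrHom
      map_mul' := by
        intro σ τ
        funext c
        rw [Pi.mul_apply, ← map_mul]
        rfl } ?_
  intro σ τ hst
  apply Subtype.ext
  apply Subtype.ext
  ext x
  have h5 := congrFun hst ⟦x⟧
  have h6 := (e ⟦x⟧).permCongrHom.injective h5
  exact congrArg (fun u : Perm {y : α // (⟦y⟧ : Quotient r) = ⟦x⟧} =>
    ((u ⟨x, rfl⟩ : {y : α // (⟦y⟧ : Quotient r) = ⟦x⟧}) : α)) h6

/-- A group which is not primitive lies in the stabilizer of a set or of a partition. -/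
theorem nonprim [Fintype α] [DecidableEq α] (hn : 3 ≤ Fintype.card α) (H : Subgroup (Perm α))
    (hH : ¬ IsPreprimitive H α)
    (ih : ∀ m < Fintype.card α, LenLE (Perm (Fin m)) (F m)) :
    ∃ M : Subgroup (Perm α), H ≤ M ∧ LenLE M (F (Fintype.card α) - 1) ∧
      ∃ x y : α, x ≠ y ∧ swap x y ∈ M := by
  classical
  have : Nonempty α := by rw [← Fintype.card_pos_iff]; omega
  by_cases htr : IsPretransitive H α
  · -- imprimitive
    obtain ⟨B, hB, hBt⟩ : ∃ B : Set α, IsBlock H B ∧ ¬ IsTrivialBlock B := by
      by_contra hcon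
      push Not at hcon
      exact hH { isTrivialBlock_of_isBlock := fun {B} hB => hcon B hB }
    unfold IsTrivialBlock at hBt
    push Not at hBt
    obtain ⟨hBs, hBu⟩ := hBt
    have hBs' : B.Nontrivial := hBs
    obtain ⟨x0, hx0, y0, hy0, hxy0⟩ := hBs'
    have hgg : ∀ g g' : H, ∀ x : α, x ∈ g • B → x ∈ g' • B → g • B = g' • B := by
      intro g g' x h1 h2
      exact isBlock_iff_smul_eq_smul_of_nonempty.1 hB ⟨x, h1, h2⟩
    have hcov : ∀ x : α, ∃ g : H, x ∈ g • B := by
      intro x
      obtain ⟨g, hg⟩ := htr.exists_smul_eq x0 x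
      exact ⟨g, Set.mem_smul_set.2 ⟨x0, hx0, hg⟩⟩
    let r : Setoid α :=
      { r := fun x y => ∃ g : H, x ∈ g • B ∧ y ∈ g • B
        iseqv :=
          { refl := fun x => by
              obtain ⟨g, hg⟩ := hcov x
              exact ⟨g, hg, hg⟩
            symm := fun {x y} ⟨g, h1, h2⟩ => ⟨g, h2, h1⟩
            trans := fun {x y z} ⟨g, h1, h2⟩ ⟨g', h3, h4⟩ => by
              refine ⟨g', ?_, h4⟩
              rw [← hgg g g' y h2 h3]
              exact h1 } }
    have hr : ∀ x y : α, r x y ↔ ∃ g : H, x ∈ g • B ∧ y ∈ g • B := fun x y => Iff.rfl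
    have hclass : ∀ (g : H) (x : α), x ∈ g • B → {y : α | r y x} = g • B := by
      intro g x hx
      ext y
      rw [Set.mem_ofPred_eq, hr]
      constructor
      · rintro ⟨g', h1, h2⟩
        rw [hgg g g' x hx h2]
        exact h1
      · intro hy
        exact ⟨g, hy, hx⟩
    have hcc : ∀ c : Quotient r, Nat.card {x : α // (⟦x⟧ : Quotient r) = c} = Nat.card B := by
      intro c
      refine Quotient.inductionOn c fun x => ?_
      obtain ⟨g, hg⟩ := hcov x
      have h1 : {y : α | (⟦y⟧ : Quotient r) = ⟦x⟧} = g • B := by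
        rw [← hclass g x hg]
        ext y
        exact Quotient.eq
      have h2 : Nat.card {y : α // (⟦y⟧ : Quotient r) = ⟦x⟧} = Nat.card (g • B : Set α) := by
        rw [← h1]; rfl
      rw [h2, Nat.card_coe_set_eq, Nat.card_coe_set_eq, Set.ncard_smul_set]
    -- counting
    have hcount : Nat.card B * Nat.card (Quotient r) = Fintype.card α := by
      have h1 : Nat.card α = ∑ c : Quotient r, Nat.card {x : α // (⟦x⟧ : Quotient r) = c} := by
        rw [← Nat.card_sigma]
        exact Nat.card_congr (Equiv.sigmaFiberEquiv (fun x : α => (⟦x⟧ : Quotient r))).symm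
      rw [← Nat.card_eq_fintype_card, h1, Finset.sum_congr rfl fun c _ => hcc c, Finset.sum_const,
        Finset.card_univ, smul_eq_mul, Nat.card_eq_fintype_card (α := Quotient r), mul_comm]
    have hB2 : 2 ≤ Nat.card B := by
      rw [Nat.card_coe_set_eq]
      have h1 : B.Nontrivial := ⟨x0, hx0, y0, hy0, hxy0⟩
      have := (Set.one_lt_ncard (s := B) (Set.toFinite B)).2 ⟨x0, hx0, y0, hy0, hxy0⟩
      omega
    have hQ2 : 2 ≤ Nat.card (Quotient r) := by
      have hpos : 0 < Nat.card (Quotient r) := by
        rw [Nat.card_pos_iff]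
        exact ⟨⟨⟦x0⟧⟩, inferInstance⟩
      by_contra hcon
      have h1 : Nat.card (Quotient r) = 1 := by omega
      rw [h1, mul_one] at hcount
      apply hBu
      apply Set.eq_univ_of_univ_subset
      have h2 : B.ncard = (Set.univ : Set α).ncard := by
        rw [Set.ncard_univ, Nat.card_eq_fintype_card, ← hcount, Nat.card_coe_set_eq]
      exact (Set.eq_of_subset_of_ncard_le (Set.subset_univ B) h2.ge).ge
    have hlt1 : Nat.card B < Fintype.card α := by
      rw [← hcount]; nlinarith
    have hlt2 : Nat.card (Quotient r) < Fintype.card α := by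
      rw [← hcount]; nlinarith
    refine ⟨Wr r, ?_, ?_, x0, y0, hxy0, ?_⟩
    · intro h hh x y
      rw [hr, hr]
      constructor
      · rintro ⟨g, h1, h2⟩
        refine ⟨(⟨h, hh⟩ : H)⁻¹ * g, ?_, ?_⟩
        · rw [mul_smul, Set.mem_inv_smul_set_iff]; exact h1
        · rw [mul_smul, Set.mem_inv_smul_set_iff]; exact h2
      · rintro ⟨g, h1, h2⟩
        refine ⟨(⟨h, hh⟩ : H) * g, ?_, ?_⟩
        · rw [mul_smul, Set.mem_smul_set_iff_inv_smul_mem]
          have : (⟨h, hh⟩ : H)⁻¹ • (h x) = x := by
            show (h⁻¹ : Perm α) (h x) = x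
            simp
          rw [this]; exact h1
        · rw [mul_smul, Set.mem_smul_set_iff_inv_smul_mem]
          have : (⟨h, hh⟩ : H)⁻¹ • (h y) = y := by
            show (h⁻¹ : Perm α) (h y) = y
            simp
          rw [this]; exact h2
    · have h1 := lenLE_Wr r hcc rfl (ih _ hlt1) (ih _ hlt2)
      refine h1.mono ?_
      have h2 := F_mul hB2 hQ2
      rw [hcount] at h2
      omega
    · -- the swap of two points of a class
      have hxy : r x0 y0 := (hr _ _).2 ⟨1, by simpa using hx0, by simpa using hy0⟩
      have hsw : ∀ x : α, r (swap x0 y0 x) x := by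
        intro x
        by_cases h1 : x = x0
        · subst h1
          rw [swap_apply_left]
          exact Setoid.symm' r hxy
        · by_cases h2 : x = y0
          · subst h2
            rw [swap_apply_right]
            exact hxy
          · rw [swap_apply_of_ne_of_ne h1 h2]
      intro x y
      constructor
      · intro h
        exact Setoid.trans' r (Setoid.symm' r (hsw x)) (Setoid.trans' r h (hsw y))
      · intro h
        exact Setoid.trans' r (hsw x) (Setoid.trans' r h (Setoid.symm' r (hsw y)))
  · -- intransitive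
    obtain ⟨x, y, hxy⟩ : ∃ x y : α, y ∉ orbit H x := by
      by_contra hcon
      push Not at hcon
      exact htr ⟨fun x y => by
        obtain ⟨g, hg⟩ := hcon x y
        exact ⟨g, hg⟩⟩
    set s : Set α := orbit H x with hs
    have hxs : x ∈ s := mem_orbit_self x
    have hcard : Nat.card s + Nat.card (sᶜ : Set α) = Fintype.card α := by
      rw [Nat.card_coe_set_eq, Nat.card_coe_set_eq, Set.ncard_add_ncard_compl,
        Nat.card_eq_fintype_card]
    have h1 : 1 ≤ Nat.card s := by
      rw [Nat.succ_le_iff, Nat.card_pos_iff]; exact ⟨⟨x, hxs⟩, inferInstance⟩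
    have h2 : 1 ≤ Nat.card (sᶜ : Set α) := by
      rw [Nat.succ_le_iff, Nat.card_pos_iff]; exact ⟨⟨y, hxy⟩, inferInstance⟩
    refine ⟨St s, ?_, ?_, ?_⟩
    · intro h hh z
      have : h z = (⟨h, hh⟩ : H) • z := rfl
      rw [this, hs, ← orbit_eq_iff, ← orbit_eq_iff, orbit_smul]
    · refine (lenLE_St s rfl rfl (ih _ (by omega)) (ih _ (by omega))).mono ?_
      have := F_split h1 h2
      rw [hcard] at this
      omega
    · -- a transposition
      have hsw : ∀ u v : α, (u ∈ s ↔ v ∈ s) → swap u v ∈ St s := by
        intro u v huv z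
        by_cases h3 : z = u
        · subst h3; rw [swap_apply_left]; exact huv.symm
        · by_cases h4 : z = v
          · subst h4; rw [swap_apply_right]; exact huv
          · rw [swap_apply_of_ne_of_ne h3 h4]
      rcases (by omega : 2 ≤ Nat.card s ∨ 2 ≤ Nat.card (sᶜ : Set α)) with h3 | h3
      · rw [Nat.card_coe_set_eq] at h3
        obtain ⟨u, v, hu, hv, huv⟩ := (Set.one_lt_ncard_iff (Set.toFinite s)).1 h3
        exact ⟨u, v, huv, hsw u v (iff_of_true hu hv)⟩
      · rw [Nat.card_coe_set_eq] at h3
        obtain ⟨u, v, hu, hv, huv⟩ := (Set.one_lt_ncard_iff (Set.toFinite sᶜ)).1 h3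
        exact ⟨u, v, huv, hsw u v (iff_of_false hu hv)⟩

theorem cardFactors_small : ∀ n ≤ 4, ArithmeticFunction.cardFactors (n.factorial) ≤ F n := by
  have h2 : Nat.Prime 2 := Nat.prime_two
  have h3 : Nat.Prime 3 := Nat.prime_three
  have e1 : ArithmeticFunction.cardFactors 1 = 0 := ArithmeticFunction.cardFactors_one
  have e2 : ArithmeticFunction.cardFactors 2 = 1 :=
    ArithmeticFunction.cardFactors_apply_prime h2
  have e3 : ArithmeticFunction.cardFactors 3 = 1 :=
    ArithmeticFunction.cardFactors_apply_prime h3
  have e4 : ArithmeticFunction.cardFactors 4 = 2 := by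
    rw [show 4 = 2 * 2 from rfl, ArithmeticFunction.cardFactors_mul (by norm_num) (by norm_num), e2]
  have e6 : ArithmeticFunction.cardFactors 6 = 2 := by
    rw [show 6 = 2 * 3 from rfl, ArithmeticFunction.cardFactors_mul (by norm_num) (by norm_num),
      e2, e3]
  have e24 : ArithmeticFunction.cardFactors 24 = 4 := by
    rw [show 24 = 4 * 6 from rfl, ArithmeticFunction.cardFactors_mul (by norm_num) (by norm_num),
      e4, e6]
  intro n hn
  interval_cases n
  · rw [Nat.factorial_zero, e1]; exact Nat.zero_le _
  · rw [Nat.factorial_one, e1]; exact Nat.zero_le _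
  · rw [Nat.factorial_two, e2]; decide
  · rw [show Nat.factorial 3 = 6 from rfl, e6]; decide
  · rw [show Nat.factorial 4 = 24 from rfl, e24]; decide

theorem step [Fintype α] [DecidableEq α] (hn : 5 ≤ Fintype.card α)
    (hPB : PrimBound (Fintype.card α))
    (ih : ∀ m < Fintype.card α, LenLE (Perm (Fin m)) (F m)) :
    LenLE (Perm α) (F (Fintype.card α)) := by
  have hnt : Nontrivial α := by
    rw [← Fintype.one_lt_card_iff_nontrivial]; omega
  -- `F n` is at least two
  have hF2 : 2 ≤ F (Fintype.card α) := by
    have h1 := F_eq (show 1 ≤ Fintype.card α by omega)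
    have h2 := bs_small (Fintype.card α)
    omega
  -- subgroups of the alternating group
  have halt : LenLE (alternatingGroup α) (F (Fintype.card α) - 2 + 1) := by
    refine LenLE.of_proper fun K hK => ?_
    set K' : Subgroup (Perm α) := K.map (alternatingGroup α).subtype with hK'
    have hle : K' ≤ alternatingGroup α := Subgroup.map_subtype_le K
    have hne : ¬ alternatingGroup α ≤ K' := by
      intro h
      apply hK.not_ge
      intro x _
      obtain ⟨y, hy, hyx⟩ := Subgroup.mem_map.1 (h x.2)
      have : y = x := Subtype.ext hyx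
      rwa [← this]
    have hK'L : LenLE K' (F (Fintype.card α) - 2) := by
      by_cases hprim : IsPreprimitive K' α
      · have h1 := (hPB α K' rfl hprim hne).2 hle
        exact LenLE.of_card.mono (by omega)
      · obtain ⟨M, hKM, hM, x, y, hxy, hsw⟩ := nonprim (by omega) K' hprim ih
        have h1 : M ⊓ alternatingGroup α < M := by
          refine lt_of_le_of_ne inf_le_left ?_
          intro h
          have h2 : swap x y ∈ alternatingGroup α := by
            have : swap x y ∈ M ⊓ alternatingGroup α := by rw [h]; exact hsw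
            exact this.2
          rw [Perm.mem_alternatingGroup, Perm.sign_swap hxy] at h2
          exact absurd h2 (by decide)
        have h2 := hM.of_lt' h1
        have h3 : F (Fintype.card α) - 1 - 1 = F (Fintype.card α) - 2 := by omega
        rw [h3] at h2
        exact h2.of_le (le_inf hKM hle)
    exact hK'L.of_injective (K.equivMapOfInjective _
      (alternatingGroup α).subtype_injective).toMonoidHom
      (K.equivMapOfInjective _ (alternatingGroup α).subtype_injective).injective
  have halt' : LenLE (alternatingGroup α) (F (Fintype.card α) - 1) := halt.mono (by omega)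
  have key : LenLE (Perm α) (F (Fintype.card α) - 1 + 1) := by
    refine LenLE.of_proper fun H hH => ?_
    by_cases hprim : IsPreprimitive H α
    · by_cases hA : alternatingGroup α ≤ H
      · -- `H` is the alternating group
        have h1 : H = alternatingGroup α := by
          by_contra hne
          apply hH.ne
          have h2 : alternatingGroup α < H := lt_of_le_of_ne hA (Ne.symm hne)
          have h3 : (alternatingGroup α).index = 2 := by
            have := nat_card_alternatingGroup (α := α)
            exact alternatingGroup.index_eq_two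
          have h4 : (alternatingGroup α).relIndex H * H.index = 2 := by
            rw [Subgroup.relIndex_mul_index hA, h3]
          have h5 : (alternatingGroup α).relIndex H ≠ 1 := by
            intro h
            exact h2.not_ge (Subgroup.relIndex_eq_one.1 h)
          have h6 : H.index ∣ 2 := Dvd.intro_left _ h4
          rcases (Nat.dvd_prime Nat.prime_two).1 h6 with h7 | h7
          · exact Subgroup.index_eq_one.1 h7
          · exfalso
            rw [h7] at h4
            apply h5
            omega
        rw [h1]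
        exact halt'
      · have h1 := (hPB α H rfl hprim hA).1
        exact LenLE.of_card.mono (by omega)
    · obtain ⟨M, hHM, hM, -⟩ := nonprim (by omega) H hprim ih
      exact hM.of_le hHM
  have h1 : F (Fintype.card α) - 1 + 1 = F (Fintype.card α) := by omega
  rwa [h1] at key

theorem lenLE_perm (hPB : ∀ n, 5 ≤ n → PrimBound n) (n : ℕ) : LenLE (Perm (Fin n)) (F n) := by
  induction n using Nat.strong_induction_on with
  | _ n ih =>
    rcases Nat.lt_or_ge n 5 with hn | hn
    · refine LenLE.of_card.mono ?_
      rw [Nat.card_perm, Nat.card_eq_fintype_card, Fintype.card_fin]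
      exact cardFactors_small n (by omega)
    · have h := step (α := Fin n) (by rw [Fintype.card_fin]; exact hn)
        (by rw [Fintype.card_fin]; exact hPB n hn)
        (fun m hm => ih m (by rwa [Fintype.card_fin] at hm))
      rwa [Fintype.card_fin] at h

end Cfsg.Agent.H901.ChainUpper
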