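import Cfsg.Agent.H901.FacSep

/-!
# The data of one prime for symplectic and orthogonal groups (helper901)
-/

set_option autoImplicit false
set_option linter.unusedSectionVars false

namespace Cfsg.Agent.H901.Fac

open Module Matrix Cfsg.Agent.H518.Dghp Cfsg.Agent.H518.DghpMat Cfsg.Agent.H518.DghpPrim Cfsg.Agent.H518.DghpSep
  Cfsg.Agent.H403 Cfsg.Agent.H161.NonAdj

universe u

/-- The data of one prime: order `e ≥ 3`, dimension `k`. -/
structure ID (q f r e k : ℕ) : Prop where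
  prime : r.Prime
  ord : orderOf (q : ZMod r) = e
  three : 3 ≤ e
  dim : (Even e ∧ k = e) ∨ (Odd e ∧ k = 2 * e)
  big : e * f < r

section

variable {q f r e k : ℕ}

theorem ID.lt (h : ID q f r e k) : e < r := lt_prime h.prime h.ord (by have := h.three; omega)

theorem ID.dvd (h : ID q f r e k) : e ∣ r - 1 := dvd_pred h.prime h.ord (by have := h.three; omega)

theorem ID.dimInv (h : ID q f r e k) : DimInv q r k := by
  rcases h.dim with ⟨-, rfl⟩ | ⟨h1, rfl⟩
  · exact Or.inl h.ord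
  · right
    have hf := Fact.mk h.prime
    have h3 := h.three
    have h4 := h.lt
    have h2 : orderOf (-1 : ZMod r) = 2 := by
      rw [orderOf_neg_one, if_neg]
      rw [ZMod.ringChar_zmod_n]
      omega
    have h5 : (-((q : ℕ) : ZMod r)) = (-1) * (q : ZMod r) := by ring
    rw [h5, (Commute.all _ _).orderOf_mul_eq_mul_orderOf_of_coprime, h2, h.ord]
    rw [h2, h.ord]
    exact h1.coprime_two_left

/-- `q ^ j ≡ -1`. -/
theorem ID.neg_one (h : ID q f r e k) {j : ℕ} (hj : (q : ZMod r) ^ j = -1) : e ∣ 2 * j ∧ ¬ e ∣ j := by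
  have hf := Fact.mk h.prime
  have h3 := h.three
  have h4 := h.lt
  constructor
  · rw [← h.ord]
    apply orderOf_dvd_of_pow_eq_one
    rw [mul_comm, pow_mul, hj]
    ring
  · intro h5
    rw [← h.ord, orderOf_dvd_iff_pow_eq_one, hj] at h5
    have h6 : ringChar (ZMod r) ≠ 2 := by
      rw [ZMod.ringChar_zmod_n]
      omega
    exact Ring.neg_one_ne_one_of_char_ne_two h6 h5

/-- The prime divides `q ^ e - 1`. -/
theorem ID.dvd_pow (h : ID q f r e k) (hq : 1 ≤ q) {j : ℕ} (hj : e ∣ j) : r ∣ q ^ j - 1 := by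
  have h1 := dvd_pow_sub_one (q := q) (r := r) hq h.ord
  exact h1.trans (Nat.pow_sub_one_dvd_pow_sub_one q hj)

theorem exists_ID {p f e : ℕ} (hp : p.Prime) (hf : 1 ≤ f) (he : 3 ≤ e) (h : ¬ (p ^ f = 2 ∧ e = 6)) {k : ℕ}
    (hk : (Even e ∧ k = e) ∨ (Odd e ∧ k = 2 * e)) : ∃ r, ID (p ^ f) f r e k := by
  obtain ⟨r, h1, h2, h3⟩ := exists_ppd hp hf he h
  exact ⟨r, h1, h2, he, hk, h3⟩

end

/-- The numerical conditions for a pair. -/
structure PN (n r s e f k l : ℕ) : Prop where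
  n1 : ¬ s ∣ e
  n2 : n < s * e
  n3 : ¬ r ∣ f
  n4 : n < r * f
  n5 : n < k + l
  n6 : n < Nat.lcm e f ∨ (n < 2 * Nat.lcm e f ∧ ∀ j, ¬ ((e ∣ 2 * j ∧ ¬ e ∣ j) ∧ f ∣ 2 * j ∧ ¬ f ∣ j))

section rep

variable {F : Type} [Field F] [Fintype F] {ι : Type} [Fintype ι] [DecidableEq ι] {G : Type u} [Group G] [Finite G]

theorem sep_ID (ρ : G →* GL ι F) (hρ : Function.Injective ρ)
    (hinv : ∀ g : G, (evs (AlgebraicClosure F) (ρ g : Matrix ι ι F)).map (·⁻¹) =
      evs (AlgebraicClosure F) (ρ g : Matrix ι ι F)) {q n a r s e f k l : ℕ} (hF : Fintype.card F = q)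
    (hn : Fintype.card ι = n) (hr : ID q a r e k) (hs : ID q a s f l) (hrs : r ≠ s) (h : PN n r s e f k l) :
    Sep G r s := by
  subst hF hn
  have h3 := hr.three
  have h4 := hs.three
  refine sep_inv ρ hρ hinv hr.prime hs.prime hrs hr.ord hs.ord (by omega) (by omega) hr.dimInv hs.dimInv h.n1 h.n2
    h.n3 h.n4 h.n5 ?_
  rcases h.n6 with h6 | ⟨h6, h7⟩
  · exact Or.inl h6
  · exact Or.inr ⟨h6, fun j hj => h7 j ⟨hr.neg_one hj.1, hs.neg_one hj.2⟩⟩

end rep

/-- Different orders give different primes. -/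
theorem ID.ne {q a r s e f k l : ℕ} (hr : ID q a r e k) (hs : ID q a s f l) (h : e ≠ f) : r ≠ s := by
  rintro rfl
  exact h (hr.ord.symm.trans hs.ord)

/-- Two even orders from `{2 M, 2 M - 2, 2 M - 4}`. -/
theorem PN.even {q c n r s M a b : ℕ} (hM : 6 ≤ M) (hn : n ≤ 2 * M + 2) (hr : ID q c r (2 * a) (2 * a))
    (hs : ID q c s (2 * b) (2 * b)) (ha : a ≤ M) (ha' : M ≤ a + 2) (hb : b ≤ M) (hb' : M ≤ b + 2) (hab : a ≠ b) :
    PN n r s (2 * a) (2 * b) (2 * a) (2 * b) := by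
  have h1 := hr.lt
  have h2 := hs.lt
  have key : ∀ {t c d : ℕ}, t.Prime → 2 * d < t → c ≤ M → M ≤ d + 2 → 0 < c → ¬ t ∣ 2 * c := by
    intro t c d ht hd hc hd' hc0 h
    rcases (Nat.Prime.dvd_mul ht).1 h with h | h
    · have := Nat.le_of_dvd two_pos h
      omega
    · have := Nat.le_of_dvd hc0 h
      omega
  have hl : n < Nat.lcm (2 * a) (2 * b) := by
    rw [Nat.lcm_mul_left]
    have h3 : Nat.gcd a b * Nat.lcm a b = a * b := Nat.gcd_mul_lcm a b
    have h4 : Nat.gcd a b ≤ 2 := by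
      rcases Nat.lt_or_ge a b with h | h
      · have h5 : Nat.gcd a b ∣ b - a := Nat.dvd_sub (Nat.gcd_dvd_right _ _) (Nat.gcd_dvd_left _ _)
        have := Nat.le_of_dvd (by omega) h5
        omega
      · have h5 : Nat.gcd a b ∣ a - b := Nat.dvd_sub (Nat.gcd_dvd_left _ _) (Nat.gcd_dvd_right _ _)
        have := Nat.le_of_dvd (by omega) h5
        omega
    have h5 : a * b ≤ 2 * Nat.lcm a b := by
      rw [← h3]
      exact Nat.mul_le_mul_right _ h4
    have h6 : 2 * M + 2 < a * b := by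
      rcases Nat.lt_or_ge a b with h | h
      · have h7 : (M - 2) * (M - 1) ≤ a * b := Nat.mul_le_mul (by omega) (by omega)
        obtain ⟨x, rfl⟩ : ∃ x, M = x + 6 := ⟨M - 6, by omega⟩
        have h8 : x + 6 - 2 = x + 4 := by omega
        have h9 : x + 6 - 1 = x + 5 := by omega
        rw [h8, h9] at h7
        nlinarith
      · have h7 : (M - 1) * (M - 2) ≤ a * b := Nat.mul_le_mul (by omega) (by omega)
        obtain ⟨x, rfl⟩ : ∃ x, M = x + 6 := ⟨M - 6, by omega⟩
        have h8 : x + 6 - 2 = x + 4 := by omega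
        have h9 : x + 6 - 1 = x + 5 := by omega
        rw [h8, h9] at h7
        nlinarith
    omega
  refine ⟨key hs.prime h2 ha hb' (by omega), ?_, key hr.prime h1 hb ha' (by omega), ?_, by omega, Or.inl hl⟩
  · calc n < 1 * s + 6 := by omega
      _ ≤ s * (2 * a) := by nlinarith
  · calc n < 1 * r + 6 := by omega
      _ ≤ r * (2 * b) := by nlinarith

end Cfsg.Agent.H901.Fac
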