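import Cfsg.Agent.H901.FacNum
import Cfsg.Agent.H161.NonAdj

/-!
# Separation of two primes in a linear group from its eigenvalues (helper901)

`ρ : G →* GL ι F` injective, `r`, `s` primes different from the characteristic, `e`, `f` the orders of `|F|` modulo
`r`, `s`.
* `sep_rep` : `s ∤ e`, `|ι| < s e`, `r ∤ f`, `|ι| < r f` and "no commuting elements of orders `r`, `s`" give `Sep G r s`;
* `sep_cl` : the commuting condition for eigenvalues closed under `y ↦ y ^ x`;
* `sep_inv` : the same, closed under `q`-th powers and inversion.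
-/

set_option autoImplicit false
set_option linter.unusedSectionVars false

namespace Cfsg.Agent.H901.Fac

open Module Matrix Cfsg.Agent.H518.Dghp Cfsg.Agent.H518.DghpMat Cfsg.Agent.H518.DghpPrim Cfsg.Agent.H518.DghpSep
  Cfsg.Agent.H403 Cfsg.Agent.H161.NonAdj

universe u

section multiset

variable {E : Type*} [Field E] {R : Multiset E}

/-- Two primes: the counting argument, three closure exponents. -/
theorem two_primes_three [DecidableEq E] {x₁ x₂ x₃ : ℤ} (h₁ : Cl x₁ R) (h₂ : Cl x₂ R) (h₃ : Cl x₃ R)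
    {r s A B k l c d : ℕ} (hr : r.Prime)
    (hs : s.Prime) (hk : orderOf ((x₁ : ℤ) : ZMod r) = k) (hl : orderOf ((x₂ : ℤ) : ZMod s) = l)
    (hc : orderOf ((x₃ : ℤ) : ZMod r) = c) (hd : orderOf ((x₃ : ℤ) : ZMod s) = d)
    (hA : ∀ y ∈ R, (y ^ A) ^ r = 1) (hB : ∀ y ∈ R, (y ^ B) ^ s = 1) (hA' : ∃ y ∈ R, y ^ A ≠ 1)
    (hB' : ∃ y ∈ R, y ^ B ≠ 1) (hkl : Multiset.card R < k + l)
    (hcd : Multiset.card R < Nat.lcm c d ∨ (Multiset.card R < 2 * Nat.lcm c d ∧ R.map (·⁻¹) = R ∧
      ∀ j : ℕ, ¬ (((x₃ : ℤ) : ZMod r) ^ j = -1 ∧ ((x₃ : ℤ) : ZMod s) ^ j = -1))) : False := by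
  obtain ⟨y, hy, hy1⟩ := hA'
  obtain ⟨z, hz, hz1⟩ := hB'
  have h1 := h₁.le_card_filter hy hr hk (hA y hy) hy1
  have h2 := h₂.le_card_filter hz hs hl (hB z hz) hz1
  have h3 : ∃ w ∈ R, w ^ A ≠ 1 ∧ w ^ B ≠ 1 := by
    by_contra hcon
    push Not at hcon
    have h4 : R.filter (fun z => z ^ A ≠ 1) ≤ R.filter (fun z => ¬ z ^ B ≠ 1) := by
      refine Multiset.le_filter.2 ⟨Multiset.filter_le _ _, fun w hw => ?_⟩
      rw [Multiset.mem_filter] at hw
      exact not_not.2 (hcon w hw.1 hw.2)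
    have h5 := Multiset.card_le_card h4
    have h6 := congrArg Multiset.card (Multiset.filter_add_not (fun z : E => z ^ B ≠ 1) R)
    rw [Multiset.card_add] at h6
    omega
  obtain ⟨w, hw, hw1, hw2⟩ := h3
  have h4 := dvd_per hr hc (hA w hw) hw1
  have h5 := dvd_per hs hd (hB w hw) hw2
  have h6 := Nat.le_of_dvd (h₃.per_pos hw) (Nat.lcm_dvd h4 h5)
  rcases hcd with hcd | ⟨hcd, hinv, hne⟩
  · have h7 : per x₃ w ≤ Multiset.card R := by
      rw [← card_orb x₃ w]
      exact Multiset.card_le_card (h₃.orb_le hw)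
    omega
  · have hw0 : w ≠ 0 := h₃.ne_zero hw
    have hz : ∀ {r A : ℕ}, r.Prime → (w ^ A) ^ r = 1 → w ^ A ≠ 1 → ∀ j : ℕ, w ^ (x₃ ^ j) = w⁻¹ →
        ((x₃ : ℤ) : ZMod r) ^ j = -1 := by
      intro r A hr hA hA' j hcon
      have hf := Fact.mk hr
      have h2 : (w ^ A) ^ (x₃ ^ j + 1) = 1 := by
        have h3 : (w ^ A) ^ (x₃ ^ j) = (w ^ A)⁻¹ := by
          rw [← zpow_natCast, ← _root_.zpow_mul, mul_comm, _root_.zpow_mul, hcon, _root_.inv_zpow, zpow_natCast]
        rw [_root_.zpow_add₀ (pow_ne_zero _ hw0), h3, zpow_one, inv_mul_cancel₀ (pow_ne_zero _ hw0)]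
      have ho : orderOf (w ^ A) = r := orderOf_eq_prime hA hA'
      have h5 : (r : ℤ) ∣ x₃ ^ j + 1 := by
        rw [← ho]
        have h6 : (Units.mk0 (w ^ A) (pow_ne_zero _ hw0)) ^ (x₃ ^ j + 1) = 1 := by
          apply Units.ext
          simpa using h2
        have h7 := orderOf_dvd_iff_zpow_eq_one.2 h6
        rwa [← orderOf_units, Units.val_mk0] at h7
      have h6 := (ZMod.intCast_zmod_eq_zero_iff_dvd (x₃ ^ j + 1) r).2 h5
      push_cast at h6
      exact eq_neg_of_add_eq_zero_left h6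
    have hne' : ∀ j : ℕ, w ^ (x₃ ^ j) ≠ w⁻¹ := fun j hj =>
      hne j ⟨hz hr (hA w hw) hw1 j hj, hz hs (hB w hw) hw2 j hj⟩
    obtain ⟨a1, a2⟩ := orb_orb_le h₃ hinv hw hne'
    have a3 : orb x₃ w + orb x₃ w⁻¹ ≤ R := (Multiset.le_iff_subset a1).2 fun z hz => a2 z hz
    have a4 := Multiset.card_le_card a3
    rw [Multiset.card_add, card_orb, card_orb] at a4
    have a5 : per x₃ w⁻¹ = per x₃ w := by
      unfold per
      apply Function.minimalPeriod_eq_minimalPeriod_iff.2
      intro n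
      have key : ∀ v : E, Function.IsPeriodicPt (fun y : E => y ^ x₃) n v ↔ v ^ (x₃ ^ n) = v := by
        intro v
        rw [Function.IsPeriodicPt, Function.IsFixedPt, iterate_zpow]
      rw [key, key, _root_.inv_zpow, _root_.inv_inj]
    omega

end multiset

section rep

variable {F : Type} [Field F] [Fintype F] {ι : Type} [Fintype ι] [DecidableEq ι] {G : Type u} [Group G] [Finite G]

/-- matrices from units -/
def unitHom (ρ : G →* GL ι F) : G →* Matrix ι ι F := (Units.coeHom (Matrix ι ι F)).comp ρ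

theorem unitHom_injective {ρ : G →* GL ι F} (hρ : Function.Injective ρ) : Function.Injective (unitHom ρ) :=
  Units.val_injective.comp hρ

/-- **Separation from a representation.** -/
theorem sep_rep (ρ : G →* GL ι F) (hρ : Function.Injective ρ) {r s e f : ℕ} (hr : r.Prime) (hs : s.Prime)
    (hrs : r ≠ s) (he : orderOf ((Fintype.card F : ℕ) : ZMod r) = e)
    (hf : orderOf ((Fintype.card F : ℕ) : ZMod s) = f) (he0 : 0 < e) (hf0 : 0 < f) (n1 : ¬ s ∣ e)
    (n2 : Fintype.card ι < s * e) (n3 : ¬ r ∣ f) (n4 : Fintype.card ι < r * f)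
    (h : ∀ g : G, (∀ y ∈ evs (AlgebraicClosure F) (ρ g : Matrix ι ι F), y ^ (r * s) = 1) →
      (∃ y ∈ evs (AlgebraicClosure F) (ρ g : Matrix ι ι F), y ^ s ≠ 1) →
      (∃ y ∈ evs (AlgebraicClosure F) (ρ g : Matrix ι ι F), y ^ r ≠ 1) → False) : Sep G r s := by
  have hrF : ¬ r ∣ Fintype.card F := not_dvd_of_orderOf hr he he0
  have hsF : ¬ s ∣ Fintype.card F := not_dvd_of_orderOf hs hf hf0
  have hd : finrank F (ι → F) = Fintype.card ι := Module.finrank_fintype_fun_eq_card F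
  refine sep_of_nc hr hs ?_ ?_ ?_
  · exact nc_of_rep (matRep (unitHom ρ)) (matRep_injective (unitHom_injective hρ)) hr hs hrF (by rwa [he])
      (by rw [he, hd]; exact n2)
  · exact nc_of_rep (matRep (unitHom ρ)) (matRep_injective (unitHom_injective hρ)) hs hr hsF (by rwa [hf])
      (by rw [hf, hd]; exact n4)
  · intro x y hx hy hxy
    have hcom : Commute x y := hxy
    have hpow : (x * y) ^ (r * s) = 1 := by
      rw [hcom.mul_pow, pow_mul, ← hx, pow_orderOf_eq_one, one_pow, one_mul, mul_comm (orderOf x), pow_mul, ← hy,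
        pow_orderOf_eq_one, one_pow]
    have hM : (ρ (x * y) : Matrix ι ι F) ^ (r * s) = (1 : F) • (1 : Matrix ι ι F) := by
      rw [← Units.val_pow_eq_pow_val, ← map_pow, hpow, map_one, one_smul]
      rfl
    have hne : Nonempty ι := by
      by_contra hcon
      rw [not_nonempty_iff] at hcon
      have h1 : x = 1 := hρ (Units.ext (Subsingleton.elim _ _))
      rw [h1, orderOf_one] at hx
      exact hr.one_lt.ne hx
    have cast : ∀ {t : ℕ}, t.Prime → ¬ t ∣ Fintype.card F → (t : F) ≠ 0 := fun ht h => cast_ne_zero_of_not_dvd ht h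
    -- `M ^ s ≠ 1`
    have key : ∀ {a b : ℕ}, (b : F) ≠ 0 → a * b = r * s →
        (∀ y' ∈ evs (AlgebraicClosure F) (ρ (x * y) : Matrix ι ι F), y' ^ a = 1) → (x * y) ^ a = 1 := by
      intro a b hb hab hy'
      have h1 := pow_eq_smul_of_coprime (AlgebraicClosure F) (M := (ρ (x * y) : Matrix ι ι F)) (k := a) (m := b)
        (c := 1) (ζ := 1) one_ne_zero hb (by rw [hab]; exact hM) (fun y hy => by rw [hy' y hy, map_one])
      rw [one_smul] at h1
      apply hρ
      apply Units.ext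
      rw [map_pow, Units.val_pow_eq_pow_val, h1, map_one]
      rfl
    refine h (x * y) (fun z hz => ?_) ?_ ?_
    · rw [pow_of_mem_evs _ hM hz, map_one]
    · by_contra hcon
      push Not at hcon
      have h1 := key (cast hr hrF) (mul_comm s r) hcon
      rw [hcom.mul_pow, ← hy, pow_orderOf_eq_one, mul_one, hy] at h1
      have h2 := orderOf_dvd_of_pow_eq_one h1
      rw [hx] at h2
      exact hrs ((Nat.prime_dvd_prime_iff_eq hr hs).1 h2)
    · by_contra hcon
      push Not at hcon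
      have h1 := key (cast hs hsF) rfl hcon
      rw [hcom.mul_pow, ← hx, pow_orderOf_eq_one, one_mul, hx] at h1
      have h2 := orderOf_dvd_of_pow_eq_one h1
      rw [hy] at h2
      exact hrs ((Nat.prime_dvd_prime_iff_eq hs hr).1 h2).symm

/-- **Separation, eigenvalues closed under `y ↦ y ^ x`.** -/
theorem sep_cl (ρ : G →* GL ι F) (hρ : Function.Injective ρ) {x : ℤ}
    (hcl : ∀ g : G, Cl x (evs (AlgebraicClosure F) (ρ g : Matrix ι ι F))) {r s e f k l : ℕ} (hr : r.Prime)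
    (hs : s.Prime) (hrs : r ≠ s) (he : orderOf ((Fintype.card F : ℕ) : ZMod r) = e)
    (hf : orderOf ((Fintype.card F : ℕ) : ZMod s) = f) (he0 : 0 < e) (hf0 : 0 < f)
    (hk : orderOf ((x : ℤ) : ZMod r) = k) (hl : orderOf ((x : ℤ) : ZMod s) = l) (n1 : ¬ s ∣ e)
    (n2 : Fintype.card ι < s * e) (n3 : ¬ r ∣ f) (n4 : Fintype.card ι < r * f) (n5 : Fintype.card ι < k + l)
    (n6 : Fintype.card ι < Nat.lcm k l) : Sep G r s := by
  classical
  refine sep_rep ρ hρ hr hs hrs he hf he0 hf0 n1 n2 n3 n4 fun g h1 h2 h3 => ?_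
  refine (hcl g).two_primes (A := s) (B := r) hr hs hk hl (fun y hy => ?_) (fun y hy => ?_) h2 h3 ?_ ?_
  · rw [← pow_mul, mul_comm]; exact h1 y hy
  · rw [← pow_mul]; exact h1 y hy
  · rwa [card_evs]
  · rwa [card_evs]

/-- closure under powers with the order of the field -/
theorem cl_card (ρ : G →* GL ι F) (g : G) :
    Cl ((Fintype.card F : ℕ) : ℤ) (evs (AlgebraicClosure F) (ρ g : Matrix ι ι F)) := by
  refine ⟨?_, ?_, zero_notMem_evs _ _ ⟨ρ g, rfl⟩⟩
  · exact inj_xv (F := F) (E := AlgebraicClosure F) (q := Fintype.card F) (t := 0) (by rw [zero_add, pow_one]) true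
  · have h := evs_frob (AlgebraicClosure F) (ρ g : Matrix ι ι F)
    conv_rhs => rw [← h]
    refine Multiset.map_congr rfl fun y _ => ?_
    simp

omit [Fintype F] [Fintype ι] [DecidableEq ι] in
theorem Cl.neg_of_inv {E : Type*} [Field E] {R : Multiset E} {x : ℤ} (h : Cl x R) (hinv : R.map (·⁻¹) = R) :
    Cl (-x) R := by
  refine ⟨?_, ?_, h.zero⟩
  · intro a b hab
    simp only [_root_.zpow_neg, _root_.inv_inj] at hab
    exact h.inj hab
  · have h1 : R.map (fun y => y ^ (-x)) = (R.map (fun y => y ^ x)).map (·⁻¹) := by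
      rw [Multiset.map_map]
      refine Multiset.map_congr rfl fun y _ => ?_
      simp
    rw [h1, h.map, hinv]

/-- `k` is the length of the orbit of an `r`-th root of unity under `q` and `-1` -/
def DimInv (q r k : ℕ) : Prop := orderOf ((q : ℕ) : ZMod r) = k ∨ orderOf (-((q : ℕ) : ZMod r)) = k

/-- **Separation, eigenvalues closed under `q`-th powers and inversion.** -/
theorem sep_inv (ρ : G →* GL ι F) (hρ : Function.Injective ρ)
    (hinv : ∀ g : G, (evs (AlgebraicClosure F) (ρ g : Matrix ι ι F)).map (·⁻¹) =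
      evs (AlgebraicClosure F) (ρ g : Matrix ι ι F)) {r s e f k l : ℕ} (hr : r.Prime)
    (hs : s.Prime) (hrs : r ≠ s) (he : orderOf ((Fintype.card F : ℕ) : ZMod r) = e)
    (hf : orderOf ((Fintype.card F : ℕ) : ZMod s) = f) (he0 : 0 < e) (hf0 : 0 < f)
    (hk : DimInv (Fintype.card F) r k) (hl : DimInv (Fintype.card F) s l) (n1 : ¬ s ∣ e)
    (n2 : Fintype.card ι < s * e) (n3 : ¬ r ∣ f) (n4 : Fintype.card ι < r * f) (n5 : Fintype.card ι < k + l)
    (n6 : Fintype.card ι < Nat.lcm e f ∨ (Fintype.card ι < 2 * Nat.lcm e f ∧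
      ∀ j : ℕ, ¬ (((Fintype.card F : ℕ) : ZMod r) ^ j = -1 ∧ ((Fintype.card F : ℕ) : ZMod s) ^ j = -1))) :
    Sep G r s := by
  classical
  refine sep_rep ρ hρ hr hs hrs he hf he0 hf0 n1 n2 n3 n4 fun g h1 h2 h3 => ?_
  have hx : ∀ {r k : ℕ}, DimInv (Fintype.card F) r k → ∃ x : ℤ, Cl x (evs (AlgebraicClosure F) (ρ g : Matrix ι ι F)) ∧
      orderOf ((x : ℤ) : ZMod r) = k := by
    intro r k hk
    rcases hk with hk | hk
    · exact ⟨_, cl_card ρ g, by push_cast; exact hk⟩
    · exact ⟨_, (Cl.neg_of_inv (cl_card ρ g) (hinv g)), by push_cast; exact hk⟩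
  obtain ⟨x₁, c1, o1⟩ := hx hk
  obtain ⟨x₂, c2, o2⟩ := hx hl
  refine two_primes_three c1 c2 (cl_card ρ g) (A := s) (B := r) hr hs o1 o2 (by push_cast; exact he)
    (by push_cast; exact hf) (fun y hy => ?_) (fun y hy => ?_) h2 h3 ?_ ?_
  · rw [← pow_mul, mul_comm]; exact h1 y hy
  · rw [← pow_mul]; exact h1 y hy
  · rwa [card_evs]
  · rw [card_evs]
    push_cast
    rcases n6 with n6 | n6
    · exact Or.inl n6
    · exact Or.inr ⟨n6.1, hinv g, n6.2⟩

end rep

end Cfsg.Agent.H901.Fac
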