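import Cfsg.Agent.H901.OvData
import Cfsg.Agent.SporadicB.DoubleCoverSmall

/-!
# The alternating group of degree seven (helper901)
-/

set_option autoImplicit false

namespace Cfsg.Agent.H901.Ov

open Equiv Equiv.Perm

theorem oneCl_A7 : OneCl (alternatingGroup (Fin 7)) := by
  intro x y hx hx1 hy hy1
  have h := SporadicB.DoubleCoverSmall.isConj_of_involutions (n := 7) le_rfl
    (c[0, 1] * c[2, 3] : Perm (Fin 7)) (c[4, 5] : Perm (Fin 7)) (by decide) (by decide)
    (by decide) x y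
    (orderOf_eq_prime (by rw [pow_two, hx]) hx1) (orderOf_eq_prime (by rw [pow_two, hy]) hy1)
  exact isConj_iff.1 h

theorem kill_A7 : Kill (alternatingGroup (Fin 7)) := by
  refine Or.inr (Or.inl ⟨3, ⟨c[4, 5, 6], mem_alternatingGroup.2 (by decide)⟩, ⟨c[0, 1] * c[4, 5], mem_alternatingGroup.2 (by decide)⟩,
    ⟨c[0, 1] * c[2, 3], mem_alternatingGroup.2 (by decide)⟩, ⟨c[0, 2] * c[1, 3], mem_alternatingGroup.2 (by decide)⟩, by norm_num, by norm_num,
    ?_, ?_, ?_, ?_, ?_, ?_, ?_, ?_, ?_, ?_, ?_, ?_⟩)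
  · have : Fact (Nat.Prime 3) := ⟨by norm_num⟩
    exact orderOf_eq_prime (by decide) (by decide)
  all_goals decide

end Cfsg.Agent.H901.Ov
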