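import Cfsg.Agent.H901.OvRestr

/-!
# No four-group all of whose involutions are Baer (helper901)
-/

set_option autoImplicit false
set_option linter.unusedSectionVars false

namespace Cfsg.Agent.H901.Ov

open Configuration

section count

variable {α : Type*} [Finite α]

theorem sum_ite_card (Q R : α → Prop) [Fintype {x // Q x}] [DecidablePred R] :
    ∑ x : {x // Q x}, (if R x.1 then 1 else 0) = Nat.card {x // Q x ∧ R x} := by
  classical
  rw [Finset.sum_boole]
  have h1 : (Finset.univ.filter (fun x : {x // Q x} => R x.1)).card =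
      Fintype.card {x : {x // Q x} // R x.1} := by
    rw [Fintype.card_subtype]
  rw [h1, ← Nat.card_eq_fintype_card]
  exact Nat.card_congr
    { toFun := fun x => ⟨x.1.1, x.1.2, x.2⟩
      invFun := fun x => ⟨⟨x.1, x.2.1⟩, x.2.2⟩
      left_inv := fun _ => rfl
      right_inv := fun _ => rfl }

theorem card_split (Q R : α → Prop) :
    Nat.card {x // Q x ∧ R x} + Nat.card {x // Q x ∧ ¬ R x} = Nat.card {x // Q x} := by
  classical
  rw [← Nat.card_sum]
  exact Nat.card_congr
    { toFun := fun x => Sum.elim (fun y => ⟨y.1, y.2.1⟩) (fun y => ⟨y.1, y.2.1⟩) x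
      invFun := fun y => if hy : R y.1 then Sum.inl ⟨y.1, y.2, hy⟩ else Sum.inr ⟨y.1, y.2, hy⟩
      left_inv := by
        rintro (⟨y, hy1, hy2⟩ | ⟨y, hy1, hy2⟩)
        · simp [hy2]
        · simp [hy2]
      right_inv := by
        rintro ⟨y, hy⟩
        by_cases h : R y
        · simp [h]
        · simp [h] }

theorem card_le_two_of {Q : α → Prop} (h : ∀ x y z, Q x → Q y → Q z → x = y ∨ x = z ∨ y = z) :
    Nat.card {x // Q x} ≤ 2 := by
  by_contra hc
  obtain ⟨x, y, z, hx, hy, hz, hxy, hxz, hyz⟩ := exists_three (Q := Q) (by omega)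
  rcases h x y z hx hy hz with e | e | e
  · exact hxy e
  · exact hxz e
  · exact hyz e

end count

theorem arith_one {f m x1 x2 x3 : ℕ} (hm : 3 ≤ m) (c1 : f + x1 = m + 1) (c2 : f + x2 = m + 1)
    (c3 : f + x3 = m + 1) (h : f * f + x1 + x2 + x3 + f ≤ 2 * (m + 2)) : False := by
  zify at *
  have e1 : (x1 : ℤ) = m + 1 - f := by linarith
  have e2 : (x2 : ℤ) = m + 1 - f := by linarith
  have e3 : (x3 : ℤ) = m + 1 - f := by linarith
  rw [e1, e2, e3] at h
  nlinarith [sq_nonneg ((f : ℤ) - 1)]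

theorem arith_two {f k x1 x2 x3 : ℕ} (hk : 3 ≤ k) (c1 : f + x1 = k ^ 2 + 1)
    (c2 : f + x2 = k ^ 2 + 1) (c3 : f + x3 = k ^ 2 + 1)
    (h : f * f + x1 + x2 + x3 + f ≤ 2 * (k ^ 2 + k + 1)) : False := by
  zify at *
  have e1 : (x1 : ℤ) = k ^ 2 + 1 - f := by linarith
  have e2 : (x2 : ℤ) = k ^ 2 + 1 - f := by linarith
  have e3 : (x3 : ℤ) = k ^ 2 + 1 - f := by linarith
  rw [e1, e2, e3] at h
  have h1 : ((f : ℤ) - 1) ^ 2 + (k * (k - 2) : ℤ) ≤ 0 := by nlinarith
  have h2 : (0 : ℤ) < k * (k - 2) := by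
    apply mul_pos <;> linarith
  nlinarith [sq_nonneg ((f : ℤ) - 1)]

variable {G P L : Type*} [Membership P L] [ProjectivePlane P L] [Finite P] [Finite L] [Group G]
  [MulAction G P] [MulAction G L] {O : Set P}

/-- `g` fixes a Baer subplane and meets the oval in an oval of it -/
def IsBaer (L : Type*) {G P : Type*} [Membership P L] [ProjectivePlane P L] [Group G]
    [MulAction G P] [MulAction G L] (O : Set P) (g : G) : Prop :=
  ∃ hS : SubPl {p : P | g • p = p} {l : L | g • l = l},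
    ProjectivePlane.order P L = hS.ord ^ 2 ∧ nf O g = hS.ord + 1

/-- `a` fixes `Q`, `b` moves `Q`: a common fixed point on the tangent at `Q` -/
theorem Ctx.exists_common (c : Ctx G L O) {a b : G} (hb : b * b = 1) (hc : a * b = b * a) {Q : P}
    {t : L} (ht : Tan O Q t) (ha : a • Q = Q) (hbQ : b • Q ≠ Q) :
    ∃ X : P, a • X = X ∧ b • X = X ∧ X ∈ t := by
  have hQ := ht.mem
  have h1 : Tan O (b • Q) (b • t) := c.tan_smul b ht
  have hts : t ≠ b • t := by
    intro e
    rw [← e] at h1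
    exact hbQ (ht.only _ h1.mem h1.on)
  obtain ⟨X, hX1, hX2⟩ := exists_meet (P := P) hts
  have h2 : a • t = t := c.fix_tan ha ht
  have h3 : a • (b • t) = b • t := comm_fix hc h2
  have h4 : a • X = X := c.fix_meet hts h2 h3 hX1 hX2
  have h5 : b • X ∈ b • t := (c.coll b X t).2 hX1
  have h6 : b • X ∈ t := by
    have := (c.coll b X (b • t)).2 hX2
    rwa [smul_smul_self hb] at this
  exact ⟨X, h4, point_uniq hts h6 h5 hX1 hX2, hX1⟩

theorem Ctx.no_BBB (c : Ctx G L O) {g h : G} (hg2 : g * g = 1) (hh2 : h * h = 1)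
    (hc : g * h = h * g) (hg : IsBaer L O g) (hh : IsBaer L O h) (hgh : IsBaer L O (g * h)) :
    False := by
  classical
  have := Fintype.ofFinite P
  obtain ⟨hS, hS2, hSn⟩ := hg
  obtain ⟨hT, hT2, hTn⟩ := hh
  obtain ⟨hU, hU2, hUn⟩ := hgh
  have e1 : hT.ord = hS.ord := by
    have : hT.ord ^ 2 = hS.ord ^ 2 := by rw [← hT2, hS2]
    exact Nat.pow_left_injective (by norm_num : (2 : ℕ) ≠ 0) this
  have e2 : hU.ord = hS.ord := by
    have : hU.ord ^ 2 = hS.ord ^ 2 := by rw [← hU2, hS2]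
    exact Nat.pow_left_injective (by norm_num : (2 : ℕ) ≠ 0) this
  rw [e1] at hTn
  rw [e2] at hUn
  clear e1 e2 hT2 hU2
  set m := hS.ord with hm
  have hmodd : Odd m := by
    have h1 := c.oval.odd
    rw [hS2] at h1
    exact (Nat.odd_pow_iff (by norm_num)).1 h1
  have hm1 : 1 < m := hS.one_lt
  have hm3 : 3 ≤ m := by
    obtain ⟨k, hk⟩ := hmodd
    omega
  have hgh_fix : ∀ {α : Type _} [MulAction G α] (x : α), g • x = x → h • x = x → (g * h) • x = x := by
    intro α _ x h1 h2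
    rw [mul_smul, h2, h1]
  have h_of : ∀ x : P, g • x = x → (g * h) • x = x → h • x = x := by
    intro x h1 h2
    have h3 : g • (h • x) = g • x := by rw [← mul_smul, h2, h1]
    exact MulAction.injective g h3
  -- f
  set f : ℕ := Nat.card {Q : P // Q ∈ O ∧ (g • Q = Q ∧ h • Q = Q)} with hf
  have key := c.restr_card (g := g) hh2 (fun p hp => comm_fix hc hp) (fun l hl => comm_fix hc hl)
    hS (hm ▸ hmodd)
  rcases key with key | key
  · -- h trivial on the subplane
    have hsub : ∀ Q, Q ∈ O → g • Q = Q → h • Q = Q := fun Q _ hQ => key Q hQ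
    -- equality of the fixed points on the oval
    have hEq : ∀ (k : G), nf O k = m + 1 → (∀ Q ∈ O, g • Q = Q → k • Q = Q) →
        ∀ Q ∈ O, k • Q = Q → g • Q = Q := by
      intro k hk1 hk2 Q hQ hkQ
      have hinj : Function.Injective (fun x : {Q : P // Q ∈ O ∧ g • Q = Q} =>
          (⟨x.1, x.2.1, hk2 x.1 x.2.1 x.2.2⟩ : {Q : P // Q ∈ O ∧ k • Q = Q})) := by
        intro x y hxy
        simp only [Subtype.mk.injEq] at hxy
        exact Subtype.ext hxy
      have hb := hinj.bijective_of_nat_card_le (by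
        change nf O k ≤ nf O g
        rw [hk1, hSn])
      obtain ⟨x, hx⟩ := hb.2 ⟨Q, hQ, hkQ⟩
      simp only [Subtype.mk.injEq] at hx
      rw [← hx]
      exact x.2.2
    -- a moved point
    obtain ⟨Q, hQ, hgQ⟩ : ∃ Q ∈ O, g • Q ≠ Q := by
      by_contra hcon
      have h1 : ∀ Q ∈ O, g • Q = Q := fun Q hQ => by
        by_contra h2
        exact hcon ⟨Q, hQ, h2⟩
      have h2 : nf O g = Nat.card {p : P // p ∈ O} :=
        Nat.card_congr (Equiv.subtypeEquivRight fun p => ⟨fun h => h.1, fun h => ⟨h, h1 p h⟩⟩)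
      rw [hSn, c.oval.card, hS2] at h2
      nlinarith
    have h1 : h • Q ≠ Q := fun h1 => hgQ (hEq h hTn (fun R hR hgR => key R hgR) Q hQ h1)
    have h2 : (g * h) • Q ≠ Q := fun h2 =>
      hgQ (hEq (g * h) hUn (fun R hR hgR => hgh_fix R hgR (key R hgR)) Q hQ h2)
    obtain ⟨t, ht⟩ := c.oval.exists_tan hQ
    obtain ⟨X, -, hX2, hX3⟩ := c.exists_common (a := 1) (b := g) hg2 (by group) ht (one_smul _ _) hgQ
    have hX4 : h • X = X := key X hX2
    have hXO : X ∉ O := by
      intro hXO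
      have e := ht.only X hXO hX3
      rw [e] at hX2
      exact hgQ hX2
    have h3 := c.tan_smul g ht
    have h4 := c.tan_smul h ht
    have h5 : X ∈ g • t := by
      have := (c.coll g X t).2 hX3
      rwa [hX2] at this
    have h6 : X ∈ h • t := by
      have := (c.coll h X t).2 hX3
      rwa [hX4] at this
    rcases c.oval.qvist hXO ht h3 h4 hX3 h5 h6 with e | e | e
    · exact hgQ e.symm
    · exact h1 e.symm
    · apply h2
      rw [mul_smul, ← e, smul_smul_self hg2]
  · -- the double count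
    set FE : P → Prop := fun X => g • X = X ∧ h • X = X with hFE
    have hT1 : Nat.card (Σ X : {X // FE X}, {Q : P // Q ∈ O ∧ ∃ t : L, Tan O Q t ∧ X.1 ∈ t}) =
        Nat.card (Σ Q : {Q // Q ∈ O}, {X : P // FE X ∧ ∃ t : L, Tan O Q.1 t ∧ X ∈ t}) :=
      Nat.card_congr
        { toFun := fun x => ⟨⟨x.2.1, x.2.2.1⟩, ⟨x.1.1, x.1.2, x.2.2.2⟩⟩
          invFun := fun x => ⟨⟨x.2.1, x.2.2.1⟩, ⟨x.1.1, x.1.2, x.2.2.2⟩⟩
          left_inv := fun _ => rfl
          right_inv := fun _ => rfl }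
    rw [Nat.card_sigma, Nat.card_sigma] at hT1
    -- upper bound
    have hub : (∑ X : {X // FE X}, Nat.card {Q : P // Q ∈ O ∧ ∃ t : L, Tan O Q t ∧ X.1 ∈ t}) + f ≤
        2 * Nat.card {X // FE X} := by
      have h1 : f = ∑ X : {X // FE X}, (if X.1 ∈ O then 1 else 0) := by
        rw [sum_ite_card FE (fun X => X ∈ O), hf]
        exact Nat.card_congr (Equiv.subtypeEquivRight fun p => ⟨fun h => ⟨h.2, h.1⟩, fun h => ⟨h.2, h.1⟩⟩)
      rw [h1, ← Finset.sum_add_distrib, Nat.card_eq_fintype_card, ← Finset.card_univ, mul_comm,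
        ← smul_eq_mul, ← Finset.sum_const]
      refine Finset.sum_le_sum fun X _ => ?_
      by_cases hXO : X.1 ∈ O
      · rw [if_pos hXO]
        have : Nat.card {Q : P // Q ∈ O ∧ ∃ t : L, Tan O Q t ∧ X.1 ∈ t} ≤ 1 := by
          have : Subsingleton {Q : P // Q ∈ O ∧ ∃ t : L, Tan O Q t ∧ X.1 ∈ t} := by
            constructor
            rintro ⟨Q, hQ, t, ht, hXt⟩ ⟨R, hR, s, hs, hXs⟩
            exact Subtype.ext ((ht.only _ hXO hXt).symm.trans (hs.only _ hXO hXs))
          exact Finite.card_le_one_iff_subsingleton.2 this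
        omega
      · rw [if_neg hXO]
        refine card_le_two_of ?_
        rintro Q R S ⟨-, t, ht, h1⟩ ⟨-, s, hs, h2⟩ ⟨-, r, hr, h3⟩
        exact c.oval.qvist hXO ht hs hr h1 h2 h3
    -- lower bound
    have hlb : f * f + (∑ Q : {Q // Q ∈ O}, (if g • Q.1 = Q.1 ∧ ¬ FE Q.1 then 1 else 0)) +
        (∑ Q : {Q // Q ∈ O}, (if h • Q.1 = Q.1 ∧ ¬ FE Q.1 then 1 else 0)) +
        (∑ Q : {Q // Q ∈ O}, (if (g * h) • Q.1 = Q.1 ∧ ¬ FE Q.1 then 1 else 0)) ≤
        ∑ Q : {Q // Q ∈ O}, Nat.card {X : P // FE X ∧ ∃ t : L, Tan O Q.1 t ∧ X ∈ t} := by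
      have h1 : f * f = ∑ Q : {Q // Q ∈ O}, (if FE Q.1 then 1 else 0) * f := by
        rw [← Finset.sum_mul, sum_ite_card (fun Q => Q ∈ O) FE]
      rw [h1, ← Finset.sum_add_distrib, ← Finset.sum_add_distrib, ← Finset.sum_add_distrib]
      refine Finset.sum_le_sum fun Q _ => ?_
      obtain ⟨Q, hQ⟩ := Q
      obtain ⟨t, ht⟩ := c.oval.exists_tan hQ
      dsimp only
      have hpos : ∀ X : P, FE X → X ∈ t →
          1 ≤ Nat.card {X : P // FE X ∧ ∃ t : L, Tan O Q t ∧ X ∈ t} := by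
        intro X h2 h3
        have : Nonempty {X : P // FE X ∧ ∃ t : L, Tan O Q t ∧ X ∈ t} := ⟨⟨X, h2, t, ht, h3⟩⟩
        exact Nat.card_pos
      by_cases hFQ : FE Q
      · simp only [hFQ, if_true, one_mul, not_true_eq_false, and_false, if_false, add_zero]
        -- f ≤ c(Q)
        have h2 : ∀ B : {B : P // B ∈ O ∧ (g • B = B ∧ h • B = B)}, ∃ X : {X : P // FE X ∧
            ∃ t : L, Tan O Q t ∧ X ∈ t}, ∃ s : L, Tan O B.1 s ∧ X.1 ∈ s ∧ (B.1 = Q → X.1 = Q) ∧
              (B.1 ≠ Q → X.1 ∉ O) := by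
          rintro ⟨B, hB, hgB, hhB⟩
          by_cases hBQ : B = Q
          · subst hBQ
            exact ⟨⟨B, hFQ, t, ht, ht.on⟩, t, ht, ht.on, fun _ => rfl, fun h3 => absurd rfl h3⟩
          · obtain ⟨s, hs⟩ := c.oval.exists_tan hB
            have hts : t ≠ s := by
              rintro rfl
              exact hBQ (ht.only B hB hs.on)
            obtain ⟨X, h3, h4⟩ := exists_meet (P := P) hts
            refine ⟨⟨X, ⟨c.fix_meet hts (c.fix_tan hFQ.1 ht) (c.fix_tan hgB hs) h3 h4,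
              c.fix_meet hts (c.fix_tan hFQ.2 ht) (c.fix_tan hhB hs) h3 h4⟩, t, ht, h3⟩, s, hs, h4,
              fun h5 => absurd h5 hBQ, fun _ h5 => ?_⟩
            have a1 := ht.only X h5 h3
            have a2 := hs.only X h5 h4
            exact hBQ (a2.symm.trans a1)
        choose F hF using h2
        refine Nat.card_le_card_of_injective F ?_
        intro B B' e
        obtain ⟨s, hs, hs1, hs2, hs3⟩ := hF B
        obtain ⟨r, hr, hr1, hr2, hr3⟩ := hF B'
        rw [← e] at hr1 hr2 hr3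
        by_cases h3 : B.1 = Q
        · by_cases h4 : B'.1 = Q
          · exact Subtype.ext (h3.trans h4.symm)
          · exfalso
            apply hr3 h4
            rw [hs2 h3]
            exact hQ
        · by_cases h4 : B'.1 = Q
          · exfalso
            apply hs3 h3
            rw [hr2 h4]
            exact hQ
          · have h5 := hs3 h3
            obtain ⟨-, t', ht', h6⟩ := (F B).2
            rcases c.oval.qvist h5 ht' hs hr h6 hs1 hr1 with e3 | e3 | e3
            · exact absurd e3.symm h3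
            · exact absurd e3.symm h4
            · exact Subtype.ext e3
      · simp only [hFQ, if_false, zero_mul, not_false_eq_true, and_true, zero_add]
        by_cases a1 : g • Q = Q
        · have a2 : ¬ h • Q = Q := fun a2 => hFQ ⟨a1, a2⟩
          have a3 : ¬ (g * h) • Q = Q := fun a3 => a2 (h_of Q a1 a3)
          rw [if_pos a1, if_neg a2, if_neg a3]
          obtain ⟨X, b1, b2, b3⟩ := c.exists_common (a := g) (b := h) hh2 hc ht a1 a2
          exact hpos X ⟨b1, b2⟩ b3
        · by_cases a2 : h • Q = Q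
          · have a3 : ¬ (g * h) • Q = Q := fun a3 => a1 (by
              rw [mul_smul, a2] at a3
              exact a3)
            rw [if_neg a1, if_pos a2, if_neg a3]
            obtain ⟨X, b1, b2, b3⟩ := c.exists_common (a := h) (b := g) hg2 hc.symm ht a2 a1
            exact hpos X ⟨b2, b1⟩ b3
          · by_cases a3 : (g * h) • Q = Q
            · rw [if_neg a1, if_neg a2, if_pos a3]
              obtain ⟨X, b1, b2, b3⟩ := c.exists_common (a := g * h) (b := g) hg2
                (by rw [mul_assoc, ← hc]) ht a3 a1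
              exact hpos X ⟨b2, h_of X b2 b1⟩ b3
            · rw [if_neg a1, if_neg a2, if_neg a3]
              exact Nat.zero_le _
    have hcount : ∀ k : G, nf O k = m + 1 → (∀ Q : P, FE Q → k • Q = Q) →
        f + (∑ Q : {Q // Q ∈ O}, (if k • Q.1 = Q.1 ∧ ¬ FE Q.1 then 1 else 0)) = m + 1 := by
      intro k hk1 hk2
      rw [sum_ite_card (fun Q => Q ∈ O) (fun Q => k • Q = Q ∧ ¬ FE Q), ← hk1, nf,
        ← card_split (fun Q => Q ∈ O ∧ k • Q = Q) FE, hf]
      congr 1
      · exact Nat.card_congr (Equiv.subtypeEquivRight fun p =>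
          ⟨fun h => ⟨⟨h.1, hk2 p h.2⟩, h.2⟩, fun h => ⟨h.1.1, h.2⟩⟩)
      · exact Nat.card_congr (Equiv.subtypeEquivRight fun p =>
          ⟨fun h => ⟨⟨h.1, h.2.1⟩, h.2.2⟩, fun h => ⟨h.1.1, h.1.2, h.2⟩⟩)
    have c1 := hcount g hSn (fun Q hQ => hQ.1)
    have c2 := hcount h hTn (fun Q hQ => hQ.2)
    have c3 := hcount (g * h) hUn (fun Q hQ => hgh_fix Q hQ.1 hQ.2)
    rw [hT1] at hub
    have hmain := (Nat.add_le_add_right hlb f).trans hub
    have hFEc : Nat.card {X // FE X} = Nat.card {p : P // g • p = p ∧ h • p = p} := rfl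
    rw [hFEc] at hmain
    generalize (∑ Q : {Q // Q ∈ O}, (if g • Q.1 = Q.1 ∧ ¬ FE Q.1 then 1 else 0)) = x1 at hmain c1
    generalize (∑ Q : {Q // Q ∈ O}, (if h • Q.1 = Q.1 ∧ ¬ FE Q.1 then 1 else 0)) = x2 at hmain c2
    generalize (∑ Q : {Q // Q ∈ O}, (if (g * h) • Q.1 = Q.1 ∧ ¬ FE Q.1 then 1 else 0)) = x3 at hmain c3
    rcases key with key | ⟨k, hk3, hk2, key⟩
    · rw [key] at hmain
      exact arith_one hm3 c1 c2 c3 hmain
    · rw [key] at hmain
      rw [← hm] at hk2
      rw [← hk2] at c1 c2 c3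
      exact arith_two hk3 c1 c2 c3 hmain

end Cfsg.Agent.H901.Ov
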