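import Cfsg.Agent.H901.OvKillB

/-!
# The group-theoretic data contradicting an invariant oval (helper901)
-/

set_option autoImplicit false
set_option linter.unusedSectionVars false

namespace Cfsg.Agent.H901.Ov

/-- all involutions are conjugate -/
def OneCl (G : Type*) [Group G] : Prop :=
  ∀ x y : G, x * x = 1 → x ≠ 1 → y * y = 1 → y ≠ 1 → ∃ g, g * x * g⁻¹ = y

/-- every involution is in a four-group of conjugate involutions -/
def PureFour (G : Type*) [Group G] : Prop :=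
  ∀ x : G, x * x = 1 → x ≠ 1 → ∃ y : G, y * y = 1 ∧ y ≠ 1 ∧ x * y = y * x ∧ x ≠ y ∧
    (∃ g, g * x * g⁻¹ = y) ∧ ∃ g, g * x * g⁻¹ = x * y

/-- configuration (W) -/
def DataW (G : Type*) [Group G] : Prop :=
  ∃ u s : G, (u * u) * (u * u) = 1 ∧ u * u ≠ 1 ∧ s * s = 1 ∧ s ≠ 1 ∧ u * s = s * u ∧ s ≠ u * u

/-- configuration (A) -/
def DataA (G : Type*) [Group G] : Prop :=
  ∃ (p : ℕ) (g s e₁ e₂ : G), p.Prime ∧ p ≠ 2 ∧ orderOf g = p ∧ s * s = 1 ∧ s ≠ 1 ∧
    s * g * s⁻¹ = g⁻¹ ∧ e₁ * e₁ = 1 ∧ e₁ ≠ 1 ∧ e₂ * e₂ = 1 ∧ e₂ ≠ 1 ∧ e₁ ≠ e₂ ∧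
    e₁ * e₂ = e₂ * e₁ ∧ g * e₁ = e₁ * g ∧ g * e₂ = e₂ * g

/-- configuration (Z) -/
def DataZ (G : Type*) [Group G] : Prop :=
  ∃ (p : ℕ) (g e₁ e₂ s₂ : G), p.Prime ∧ p ≠ 2 ∧ orderOf g = p ∧ e₁ * e₁ = 1 ∧ e₂ * e₂ = 1 ∧
    e₂ ≠ 1 ∧ s₂ * s₂ = 1 ∧ g * e₁ = e₁ * g ∧ g * s₂ = s₂ * g ∧ e₂ * g * e₂⁻¹ = g⁻¹ ∧
    e₁ * e₂ = e₂ * e₁ ∧ s₂ * e₁ ≠ e₁ * s₂

/-- one of the three -/
def Kill (G : Type*) [Group G] : Prop := DataW G ∨ DataA G ∨ DataZ G

section congr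

variable {G X : Type*} [Group G] [Group X]

theorem OneCl.congr (e : G ≃* X) (h : OneCl X) : OneCl G := by
  intro x y hx hx1 hy hy1
  obtain ⟨g, hg⟩ := h (e x) (e y) (by rw [← map_mul, hx, map_one])
    (by rwa [Ne, EmbeddingLike.map_eq_one_iff]) (by rw [← map_mul, hy, map_one])
    (by rwa [Ne, EmbeddingLike.map_eq_one_iff])
  refine ⟨e.symm g, e.injective ?_⟩
  rw [map_mul, map_mul, map_inv, e.apply_symm_apply, hg]

theorem PureFour.congr (e : G ≃* X) (h : PureFour X) : PureFour G := by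
  intro x hx hx1
  obtain ⟨y, hy, hy1, hxy, hne, ⟨g, hg⟩, k, hk⟩ := h (e x) (by rw [← map_mul, hx, map_one])
    (by rwa [Ne, EmbeddingLike.map_eq_one_iff])
  refine ⟨e.symm y, e.injective ?_, ?_, e.injective ?_, ?_, ⟨e.symm g, e.injective ?_⟩,
    e.symm k, e.injective ?_⟩
  · rw [map_mul, e.apply_symm_apply, hy, map_one]
  · rwa [Ne, EmbeddingLike.map_eq_one_iff]
  · rw [map_mul, map_mul, e.apply_symm_apply, hxy]
  · rintro rfl
    exact hne (e.apply_symm_apply y)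
  · rw [map_mul, map_mul, map_inv, e.apply_symm_apply, e.apply_symm_apply, hg]
  · rw [map_mul, map_mul, map_inv, e.apply_symm_apply, map_mul, e.apply_symm_apply, hk]

/-- data are carried along injective homomorphisms -/
theorem DataW.map (f : X →* G) (hf : Function.Injective f) (h : DataW X) : DataW G := by
  obtain ⟨u, s, h1, h2, h3, h4, h5, h6⟩ := h
  have h1' := fun x => map_eq_one_iff f hf (x := x)
  refine ⟨f u, f s, ?_, ?_, ?_, ?_, ?_, ?_⟩
  · rw [← map_mul, ← map_mul, h1, map_one]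
  · rwa [← map_mul, Ne, h1']
  · rw [← map_mul, h3, map_one]
  · rwa [Ne, h1']
  · rw [← map_mul, h5, map_mul]
  · rw [← map_mul]
    exact fun e => h6 (hf e)

theorem DataA.map (f : X →* G) (hf : Function.Injective f) (h : DataA X) : DataA G := by
  obtain ⟨p, g, s, e₁, e₂, hp, hp2, hg, hs, hs1, hsg, h1, h11, h2, h21, h12, hc, a1, a2⟩ := h
  have h1' := fun x => map_eq_one_iff f hf (x := x)
  refine ⟨p, f g, f s, f e₁, f e₂, hp, hp2, ?_, ?_, ?_, ?_, ?_, ?_, ?_, ?_, ?_, ?_, ?_, ?_⟩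
  · rw [orderOf_injective f hf, hg]
  · rw [← map_mul, hs, map_one]
  · rwa [Ne, h1']
  · rw [← map_inv, ← map_mul, ← map_mul, hsg, map_inv]
  · rw [← map_mul, h1, map_one]
  · rwa [Ne, h1']
  · rw [← map_mul, h2, map_one]
  · rwa [Ne, h1']
  · exact fun e => h12 (hf e)
  · rw [← map_mul, hc, map_mul]
  · rw [← map_mul, a1, map_mul]
  · rw [← map_mul, a2, map_mul]

theorem DataZ.map (f : X →* G) (hf : Function.Injective f) (h : DataZ X) : DataZ G := by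
  obtain ⟨p, g, e₁, e₂, s₂, hp, hp2, hg, h1, h2, h21, hs, a1, a2, a3, a4, a5⟩ := h
  have h1' := fun x => map_eq_one_iff f hf (x := x)
  refine ⟨p, f g, f e₁, f e₂, f s₂, hp, hp2, ?_, ?_, ?_, ?_, ?_, ?_, ?_, ?_, ?_, ?_⟩
  · rw [orderOf_injective f hf, hg]
  · rw [← map_mul, h1, map_one]
  · rw [← map_mul, h2, map_one]
  · rwa [Ne, h1']
  · rw [← map_mul, hs, map_one]
  · rw [← map_mul, a1, map_mul]
  · rw [← map_mul, a2, map_mul]
  · rw [← map_inv, ← map_mul, ← map_mul, a3, map_inv]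
  · rw [← map_mul, a4, map_mul]
  · rw [← map_mul, ← map_mul]
    exact fun e => a5 (hf e)

theorem Kill.map (f : X →* G) (hf : Function.Injective f) (h : Kill X) : Kill G := by
  rcases h with h | h | h
  · exact Or.inl (h.map f hf)
  · exact Or.inr (Or.inl (h.map f hf))
  · exact Or.inr (Or.inr (h.map f hf))

theorem OneCl.pure (h : OneCl G) {a b : G} (ha : a * a = 1) (ha1 : a ≠ 1) (hb : b * b = 1)
    (hb1 : b ≠ 1) (hab : a * b = b * a) (hne : a ≠ b) : PureFour G := by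
  intro x hx hx1
  obtain ⟨g, hg⟩ := h a x ha ha1 hx hx1
  have e1 : (g * b * g⁻¹) * (g * b * g⁻¹) = 1 := by
    have : (g * b * g⁻¹) * (g * b * g⁻¹) = g * (b * b) * g⁻¹ := by group
    rw [this, hb]
    group
  have e2 : g * b * g⁻¹ ≠ 1 := by
    intro e
    apply hb1
    have : b = g⁻¹ * (g * b * g⁻¹) * g := by group
    rw [this, e]
    group
  have e3 : x * (g * b * g⁻¹) = (g * b * g⁻¹) * x := by
    rw [← hg]
    have h1 : (g * a * g⁻¹) * (g * b * g⁻¹) = g * (a * b) * g⁻¹ := by group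
    have h2 : (g * b * g⁻¹) * (g * a * g⁻¹) = g * (b * a) * g⁻¹ := by group
    rw [h1, h2, hab]
  have e4 : x ≠ g * b * g⁻¹ := by
    rw [← hg]
    intro e
    apply hne
    have : a = g⁻¹ * (g * a * g⁻¹) * g := by group
    rw [this, e]
    group
  refine ⟨g * b * g⁻¹, e1, e2, e3, e4, h _ _ hx hx1 e1 e2, h _ _ hx hx1 ?_ ?_⟩
  · exact mul_inv_of_comm hx e1 e3
  · exact mul_ne_one_of e1 e4

theorem OneCl.pure_of_kill (h : OneCl G) (hk : Kill G) : PureFour G := by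
  rcases hk with ⟨u, s, h1, h2, h3, h4, h5, h6⟩ |
    ⟨p, g, s, e₁, e₂, hp, hp2, hg, hs, hs1, hsg, h1, h11, h2, h21, h12, hc, a1, a2⟩ |
    ⟨p, g, e₁, e₂, s₂, hp, hp2, hg, h1, h2, h21, hs, a1, a2, a3, a4, a5⟩
  · refine h.pure h3 h4 h1 h2 ?_ h6
    rw [← mul_assoc, ← h5, mul_assoc, ← h5, ← mul_assoc]
  · exact h.pure h1 h11 h2 h21 hc h12
  · refine h.pure h1 ?_ h2 h21 a4 ?_
    · rintro rfl
      apply a5
      rw [mul_one, one_mul]
    · rintro rfl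
      rw [← a1, mul_inv_cancel_right] at a3
      exact odd_pow_ne hp hp2 hg a3

theorem exists_pair_of_not_rank [Finite G] (h : ¬ Cfsg.PRankLE 2 2 G) :
    ∃ a b : G, a * a = 1 ∧ a ≠ 1 ∧ b * b = 1 ∧ b ≠ 1 ∧ a * b = b * a ∧ a ≠ b := by
  classical
  by_contra hc
  apply h
  intro A hA h2
  by_contra h3
  rw [not_le] at h3
  have h2' : ∀ x ∈ A, x * x = 1 := fun x hx => by
    have := h2 x hx
    rwa [pow_two] at this
  obtain ⟨x, y, z, hx, hy, hz, hxy, hxz, hyz⟩ := exists_three (α := G) (Q := fun x => x ∈ A) (by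
    have h4 : Nat.card {x // x ∈ A} = Nat.card A := rfl
    rw [h4]
    omega)
  have key : ∀ a b : G, a ∈ A → b ∈ A → a ≠ 1 → b ≠ 1 → a ≠ b → False := by
    intro a b ha hb ha1 hb1 hab
    exact hc ⟨a, b, h2' a ha, ha1, h2' b hb, hb1,
      congrArg Subtype.val (hA.is_comm.comm ⟨a, ha⟩ ⟨b, hb⟩), hab⟩
  by_cases hx1 : x = 1
  · refine key y z hy hz ?_ ?_ hyz
    · rw [← hx1]
      exact hxy.symm
    · rw [← hx1]
      exact hxz.symm
  · by_cases hy1 : y = 1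
    · refine key x z hx hz hx1 ?_ hxz
      rw [← hy1]
      exact hyz.symm
    · exact key x y hx hy hx1 hy1 hxy

theorem OneCl.pure_of_rank [Finite G] (h : OneCl G) (h2 : ¬ Cfsg.PRankLE 2 2 G) : PureFour G := by
  obtain ⟨a, b, ha, ha1, hb, hb1, hab, hne⟩ := exists_pair_of_not_rank h2
  exact h.pure ha ha1 hb hb1 hab hne

end congr

section plane

variable {G P L : Type*} [Membership P L] [Configuration.ProjectivePlane P L] [Finite P] [Finite L]
  [Group G] [MulAction G P] [MulAction G L] {O : Set P}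

theorem Ctx.allHom_of_pure (c : Ctx G L O) [Finite G] [IsSimpleGroup G]
    (hG : ¬ IsMulCommutative G) (h : PureFour G) : AllHom G L O := by
  obtain ⟨-, H, h1, h2, h3⟩ := c.main hG
  refine h3 fun x hx hx1 => ?_
  by_contra hH
  obtain ⟨y, hy, hy1, hxy, hne, ⟨g, hg⟩, k, hk⟩ := h x hx hx1
  have conj : ∀ g z : G, g * x * g⁻¹ = z → ¬ H z := by
    intro g z hz hHz
    apply hH
    have := h1 g⁻¹ z hHz
    rw [← hz] at this
    have e : g⁻¹ * (g * x * g⁻¹) * g⁻¹⁻¹ = x := by group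
    rwa [e] at this
  exact conj k _ hk (h2 x y hx hx1 hy hy1 hxy hne hH (conj g y hg))

theorem AllHom.not_kill (c : Ctx G L O) (hall : AllHom G L O) : ¬ Kill G := by
  rintro (⟨u, s, h1, h2, h3, h4, h5, h6⟩ |
    ⟨p, g, s, e₁, e₂, hp, hp2, hg, hs, hs1, hsg, h1, h11, h2, h21, h12, hc, a1, a2⟩ |
    ⟨p, g, e₁, e₂, s₂, hp, hp2, hg, h1, h2, h21, hs, a1, a2, a3, a4, a5⟩)
  · exact c.false_of_W hall h1 h2 h3 h4 h5 h6
  · exact c.false_of_A hall hp hp2 hg hs hs1 hsg h1 h11 h2 h21 h12 hc a1 a2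
  · exact c.false_of_Z hall hp hp2 hg h1 h2 h21 hs a1 a2 a3 a4 a5

/-- the two ways to a contradiction -/
theorem Ctx.false_of_kill (c : Ctx G L O) [Finite G] [IsSimpleGroup G]
    (hG : ¬ IsMulCommutative G) (h : OneCl G) (hk : Kill G) : False :=
  AllHom.not_kill c (c.allHom_of_pure hG (h.pure_of_kill hk)) hk

theorem Ctx.rank_of_pure (c : Ctx G L O) [Finite G] [IsSimpleGroup G]
    (hG : ¬ IsMulCommutative G) (h : PureFour G) : Cfsg.PRankLE 2 2 G :=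
  c.rank_two (c.allHom_of_pure hG h)

end plane

end Cfsg.Agent.H901.Ov
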