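import Cfsg.Agent.H901.OvData
import Cfsg.Agent.SporadicA.M11Facts2

/-!
# The Mathieu group of degree eleven (helper901)
-/

set_option autoImplicit false

namespace Cfsg.Agent.H901.Ov

open Subgroup Cfsg.Agent.SporadicA

variable {G : Type*} [Group G] [Finite G]

theorem oneCl_M11 (hG : Cfsg.IsM11 G) : OneCl G := by
  intro x y hx hx1 hy hy1
  exact isConj_iff.1 (M11Facts.isConj_involutions hG
    (orderOf_eq_prime (by rw [pow_two, hx]) hx1) (orderOf_eq_prime (by rw [pow_two, hy]) hy1))

theorem kill_M11 (hG : Cfsg.IsM11 G) : Kill G := by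
  classical
  have : Fact (Nat.Prime 2) := ⟨Nat.prime_two⟩
  have : Fact (Nat.Prime 3) := ⟨Nat.prime_three⟩
  have hyp := M11Facts2.hyp hG
  obtain ⟨P⟩ : Nonempty (Sylow 3 G) := inferInstance
  have hP9 : Nat.card (P : Subgroup G) = 9 := M11Three.card_P hG P
  have hcomm : ∀ x ∈ (P : Subgroup G), ∀ y ∈ (P : Subgroup G), x * y = y * x := fun x hx y hy =>
    congrArg Subtype.val (M11Three.comm_P hG P ⟨x, hx⟩ ⟨y, hy⟩)
  have hcent : ∀ z : G, (∀ x ∈ (P : Subgroup G), z * x = x * z) → z ∈ (P : Subgroup G) := by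
    intro z hz
    rw [← M11Facts2.centralizer_sylow_three hG P, mem_centralizer_iff]
    intro x hx
    exact (hz x hx).symm
  have hexp : ∀ x ∈ (P : Subgroup G), x * x * x = 1 := by
    intro x hx
    have := M11Facts2.pow_three_eq_one hG P hx
    rwa [pow_succ, pow_two] at this
  -- no involution in `P`
  have hP2 : ∀ x ∈ (P : Subgroup G), x * x = 1 → x = 1 := by
    intro x hx h
    have := hexp x hx
    rwa [h, one_mul] at this
  obtain ⟨g, -, hg⟩ := M11Three.exists_inverting hG hyp P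
  have hg' : ∀ x ∈ (P : Subgroup G), g * x = x⁻¹ * g := by
    intro x hx
    rw [← hg x hx]
    group
  -- `g` is an involution
  have hgg : g * g = 1 := by
    have h1 : g * g ∈ (P : Subgroup G) := by
      refine hcent _ fun x hx => ?_
      rw [mul_assoc, hg' x hx, ← mul_assoc, hg' _ (inv_mem hx), inv_inv, mul_assoc]
    refine hP2 _ h1 ?_
    have h2 := hg _ h1
    have h3 : g * (g * g) * g⁻¹ = g * g := by group
    rw [h3] at h2
    calc g * g * (g * g) = (g * g)⁻¹ * (g * g) := by rw [← h2]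
      _ = 1 := inv_mul_cancel _
  obtain ⟨y, hy, hy1⟩ : ∃ y ∈ (P : Subgroup G), y ≠ 1 := by
    by_contra hc
    push Not at hc
    have : (P : Subgroup G) = ⊥ := by
      rw [eq_bot_iff]
      intro x hx
      rw [mem_bot]
      exact hc x hx
    rw [this, card_bot] at hP9
    omega
  have hyo : orderOf y = 3 := orderOf_eq_prime (by
    have := hexp y hy
    rw [pow_succ, pow_two, this]) hy1
  have hg1 : g ≠ 1 := by
    rintro rfl
    have := hg y hy
    rw [inv_one, mul_one, one_mul] at this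
    apply hy1
    refine hP2 y hy ?_
    nth_rewrite 1 [this]
    exact inv_mul_cancel y
  -- an involution centralizing `y`
  have hC18 := M11Facts2.card_centralizer_three hG hyo
  obtain ⟨⟨s, hsC⟩, hs2⟩ := exists_prime_orderOf_dvd_card' (G := centralizer ({y} : Set G)) 2
    (by rw [hC18]; norm_num)
  have hsy : s * y = y * s := (mem_centralizer_singleton_iff.1 hsC)
  rw [← orderOf_coe] at hs2
  change orderOf s = 2 at hs2
  have hss : s * s = 1 := by
    rw [← pow_two, ← hs2]
    exact pow_orderOf_eq_one s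
  have hs1 : s ≠ 1 := by
    rintro rfl
    rw [orderOf_one] at hs2
    omega
  have hsinv : s⁻¹ = s := inv_eq_of_mul_eq_one_left hss
  have hginv : g⁻¹ = g := inv_eq_of_mul_eq_one_left hgg
  -- `P` is normal in `C(y)`
  have hPC : (P : Subgroup G) ≤ centralizer ({y} : Set G) := fun x hx =>
    mem_centralizer_singleton_iff.2 (hcomm x hx y hy)
  have hidx : ((P : Subgroup G).subgroupOf (centralizer ({y} : Set G))).index = 2 := by
    have h1 := card_mul_index ((P : Subgroup G).subgroupOf (centralizer ({y} : Set G)))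
    have h2 : Nat.card ((P : Subgroup G).subgroupOf (centralizer ({y} : Set G))) = 9 := by
      rw [Nat.card_congr (subgroupOfEquivOfLe hPC).toEquiv, hP9]
    rw [h2, hC18] at h1
    omega
  have hnorm := normal_of_index_eq_two hidx
  have hsP : ∀ x ∈ (P : Subgroup G), s * x * s⁻¹ ∈ (P : Subgroup G) := by
    intro x hx
    have := hnorm.conj_mem ⟨x, hPC hx⟩ (mem_subgroupOf.2 hx) ⟨s, hsC⟩
    exact mem_subgroupOf.1 this
  -- `s g s⁻¹ = p g`
  have hp : s * g * s⁻¹ * g ∈ (P : Subgroup G) := by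
    refine hcent _ fun x hx => ?_
    have h1 : s⁻¹ * x⁻¹ * s ∈ (P : Subgroup G) := by
      have := hsP x⁻¹ (inv_mem hx)
      rwa [hsinv] at this ⊢
    have h2 := hg' _ h1
    calc s * g * s⁻¹ * g * x = s * g * s⁻¹ * (g * x) := by group
      _ = s * (g * (s⁻¹ * x⁻¹ * s)) * s⁻¹ * g := by rw [hg' x hx]; group
      _ = s * ((s⁻¹ * x⁻¹ * s)⁻¹ * g) * s⁻¹ * g := by rw [h2]
      _ = x * (s * g * s⁻¹ * g) := by group
  obtain ⟨p, hpdef⟩ : ∃ p, p = s * g * s⁻¹ * g := ⟨_, rfl⟩
  rw [← hpdef] at hp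
  have hsg : s * g = p * g * s := by
    rw [hpdef, mul_assoc (s * g * s⁻¹), hgg]
    group
  obtain ⟨t, htdef⟩ : ∃ t, t = p * s := ⟨_, rfl⟩
  have htg : t * g = g * t := by
    have h1 := hg' p hp
    calc t * g = p * (s * g) := by rw [htdef, mul_assoc]
      _ = p * p * p * (p⁻¹ * g) * s := by rw [hsg]; group
      _ = g * t := by rw [hexp p hp, ← h1, htdef]; group
  have hty : y * t = t * y := by
    rw [htdef, ← mul_assoc, hcomm y hy p hp, mul_assoc, ← hsy, mul_assoc]
  have htP : ∀ x ∈ (P : Subgroup G), t * x * t⁻¹ ∈ (P : Subgroup G) := by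
    intro x hx
    have h1 : t * x * t⁻¹ = p * (s * x * s⁻¹) * p⁻¹ := by
      rw [htdef]; group
    rw [h1]
    exact mul_mem (mul_mem hp (hsP x hx)) (inv_mem hp)
  have htt : t * t = 1 := by
    have h1 : t * t ∈ (P : Subgroup G) := by
      have h2 : t * t = p * (s * p * s⁻¹) := by
        rw [htdef, hsinv]; group
      rw [h2]
      exact mul_mem hp (hsP p hp)
    refine hP2 _ h1 ?_
    have h2 := hg _ h1
    have h3 : g * (t * t) * g⁻¹ = t * t := by
      rw [← mul_assoc g, ← htg, mul_assoc t, ← htg]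
      group
    rw [h3] at h2
    nth_rewrite 1 [h2]
    exact inv_mul_cancel _
  have htinv : t⁻¹ = t := inv_eq_of_mul_eq_one_left htt
  have ht1 : t ∉ (P : Subgroup G) := by
    intro h
    have h1 : s ∈ (P : Subgroup G) := by
      have : s = p⁻¹ * t := by rw [htdef]; group
      rw [this]
      exact mul_mem (inv_mem hp) h
    exact hs1 (hP2 s h1 hss)
  obtain ⟨x, hx, hxt⟩ : ∃ x ∈ (P : Subgroup G), t * x ≠ x * t := by
    by_contra hc
    push Not at hc
    exact ht1 (hcent t hc)
  refine Or.inr (Or.inr ⟨3, y, t, g, x * t * x⁻¹, by norm_num, by norm_num, hyo, htt, hgg, hg1,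
    ?_, hty, ?_, ?_, htg, ?_⟩)
  · have : x * t * x⁻¹ * (x * t * x⁻¹) = x * (t * t) * x⁻¹ := by group
    rw [this, htt]
    group
  · have h1 := hcomm x hx y hy
    calc y * (x * t * x⁻¹) = (y * x) * t * x⁻¹ := by group
      _ = x * (y * t) * x⁻¹ := by rw [← h1]; group
      _ = x * t * (x⁻¹ * (x * y) * x⁻¹) := by rw [hty]; group
      _ = x * t * (x⁻¹ * (y * x) * x⁻¹) := by rw [h1]
      _ = x * t * x⁻¹ * y := by group
  · exact hg y hy
  · intro h
    have h1 : x * t * x⁻¹ * t ∈ (P : Subgroup G) := by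
      have := mul_mem hx (htP x⁻¹ (inv_mem hx))
      rwa [htinv, ← mul_assoc, ← mul_assoc] at this
    have h2 : x * t * x⁻¹ * t = 1 := by
      refine hP2 _ h1 ?_
      nth_rewrite 1 [h]
      calc t * (x * t * x⁻¹) * (x * t * x⁻¹ * t) = t * (x * (t * t) * x⁻¹) * t := by group
        _ = 1 := by rw [htt, mul_one, mul_inv_cancel, mul_one, htt]
    apply hxt
    have h3 : x * t * x⁻¹ = t := by
      have := eq_inv_of_mul_eq_one_left h2
      rwa [htinv] at this
    calc t * x = x * t * x⁻¹ * x := by rw [h3]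
      _ = x * t := by group

end Cfsg.Agent.H901.Ov
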