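import Cfsg.Agent.H901.OvData
import Cfsg.Agent.MTwelveType.SylowModel
import Cfsg.Agent.ClassificationK.GTwoSimple

/-!
# The Mathieu group of degree twelve (helper901)
-/

set_option autoImplicit false
open scoped Pointwise

namespace Cfsg.Agent.H901.Ov

open Cfsg.Agent.MTwelveType.SylowModel Cfsg.Agent.SporadicStructure.M11InvPerms

/-- `x` fixes a point of the dodecad -/
def FixDd (x : Cfsg.Spor.M12) : Prop := ∃ p ∈ dd, x.1 p = p

theorem dd_smul (g : Cfsg.Spor.M12) {p : Cfsg.GolayPt} (hp : p ∈ dd) : g.1 p ∈ dd := by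
  have h := (Subgroup.mem_inf.1 g.2).2
  rw [MulAction.mem_stabilizer_iff, squareDodecad_eq] at h
  rw [← h]
  exact Finset.smul_mem_smul_finset hp

theorem FixDd.conj {x y : Cfsg.Spor.M12} (hx : FixDd x) (h : IsConj x y) : FixDd y := by
  obtain ⟨g, hg⟩ := isConj_iff.1 h
  obtain ⟨p, hp, hxp⟩ := hx
  refine ⟨g.1 p, dd_smul g hp, ?_⟩
  rw [← hg]
  change g.1 (x.1 (g.1.symm (g.1 p))) = g.1 p
  rw [Equiv.symm_apply_apply, hxp]

theorem not_fix_C : ¬ FixDd C := by
  unfold FixDd
  decide +kernel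
theorem not_fix_D : ¬ FixDd D := by
  unfold FixDd
  decide +kernel
theorem not_fix_CD : ¬ FixDd (C * D) := by
  unfold FixDd
  decide +kernel
theorem fix_AA : FixDd (A * A) := by
  unfold FixDd
  decide +kernel
theorem fix_AC : FixDd (A * C) := by
  unfold FixDd
  decide +kernel
theorem fix_AAAC : FixDd (A * A * (A * C)) := by
  unfold FixDd
  decide +kernel

theorem rAA : A * A * (A * A) = 1 := ext_M12 (by decide +kernel)
theorem rAC : A * C * (A * C) = 1 := ext_M12 (by decide +kernel)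
theorem rcomm : A * A * (A * C) = A * C * (A * A) := ext_M12 (by decide +kernel)
theorem rCD : C * D * (C * D) = 1 := ext_M12 (by decide +kernel)
theorem rAAAC : A * A * (A * C) * (A * A * (A * C)) = 1 := ext_M12 (by decide +kernel)

theorem fixDd_one : FixDd 1 := ⟨some 0, by decide +kernel, rfl⟩
theorem AA_ne : A * A ≠ 1 := by
  intro h
  have h1 := congrArg (fun x : Cfsg.Spor.M12 => x.1 (some 0)) h
  revert h1
  decide +kernel
theorem AC_ne : A * C ≠ 1 := by
  intro h
  have h1 := congrArg (fun x : Cfsg.Spor.M12 => x.1 (some 1)) h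
  revert h1
  decide +kernel
theorem AAAC_ne : A * A * (A * C) ≠ 1 := by
  intro h
  have h1 := congrArg (fun x : Cfsg.Spor.M12 => x.1 (some 2)) h
  revert h1
  decide +kernel

theorem pureFour_of_classes {G : Type*} [Group G] {x y a b c d : G}
    (hxy : ∀ z : G, orderOf z = 2 → IsConj z x ∨ IsConj z y) (F : G → Prop)
    (hF : ∀ u v, F u → IsConj u v → F v) (ha : orderOf a = 2) (hb : orderOf b = 2)
    (hab : orderOf (a * b) = 2) (hcomm : a * b = b * a) (hc : orderOf c = 2)
    (hd : orderOf d = 2) (hcd : orderOf (c * d) = 2) (hcomm' : c * d = d * c)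
    (a1 : ¬ F a) (a2 : ¬ F b) (a3 : ¬ F (a * b)) (a4 : F c) (a5 : F d) (a6 : F (c * d)) :
    PureFour G := by
  have sq : ∀ z : G, orderOf z = 2 → z * z = 1 := fun z hz => by
    rw [← pow_two, ← hz, pow_orderOf_eq_one]
  have ne : ∀ z : G, orderOf z = 2 → z ≠ 1 := by
    rintro z hz rfl
    rw [orderOf_one] at hz
    omega
  -- all the elements outside `F` are conjugate to `a`, the others to `c`
  have hnac : ¬ IsConj a c := fun h => a1 (hF _ _ a4 h.symm)
  have key : ∀ z : G, orderOf z = 2 → (IsConj z a ∨ IsConj z c) := by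
    intro z hz
    rcases hxy z hz with h | h <;> rcases hxy a ha with h1 | h1 <;> rcases hxy c hc with h2 | h2
    · exact Or.inl (h.trans h1.symm)
    · exact Or.inl (h.trans h1.symm)
    · exact Or.inr (h.trans h2.symm)
    · exact absurd (h1.trans h2.symm) hnac
    · exact absurd (h1.trans h2.symm) hnac
    · exact Or.inr (h.trans h2.symm)
    · exact Or.inl (h.trans h1.symm)
    · exact Or.inl (h.trans h1.symm)
  have hA : ∀ z, orderOf z = 2 → ¬ F z → IsConj a z := by
    intro z hz hFz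
    rcases key z hz with h | h
    · exact h.symm
    · exact absurd (hF _ _ a4 h.symm) hFz
  have hC : ∀ z, orderOf z = 2 → F z → IsConj c z := by
    intro z hz hFz
    rcases key z hz with h | h
    · exact absurd (hF _ _ hFz h) a1
    · exact h.symm
  have main : ∀ u v x : G, orderOf u = 2 → orderOf v = 2 → orderOf (u * v) = 2 → u * v = v * u →
      u ≠ v → IsConj u v → IsConj u (u * v) → IsConj u x → ∃ y : G, y * y = 1 ∧ y ≠ 1 ∧
        x * y = y * x ∧ x ≠ y ∧ (∃ g, g * x * g⁻¹ = y) ∧ ∃ g, g * x * g⁻¹ = x * y := by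
    intro u v x hu hv huv hc hne h1 h2 h3
    obtain ⟨g, hg⟩ := isConj_iff.1 h3
    obtain ⟨k, hk⟩ := isConj_iff.1 h1
    obtain ⟨l, hl⟩ := isConj_iff.1 h2
    refine ⟨g * v * g⁻¹, ?_, ?_, ?_, ?_, ⟨g * k * g⁻¹, ?_⟩, g * l * g⁻¹, ?_⟩
    · calc g * v * g⁻¹ * (g * v * g⁻¹) = g * (v * v) * g⁻¹ := by group
        _ = 1 := by rw [sq v hv]; group
    · intro h
      apply ne v hv
      calc v = g⁻¹ * (g * v * g⁻¹) * g := by group
        _ = 1 := by rw [h]; group
    · rw [← hg]
      calc g * u * g⁻¹ * (g * v * g⁻¹) = g * (u * v) * g⁻¹ := by group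
        _ = g * v * g⁻¹ * (g * u * g⁻¹) := by rw [hc]; group
    · intro h
      apply hne
      rw [← hg] at h
      exact mul_left_cancel (mul_right_cancel h)
    · rw [← hg, ← hk]
      group
    · calc g * l * g⁻¹ * x * (g * l * g⁻¹)⁻¹ = g * (l * u * l⁻¹) * g⁻¹ := by rw [← hg]; group
        _ = x * (g * v * g⁻¹) := by rw [hl, ← hg]; group
  intro z hz hz1
  have hzo : orderOf z = 2 := orderOf_eq_prime (by rw [pow_two, hz]) hz1
  by_cases hFz : F z
  · refine main c d z hc hd hcd hcomm' ?_ (hC d hd a5) (hC _ hcd a6) (hC z hzo hFz)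
    rintro rfl
    exact ne _ hcd (sq _ hc)
  · refine main a b z ha hb hab hcomm ?_ (hA b hb a2) (hA _ hab a3) (hA z hzo hFz)
    rintro rfl
    exact ne _ hab (sq _ ha)

theorem pure_M12 [Finite Cfsg.Spor.M12] [IsSimpleGroup Cfsg.Spor.M12]
    (h2 : ¬ Cfsg.PRankLE 2 2 Cfsg.Spor.M12) : PureFour Cfsg.Spor.M12 := by
  obtain ⟨P⟩ : Nonempty (Sylow 2 Cfsg.Spor.M12) := inferInstance
  obtain ⟨e⟩ := exists_equiv P
  have ne : ∀ z : Cfsg.Spor.M12, ¬ FixDd z → z ≠ 1 := by
    rintro z hz rfl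
    exact hz fixDd_one
  rcases Cfsg.Agent.ClassificationK.GTwoSimple.main P 1 le_rfl e with h | ⟨-, x, y, -, -, -, h⟩
  · refine OneCl.pure_of_rank (fun x y hx hx1 hy hy1 => ?_) h2
    exact isConj_iff.1 (h x y (orderOf_eq_prime (by rw [pow_two, hx]) hx1)
      (orderOf_eq_prime (by rw [pow_two, hy]) hy1))
  · refine pureFour_of_classes (a := C) (b := D) (c := A * A) (d := A * C) h FixDd
      (fun u v h1 h2 => h1.conj h2) ?_ ?_ ?_ relCD ?_ ?_ ?_ rcomm not_fix_C not_fix_D not_fix_CD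
      fix_AA fix_AC fix_AAAC
    · exact orderOf_eq_prime (by rw [pow_two, relC]) (ne _ not_fix_C)
    · exact orderOf_eq_prime (by rw [pow_two, relD]) (ne _ not_fix_D)
    · exact orderOf_eq_prime (by rw [pow_two, rCD]) (ne _ not_fix_CD)
    · exact orderOf_eq_prime (by rw [pow_two, rAA]) AA_ne
    · exact orderOf_eq_prime (by rw [pow_two, rAC]) AC_ne
    · exact orderOf_eq_prime (by rw [pow_two, rAAAC]) AAAC_ne

end Cfsg.Agent.H901.Ov
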