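import Cfsg.Agent.H901.OvData
import Cfsg.Agent.TwoFusion.PSL3Inv

/-!
# The groups `PSL₃(q)`, `q` odd (helper901)
-/

set_option autoImplicit false

namespace Cfsg.Agent.H901.Ov

open Matrix TwoFusion.PSL3Inv

variable {F : Type*} [Field F]

theorem sl_ext {A B : SpecialLinearGroup (Fin 3) F}
    (h : (A : Matrix (Fin 3) (Fin 3) F) = (B : Matrix (Fin 3) (Fin 3) F)) : A = B := Subtype.ext h

/-- `diag(1,-1,-1)` -/
def ed (F : Type*) [Field F] : SpecialLinearGroup (Fin 3) F :=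
  ⟨dm F, by unfold dm; rw [det_fin_three]; simp⟩

theorem oneCl_PSL3 (h2 : (2 : F) ≠ 0) : OneCl (ProjectiveSpecialLinearGroup (Fin 3) F) := by
  intro x y hx hx1 hy hy1
  obtain ⟨T, P, hT, -, -, hTP⟩ := exists_conj_mk h2 x
    (orderOf_eq_prime (by rw [pow_two, hx]) hx1)
  obtain ⟨S, Q, hS, -, -, hSQ⟩ := exists_conj_mk h2 y
    (orderOf_eq_prime (by rw [pow_two, hy]) hy1)
  have h1 : T * P = P * ed F := sl_ext hTP
  have h3 : S * Q = Q * ed F := sl_ext hSQ
  refine ⟨QuotientGroup.mk (Q * P⁻¹), ?_⟩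
  rw [← hT, ← hS, ← QuotientGroup.mk_mul, ← QuotientGroup.mk_inv, ← QuotientGroup.mk_mul]
  congr 1
  calc Q * P⁻¹ * T * (Q * P⁻¹)⁻¹ = Q * P⁻¹ * (T * P) * Q⁻¹ := by group
    _ = (Q * ed F) * Q⁻¹ := by rw [h1]; group
    _ = S := by rw [← h3]; group

/-- the transvections with first row `(1,a,b)` -/
def tr (a b : F) : SpecialLinearGroup (Fin 3) F :=
  ⟨!![1, a, b; 0, 1, 0; 0, 0, 1], by rw [det_fin_three]; simp⟩

theorem tr_mul (a b c d : F) : tr a b * tr c d = tr (a + c) (b + d) := by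
  refine Matrix.SpecialLinearGroup.ext _ _ fun i j => ?_
  rw [Matrix.SpecialLinearGroup.coe_mul]
  fin_cases i <;> fin_cases j <;> simp [tr, mul_apply, Fin.sum_univ_three, add_comm]

theorem tr_inj {a b c d : F} (h : tr a b = tr c d) : a = c ∧ b = d := by
  have h1 := congrArg Subtype.val h
  refine ⟨?_, ?_⟩
  · simpa [tr] using congrFun (congrFun h1 0) 1
  · simpa [tr] using congrFun (congrFun h1 0) 2

theorem tr_zero : tr (0 : F) 0 = 1 := by
  refine Matrix.SpecialLinearGroup.ext _ _ fun i j => ?_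
  fin_cases i <;> fin_cases j <;> simp [tr]

theorem tr_inv (a b : F) : (tr a b)⁻¹ = tr (-a) (-b) := by
  apply inv_eq_of_mul_eq_one_left
  rw [tr_mul, neg_add_cancel, neg_add_cancel, tr_zero]

theorem tr_pow (b : F) (n : ℕ) : tr 0 b ^ n = tr 0 (n * b) := by
  induction n with
  | zero => rw [pow_zero, Nat.cast_zero, zero_mul, tr_zero]
  | succ n ih => rw [pow_succ, ih, tr_mul, Nat.cast_succ, add_mul, one_mul, add_zero]

/-- `diag(-1,1,-1)` -/
def ea (F : Type*) [Field F] : SpecialLinearGroup (Fin 3) F :=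
  ⟨!![-1, 0, 0; 0, 1, 0; 0, 0, -1], by rw [det_fin_three]; simp⟩

/-- `diag(-1,-1,1)` -/
def eb (F : Type*) [Field F] : SpecialLinearGroup (Fin 3) F :=
  ⟨!![-1, 0, 0; 0, -1, 0; 0, 0, 1], by rw [det_fin_three]; simp⟩

theorem ea_ea : ea F * ea F = 1 := by
  refine Matrix.SpecialLinearGroup.ext _ _ fun i j => ?_
  rw [Matrix.SpecialLinearGroup.coe_mul]
  fin_cases i <;> fin_cases j <;> simp [ea, mul_apply, Fin.sum_univ_three]

theorem eb_eb : eb F * eb F = 1 := by
  refine Matrix.SpecialLinearGroup.ext _ _ fun i j => ?_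
  rw [Matrix.SpecialLinearGroup.coe_mul]
  fin_cases i <;> fin_cases j <;> simp [eb, mul_apply, Fin.sum_univ_three]

theorem ea_eb : ea F * eb F = eb F * ea F := by
  refine Matrix.SpecialLinearGroup.ext _ _ fun i j => ?_
  rw [Matrix.SpecialLinearGroup.coe_mul, Matrix.SpecialLinearGroup.coe_mul]
  fin_cases i <;> fin_cases j <;> simp [eb, ea, mul_apply, Fin.sum_univ_three]

theorem ea_tr (a b : F) : ea F * tr a b = tr (-a) b * ea F := by
  refine Matrix.SpecialLinearGroup.ext _ _ fun i j => ?_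
  rw [Matrix.SpecialLinearGroup.coe_mul, Matrix.SpecialLinearGroup.coe_mul]
  fin_cases i <;> fin_cases j <;> simp [tr, ea, mul_apply, Fin.sum_univ_three]

theorem eb_tr (a b : F) : eb F * tr a b = tr a (-b) * eb F := by
  refine Matrix.SpecialLinearGroup.ext _ _ fun i j => ?_
  rw [Matrix.SpecialLinearGroup.coe_mul, Matrix.SpecialLinearGroup.coe_mul]
  fin_cases i <;> fin_cases j <;> simp [tr, eb, mul_apply, Fin.sum_univ_three]

theorem kill_PSL3 [Finite F] (h2 : (2 : F) ≠ 0) : Kill (ProjectiveSpecialLinearGroup (Fin 3) F) := by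
  obtain ⟨p, hp⟩ := CharP.exists F
  have hp' : p.Prime := (CharP.char_is_prime_or_zero F p).resolve_right (by
    rintro rfl
    exact CharP.char_ne_zero_of_finite F 0 rfl)
  have hp2 : p ≠ 2 := by
    rintro rfl
    exact h2 (by exact_mod_cast CharP.cast_eq_zero F 2)
  have hg1 : (tr (0 : F) 1) ∉ Subgroup.center (SpecialLinearGroup (Fin 3) F) := by
    intro h
    have h1 := Subgroup.mem_center_iff.1 h (eb F)
    rw [eb_tr] at h1
    have h3 := (tr_inj (mul_right_cancel h1)).2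
    apply h2
    linear_combination -h3
  have hb1 : (eb F) ∉ Subgroup.center (SpecialLinearGroup (Fin 3) F) := by
    intro h
    have h1 := Subgroup.mem_center_iff.1 h (tr (0 : F) 1)
    rw [eb_tr] at h1
    have h3 := (tr_inj (mul_right_cancel h1)).2
    apply h2
    linear_combination h3
  have : Fact p.Prime := ⟨hp'⟩
  refine Or.inr (Or.inr ⟨p, QuotientGroup.mk (tr 0 1), QuotientGroup.mk (ea F),
    QuotientGroup.mk (eb F), QuotientGroup.mk (tr 1 0 * ea F * (tr 1 0)⁻¹), hp', hp2, ?_, ?_, ?_,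
    ?_, ?_, ?_, ?_, ?_, ?_, ?_⟩)
  · refine orderOf_eq_prime ?_ ?_
    · rw [← QuotientGroup.mk_pow, tr_pow, CharP.cast_eq_zero, zero_mul, tr_zero, QuotientGroup.mk_one]
    · intro h
      exact hg1 ((QuotientGroup.eq_one_iff _).1 h)
  · rw [← QuotientGroup.mk_mul, ea_ea, QuotientGroup.mk_one]
  · rw [← QuotientGroup.mk_mul, eb_eb, QuotientGroup.mk_one]
  · intro h
    exact hb1 ((QuotientGroup.eq_one_iff _).1 h)
  · rw [← QuotientGroup.mk_mul, ← QuotientGroup.mk_one]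
    congr 1
    calc tr 1 0 * ea F * (tr 1 0)⁻¹ * (tr 1 0 * ea F * (tr 1 0)⁻¹)
        = tr 1 0 * (ea F * ea F) * (tr 1 0)⁻¹ := by group
      _ = 1 := by rw [ea_ea]; group
  · rw [← QuotientGroup.mk_mul, ← QuotientGroup.mk_mul, ea_tr, neg_zero]
  · rw [← QuotientGroup.mk_mul, ← QuotientGroup.mk_mul]
    congr 1
    have h1 : tr (0 : F) 1 * tr 1 0 = tr 1 0 * tr 0 1 := by rw [tr_mul, tr_mul]; simp
    have h3 : ea F * tr 0 1 = tr 0 1 * ea F := by rw [ea_tr, neg_zero]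
    calc tr 0 1 * (tr 1 0 * ea F * (tr 1 0)⁻¹) = (tr 0 1 * tr 1 0) * ea F * (tr 1 0)⁻¹ := by group
      _ = tr 1 0 * (tr 0 1 * ea F) * (tr 1 0)⁻¹ := by rw [h1]; group
      _ = tr 1 0 * ea F * ((tr 1 0)⁻¹ * (tr 1 0 * tr 0 1) * (tr 1 0)⁻¹) := by rw [← h3]; group
      _ = tr 1 0 * ea F * (tr 1 0)⁻¹ * tr 0 1 := by rw [← h1]; group
  · rw [← QuotientGroup.mk_mul, ← QuotientGroup.mk_inv, ← QuotientGroup.mk_mul,
      ← QuotientGroup.mk_inv, eb_tr, mul_inv_cancel_right, tr_inv, neg_zero]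
  · rw [← QuotientGroup.mk_mul, ← QuotientGroup.mk_mul, ea_eb]
  · intro h
    rw [← QuotientGroup.mk_mul, ← QuotientGroup.mk_mul, QuotientGroup.eq] at h
    have h1 : (tr 1 0 * ea F * (tr 1 0)⁻¹ * ea F)⁻¹ * (ea F * (tr 1 0 * ea F * (tr 1 0)⁻¹)) =
        tr (-4) 0 := by
      have h3 : tr 1 0 * ea F * (tr 1 0)⁻¹ * ea F = tr (1 + 1) 0 := by
        calc tr 1 0 * ea F * (tr 1 0)⁻¹ * ea F = tr 1 0 * (ea F * tr (-1) (-0)) * ea F := by
              rw [tr_inv]; group
          _ = tr 1 0 * tr 1 0 * (ea F * ea F) := by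
              rw [ea_tr, neg_neg, neg_zero]; group
          _ = tr (1 + 1) 0 := by rw [ea_ea, tr_mul, add_zero, mul_one]
      have h4 : ea F * (tr 1 0 * ea F * (tr 1 0)⁻¹) = tr (-1 + -1) 0 := by
        calc ea F * (tr 1 0 * ea F * (tr 1 0)⁻¹) = (ea F * tr 1 0) * ea F * tr (-1) (-0) := by
              rw [tr_inv]; group
          _ = tr (-1) 0 * (ea F * (ea F * tr (-1) (-0))) := by rw [ea_tr]; group
          _ = tr (-1) 0 * tr (-1) 0 * (ea F * ea F) := by
              rw [ea_tr, neg_neg, neg_zero, ← mul_assoc (ea F), ea_tr]; group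
          _ = tr (-1 + -1) 0 := by rw [ea_ea, tr_mul, add_zero, mul_one]
      rw [h3, h4, tr_inv, tr_mul]
      congr 1
      · ring
      · ring
    rw [h1] at h
    have h5 := Subgroup.mem_center_iff.1 h (ea F)
    rw [ea_tr] at h5
    have h6 := (tr_inj (mul_right_cancel h5)).1
    apply h2
    have h7 : (2 : F) * 2 * 2 = 0 := by linear_combination h6
    rcases mul_eq_zero.1 h7 with h8 | h8
    · rcases mul_eq_zero.1 h8 with h9 | h9 <;> exact h9
    · exact h8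

end Cfsg.Agent.H901.Ov
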