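import Cfsg.Agent.H901.OvData
import Cfsg.Agent.SuzukiRankOne.PSUModel
import Cfsg.Agent.LieRecognition.RankOneInvolutions
import Cfsg.Agent.S1248

/-!
# The groups `PSU₃(2^n)` (helper901)
-/

set_option autoImplicit false

namespace Cfsg.Agent.H901.Ov

open Subgroup

theorem oneCl_of_setup {G Ω : Type*} [Group G] [Finite G] [MulAction G Ω] {a : Ω} {t : G}
    {Q : Subgroup G} (hS : Cfsg.IsRankOneSetup G Ω a t Q) : OneCl G := by
  intro x y hx hx1 hy hy1
  exact Cfsg.Agent.LieRecognition.RankOneInvolutions.isConj_involutions hS hx1 hx hy1 hy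

theorem oneCl_PSU3_even {F : Type*} [Field F] [Finite F] {n : ℕ} (hn : 1 ≤ n)
    (hF : Nat.card F = (2 ^ n) ^ 2) : OneCl (Cfsg.PSU 3 F (2 ^ n)) := by
  have : Fintype F := Fintype.ofFinite F
  have : Fact (Nat.Prime 2) := ⟨Nat.prime_two⟩
  have hF' : Fintype.card F = 2 ^ (n * 2) := by
    rw [← Nat.card_eq_fintype_card, hF, pow_mul]
  have hch : CharP F 2 := charP_of_card_eq_prime_pow hF'
  have hσ : Fact (∀ x, iterateFrobenius F 2 n (iterateFrobenius F 2 n x) = x) := by
    refine ⟨fun x => ?_⟩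
    rw [iterateFrobenius_def, iterateFrobenius_def, ← pow_mul, ← pow_two, ← hF,
      Nat.card_eq_fintype_card, FiniteField.pow_card]
  obtain ⟨H, S, w, -, hfaith, hsetup, -, -⟩ :=
    Cfsg.Agent.SuzukiRankOne.PSUModel.exists_model (σ := iterateFrobenius F 2 n) hn
      (fun x => iterateFrobenius_def 2 n x) hF
  exact oneCl_of_setup hsetup

/-- configuration (W) in a group whose Sylow 2-subgroup is special with centre of order four -/
theorem kill_of_special {G : Type*} [Group G] [Finite G] (S : Subgroup G)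
    (h1 : Nat.card S = 64) (h2 : IsKleinFour (center S))
    (h3 : center S = closure {x : S | orderOf x = 2})
    (h4 : ∀ x : S ⧸ center S, x ^ 2 = 1) : Kill G := by
  classical
  have hZ : Nat.card (center S) = 4 := h2.card_four
  have hsq : ∀ x : S, x * x = 1 → x ∈ center S := by
    intro x hx
    by_cases hx1 : x = 1
    · rw [hx1]
      exact one_mem _
    · rw [h3]
      exact subset_closure (orderOf_eq_prime (by rw [pow_two, hx]) hx1)
  obtain ⟨u, hu⟩ : ∃ u : S, u * u ≠ 1 := by
    by_contra hc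
    push Not at hc
    have : (center S) = ⊤ := by
      rw [eq_top_iff]
      intro x _
      exact hsq x (hc x)
    rw [this, card_top, h1] at hZ
    omega
  have huZ : u * u ∈ center S := by
    rw [← QuotientGroup.eq_one_iff, QuotientGroup.mk_mul, ← pow_two]
    exact h4 _
  have hZZ : ∀ z ∈ center S, z * z = 1 := by
    intro z hz
    have := IsKleinFour.mul_self (⟨z, hz⟩ : center S)
    exact congrArg Subtype.val this
  obtain ⟨s, hs, hs1, hsu⟩ : ∃ s ∈ center S, s ≠ 1 ∧ s ≠ u * u := by
    by_contra hc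
    push Not at hc
    have hle : Nat.card (center S) ≤ 2 := by
      have h5 : ((center S : Subgroup S) : Set S) ⊆ {1, u * u} := by
        intro x hx
        by_cases hx1 : x = 1
        · exact Or.inl hx1
        · exact Or.inr (hc x hx hx1)
      have h6 := Set.ncard_le_ncard h5 (Set.toFinite _)
      rw [Set.ncard_pair (fun h => hu h.symm)] at h6
      exact h6
    omega
  refine Or.inl ⟨u, s, ?_, ?_, ?_, ?_, ?_, ?_⟩
  · exact_mod_cast congrArg Subtype.val (hZZ _ huZ)
  · exact fun h => hu (Subtype.ext h)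
  · exact_mod_cast congrArg Subtype.val (hZZ _ hs)
  · exact fun h => hs1 (Subtype.ext h)
  · exact congrArg Subtype.val (mem_center_iff.1 hs u)
  · exact fun h => hsu (Subtype.ext h)

theorem kill_PSU34 {F : Type*} [Field F] [Fintype F] (hF : Fintype.card F = 16)
    [Finite (Cfsg.PSU 3 F 4)] : Kill (Cfsg.PSU 3 F 4) := by
  obtain ⟨S⟩ : Nonempty (Sylow 2 (Cfsg.PSU 3 F 4)) := inferInstance
  obtain ⟨h1, h2, h3, -, -, h4⟩ := S1248.result hF S
  exact kill_of_special (S : Subgroup (Cfsg.PSU 3 F 4)) h1 h2 h3 h4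

end Cfsg.Agent.H901.Ov
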