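import Cfsg.Agent.H901.OvData
import Cfsg.Agent.H901.OvPSU2
import Cfsg.Agent.Cit.HexG2
import Cfsg.Agent.Cit.HexD4
import Cfsg.Agent.Cit.HexInv
import Cfsg.Agent.LieRecognition.ReeCent
import Cfsg.Agent.LieRecognition.ReePSL
import Cfsg.Agent.LieRecognition.ReeInv
import Cfsg.Agent.UGT.EndJ1.Data
import Cfsg.Agent.KFacts.ON.OneClass
import Cfsg.Agent.S1152
import Cfsg.Agent.S1157
import Cfsg.Agent.S1116
import Cfsg.Agent.SuzukiRankOne.SzModel
import Cfsg.Agent.Ree.ReducePSL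

/-!
# One class of involutions: the simple groups of 2-rank three (helper901)

The proofs for `G₂`, `³D₄`, Ree, `J₁`, `ON` follow `HoltZ.Final`.
-/

set_option autoImplicit false

namespace Cfsg.Agent.H901.Ov

open Cfsg.Agent.Cit Cfsg.Agent.LieRecognition

theorem OneCl.of_base {G : Type*} [Group G] (a : G)
    (h : ∀ t : G, t * t = 1 → t ≠ 1 → ∃ g, g * a * g⁻¹ = t) : OneCl G := by
  intro x y hx hx1 hy hy1
  obtain ⟨g, hg⟩ := h x hx hx1
  obtain ⟨k, hk⟩ := h y hy hy1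
  refine ⟨k * g⁻¹, ?_⟩
  rw [← hg, ← hk]
  group

theorem OneCl.of_isConj {G : Type*} [Group G]
    (h : ∀ s t : G, s * s = 1 → s ≠ 1 → t * t = 1 → t ≠ 1 → IsConj s t) : OneCl G :=
  fun x y hx hx1 hy hy1 => isConj_iff.1 (h x y hx hx1 hy hy1)

theorem oneCl_G2 {F : Type*} [Field F] [Finite F] [Finite ↥(Lie.chevG2.group F)]
    (h2 : (2 : F) ≠ 0) : OneCl ↥(Lie.chevG2.group F) :=
  OneCl.of_isConj fun s t hs hs1 ht ht1 => (HexG2.g2 F h2).isConj_invol h2 hs hs1 ht ht1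

theorem oneCl_D4 {K : Type*} [Field K] [Fintype K] {q : ℕ} [Finite ↥(Lie.twistedD4 K q)]
    (h2 : (2 : K) ≠ 0) (hK : Fintype.card K = q ^ 3) : OneCl ↥(Lie.twistedD4 K q) := by
  obtain ⟨σ, -, ⟨c⟩⟩ := HexD4.exists_d4 hK
  exact OneCl.of_isConj fun s t hs hs1 ht ht1 => c.isConj_invol h2 hs hs1 ht ht1

theorem oneCl_Ree {F : Type*} [Field F] [Fintype F] {m : ℕ} (hm : 1 ≤ m)
    (hF : Fintype.card F = 3 ^ (2 * m + 1)) : OneCl ↥(Cfsg.Lie.twistedG2 F (3 ^ m)) := by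
  have hchar := Cfsg.Agent.S1157.charP_three hF
  obtain ⟨a, haH, ha1, ha2⟩ := Cfsg.Agent.S1157.exists_involution hF
  obtain ⟨⟨e⟩, hS⟩ := Cfsg.Agent.S1152.result hF a haH ha1 ha2
  have hc := ReeCent.centData ha1 ha2 e ReePSL.klein
  exact OneCl.of_base a fun t ht ht1 =>
    ReeInv.isConj_involution hc ReePSL.klein (Cfsg.Agent.S1116.result hF hm) hS ht1 ht

theorem oneCl_IsoRee {G : Type*} [Group G] (h : Lie.IsoRee G) : OneCl G := by
  obtain ⟨F, _, _, m, hm, hF, ⟨e⟩⟩ := h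
  exact OneCl.congr e (oneCl_Ree hm hF)

theorem oneCl_J1 {G : Type*} [Group G] (h : Spor.IsoJ1 G) : OneCl G := by
  obtain ⟨e⟩ := h
  obtain ⟨D⟩ := Cfsg.Agent.UGT.EndJ1.Data.exists_dat
  exact OneCl.congr e (OneCl.of_base D.t fun t ht ht1 => D.conj_t ht ht1)

theorem oneCl_ON {G : Type*} [Group G] (h : Spor.IsoON G) : OneCl G := by
  obtain ⟨e⟩ := h
  exact OneCl.congr e (OneCl.of_isConj fun s t hs hs1 ht ht1 =>
    (Cfsg.Agent.KFacts.ON.OneClass.one_class hs hs1).trans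
      (Cfsg.Agent.KFacts.ON.OneClass.one_class ht ht1).symm)

theorem oneCl_PSL2_even {F : Type*} [Field F] [Fintype F] (h : Even (Fintype.card F)) :
    OneCl (Matrix.ProjectiveSpecialLinearGroup (Fin 2) F) := by
  classical
  obtain ⟨Q, -, -, hQ⟩ := Cfsg.Agent.Ree.ReducePSL.even_case h
  exact OneCl.of_isConj fun s t hs hs1 ht ht1 => hQ s t
    (orderOf_eq_prime (by rw [pow_two, hs]) hs1) (orderOf_eq_prime (by rw [pow_two, ht]) ht1)

theorem oneCl_Sz8 {F : Type} [Field F] [Fintype F] (hF : Fintype.card F = 8)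
    [Finite ↥(Lie.Sz F 4)] : OneCl ↥(Lie.Sz F 4) := by
  have h : Fintype.card F = 2 ^ (2 * 1 + 1) := by rw [hF]; norm_num
  exact oneCl_of_setup (Cfsg.Agent.SuzukiRankOne.SzModel.setup (SzMatrix.good h))

theorem oneCl_PSU8 {F : Type*} [Field F] [Fintype F] (hF : Fintype.card F = 64) :
    OneCl (Cfsg.PSU 3 F 8) :=
  oneCl_PSU3_even (n := 3) (by norm_num) (by rw [Nat.card_eq_fintype_card, hF]; norm_num)

end Cfsg.Agent.H901.Ov
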