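import Cfsg.Agent.H901.OvA7
import Cfsg.Agent.H901.OvM11
import Cfsg.Agent.H901.OvPSL3
import Cfsg.Agent.H901.OvPSU3
import Cfsg.Agent.H901.OvPSU2
import Cfsg.Agent.H901.OvM12
import Cfsg.Agent.H901.OvRank3
import Cfsg.Agent.S0482
import Cfsg.Agent.S1730

/-!
# Simple collineation groups preserving an oval (helper901)
-/

set_option autoImplicit false

namespace Cfsg.Agent.H901.Ov

open Configuration

variable {G P L : Type*} [Membership P L] [ProjectivePlane P L] [Finite P] [Finite L] [Group G]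
  [MulAction G P] [MulAction G L] {O : Set P}

theorem two_ne_of_odd {F : Type*} [Field F] [Fintype F] (h : Odd (Fintype.card F)) :
    (2 : F) ≠ 0 := by
  apply Ring.two_ne_zero
  intro h1
  have h2 := FiniteField.even_card_iff_char_two.mp h1
  rw [Nat.odd_iff] at h
  omega

theorem Ctx.of_rank_two (c : Ctx G L O) [Finite G] [IsSimpleGroup G]
    (hG : ¬ IsMulCommutative G) (h2 : Cfsg.PRankLE 2 2 G) :
    ∃ (F : Type) (_ : Field F) (_ : Fintype F), Odd (Fintype.card F) ∧
      Nonempty (G ≃* Matrix.ProjectiveSpecialLinearGroup (Fin 2) F) := by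
  rcases Cfsg.Agent.S0482.result hG h2 with ⟨F, i1, i2, ho, -, e⟩ | ⟨F, i1, i2, ho, ⟨e⟩⟩ |
    ⟨F, i1, i2, q, hF, hq, ⟨e⟩⟩ | ⟨F, i1, i2, hF, ⟨e⟩⟩ | e | h
  · exact ⟨F, i1, i2, ho, e⟩
  · exact (c.false_of_kill hG ((oneCl_PSL3 (two_ne_of_odd ho)).congr e)
      ((kill_PSL3 (two_ne_of_odd ho)).map e.symm.toMonoidHom e.symm.injective)).elim
  · exact (c.false_of_kill hG ((oneCl_PSU3 hF hq).congr e)
      ((kill_PSU3 hF hq).map e.symm.toMonoidHom e.symm.injective)).elim
  · have : Finite (Cfsg.PSU 3 F 4) := Finite.of_equiv _ e.toEquiv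
    refine (c.false_of_kill hG (OneCl.congr e ?_)
      ((kill_PSU34 hF).map e.symm.toMonoidHom e.symm.injective)).elim
    exact oneCl_PSU3_even (n := 2) (by norm_num) (by rw [Nat.card_eq_fintype_card, hF]; norm_num)
  · obtain ⟨e⟩ := e
    exact (c.false_of_kill hG (oneCl_A7.congr e)
      (kill_A7.map e.symm.toMonoidHom e.symm.injective)).elim
  · exact (c.false_of_kill hG (oneCl_M11 h) (kill_M11 h)).elim

theorem Ctx.rank (c : Ctx G L O) [Finite G] [IsSimpleGroup G] (hG : ¬ IsMulCommutative G) :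
    Cfsg.PRankLE 2 2 G := by
  by_contra h2
  have key : OneCl G → False := fun h => h2 (c.rank_of_pure hG (h.pure_of_rank h2))
  rcases Cfsg.Agent.S1730.result hG (c.main hG).1 h2 with ⟨F, i1, i2, ho, ⟨e⟩⟩ |
    ⟨K, i1, i2, q, hq, hK, ⟨e⟩⟩ | h | ⟨F, i1, i2, hF, e | e | ⟨E, i3, i4, hE, ⟨e⟩⟩⟩ | h | h | h
  · have : Finite ↥(Lie.chevG2.group F) := Finite.of_equiv _ e.toEquiv
    exact key ((oneCl_G2 (two_ne_of_odd ho)).congr e)
  · have : Finite ↥(Lie.twistedD4 K q) := Finite.of_equiv _ e.toEquiv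
    exact key ((oneCl_D4 (two_ne_of_odd (by rw [hK]; exact hq.pow)) hK).congr e)
  · exact key (oneCl_IsoRee h)
  · obtain ⟨e⟩ := e
    exact key ((oneCl_PSL2_even (by rw [hF]; decide)).congr e)
  · obtain ⟨e⟩ := e
    have : Finite ↥(Lie.Sz F 4) := Finite.of_equiv _ e.toEquiv
    exact key ((oneCl_Sz8 hF).congr e)
  · exact key ((oneCl_PSU8 hE).congr e)
  · exact key (oneCl_J1 h)
  · obtain ⟨e⟩ := h
    have : Finite Cfsg.Spor.M12 := Finite.of_equiv _ e.toEquiv
    have : IsSimpleGroup Cfsg.Spor.M12 := (MulEquiv.isSimpleGroup_congr e).mp inferInstance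
    refine h2 (c.rank_of_pure hG (PureFour.congr e (pure_M12 ?_)))
    intro h
    apply h2
    intro A hA hAe
    have h3 := h (A.map e.toMonoidHom) (by
      constructor
      constructor
      rintro ⟨_, x, hx, rfl⟩ ⟨_, y, hy, rfl⟩
      apply Subtype.ext
      change e x * e y = e y * e x
      rw [← map_mul, ← map_mul]
      exact congrArg e (congrArg Subtype.val (hA.is_comm.comm ⟨x, hx⟩ ⟨y, hy⟩))) (by
      rintro _ ⟨x, hx, rfl⟩
      change e x ^ 2 = 1
      rw [← map_pow, hAe x hx, map_one])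
    rwa [Subgroup.card_map_of_injective e.injective] at h3
  · exact key (oneCl_ON h)

theorem Ctx.final (c : Ctx G L O) [Finite G] [IsSimpleGroup G] (hG : ¬ IsMulCommutative G) :
    ∃ (F : Type) (_ : Field F) (_ : Fintype F), Odd (Fintype.card F) ∧
      Nonempty (G ≃* Matrix.ProjectiveSpecialLinearGroup (Fin 2) F) :=
  c.of_rank_two hG (c.rank hG)

end Cfsg.Agent.H901.Ov
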