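import Cfsg.Agent.H901.OvOval

/-!
# Collineation groups preserving an oval: fixed points, homologies (helper901)
-/

set_option autoImplicit false
set_option linter.unusedSectionVars false

namespace Cfsg.Agent.H901.Ov

open Configuration

/-- the context: a collineation group preserving an oval in a plane of odd order -/
structure Ctx (G L : Type*) {P : Type*} [Membership P L] [ProjectivePlane P L] [Group G]
    [MulAction G P] [MulAction G L] (O : Set P) : Prop where
  coll : ∀ (g : G) (p : P) (l : L), g • p ∈ g • l ↔ p ∈ l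
  oval : IsOval L O
  inv : ∀ (g : G), ∀ p ∈ O, g • p ∈ O
  faith : ∀ g : G, (∀ p : P, g • p = p) → g = 1

theorem exists_three {α : Type*} [Finite α] {Q : α → Prop} (h : 3 ≤ Nat.card {x // Q x}) :
    ∃ x y z, Q x ∧ Q y ∧ Q z ∧ x ≠ y ∧ x ≠ z ∧ y ≠ z := by
  have := Fintype.ofFinite {x // Q x}
  rw [Nat.card_eq_fintype_card] at h
  obtain ⟨f⟩ : Nonempty (Fin 3 ↪ {x // Q x}) := by
    refine Function.Embedding.nonempty_of_card_le ?_
    simpa using h
  have hf : ∀ i j : Fin 3, i ≠ j → (f i).1 ≠ (f j).1 := fun i j hij e =>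
    hij (f.injective (Subtype.ext e))
  exact ⟨(f 0).1, (f 1).1, (f 2).1, (f 0).2, (f 1).2, (f 2).2, hf 0 1 (by decide),
    hf 0 2 (by decide), hf 1 2 (by decide)⟩

/-- number of points of the oval fixed by `g` -/
noncomputable def nf {G P : Type*} [Group G] [MulAction G P] (O : Set P) (g : G) : ℕ :=
  Nat.card {Q : P // Q ∈ O ∧ g • Q = Q}

variable {G P L : Type*} [Membership P L] [ProjectivePlane P L] [Finite P] [Finite L] [Group G]
  [MulAction G P] [MulAction G L] {O : Set P}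

namespace Ctx

variable (c : Ctx G L O)
include c

theorem memO (g : G) (p : P) : g • p ∈ O ↔ p ∈ O := by
  refine ⟨fun h => ?_, c.inv g p⟩
  have := c.inv g⁻¹ _ h
  rwa [inv_smul_smul] at this

theorem mem_fix {g : G} {p : P} {l : L} (hl : g • l = l) (hp : p ∈ l) : g • p ∈ l := by
  have := (c.coll g p l).2 hp
  rwa [hl] at this

theorem fix_join {g : G} {p q : P} (hpq : p ≠ q) (hp : g • p = p) (hq : g • q = q) {l : L}
    (h1 : p ∈ l) (h2 : q ∈ l) : g • l = l := by
  have h3 := (c.coll g p l).2 h1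
  have h4 := (c.coll g q l).2 h2
  rw [hp] at h3
  rw [hq] at h4
  exact line_uniq hpq h3 h4 h1 h2

theorem fix_meet {g : G} {l k : L} (hlk : l ≠ k) (hl : g • l = l) (hk : g • k = k) {p : P}
    (h1 : p ∈ l) (h2 : p ∈ k) : g • p = p :=
  point_uniq hlk (c.mem_fix hl h1) (c.mem_fix hk h2) h1 h2

theorem tan_smul (g : G) {A : P} {t : L} (h : Tan O A t) : Tan O (g • A) (g • t) where
  mem := c.inv g A h.mem
  on := (c.coll g A t).2 h.on
  only := by
    intro Q hQ hQt
    have h1 : g⁻¹ • Q ∈ O := c.inv _ _ hQ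
    have h2 : g⁻¹ • Q ∈ t := by
      rw [← c.coll g, smul_inv_smul]
      exact hQt
    rw [← h.only _ h1 h2, smul_inv_smul]

theorem fix_tan {g : G} {A : P} {t : L} (hA : g • A = A) (h : Tan O A t) : g • t = t := by
  have h1 := c.tan_smul g h
  rw [hA] at h1
  exact c.oval.tan_uniq h1 h

/-- the fixed elements form a subplane as soon as there is a fixed quadrangle -/
theorem subPl {g : G} (hq : ∃ w x y z : P, g • w = w ∧ g • x = x ∧ g • y = y ∧ g • z = z ∧
    Quad L w x y z) : SubPl {p : P | g • p = p} {l : L | g • l = l} where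
  join _ hp _ hq hpq _ h1 h2 := c.fix_join hpq hp hq h1 h2
  meet _ hl _ hk hlk _ h1 h2 := c.fix_meet hlk hl hk h1 h2
  quad := hq

/-- the intersection of two tangents -/
theorem exists_pole {A B : P} (hA : A ∈ O) (hB : B ∈ O) (hAB : A ≠ B) :
    ∃ (X : P) (t s : L), Tan O A t ∧ Tan O B s ∧ X ∈ t ∧ X ∈ s ∧ X ∉ O := by
  obtain ⟨t, ht⟩ := c.oval.exists_tan hA
  obtain ⟨s, hs⟩ := c.oval.exists_tan hB
  have hts : t ≠ s := by
    rintro rfl
    exact hAB (hs.only A hA ht.on)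
  obtain ⟨X, h1, h2⟩ := exists_meet (P := P) hts
  refine ⟨X, t, s, ht, hs, h1, h2, fun h3 => ?_⟩
  have e1 := ht.only X h3 h1
  have e2 := hs.only X h3 h2
  exact hAB (e1.symm.trans e2)

theorem subPl_of_three {g : G} {A B C : P} (hA : A ∈ O) (hB : B ∈ O) (hC : C ∈ O)
    (gA : g • A = A) (gB : g • B = B) (gC : g • C = C) (hAB : A ≠ B) (hAC : A ≠ C) (hBC : B ≠ C) :
    SubPl {p : P | g • p = p} {l : L | g • l = l} := by
  obtain ⟨X, t, s, ht, hs, h1, h2, h3⟩ := c.exists_pole hA hB hAB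
  have hts : t ≠ s := by
    rintro rfl
    exact hAB (hs.only A hA ht.on)
  have gX : g • X = X := c.fix_meet hts (c.fix_tan gA ht) (c.fix_tan gB hs) h1 h2
  have key : ∀ (D E : P) (u : L), D ∈ O → E ∈ O → Tan O D u → X ∈ u → D ≠ E → NonCol L D E X := by
    intro D E u hD hE hu hXu hDE l a1 a2 a3
    have h4 : l ≠ u := by
      rintro rfl
      exact hDE (hu.only E hE a2).symm
    have h5 : X = D := point_uniq h4 a3 hXu a1 hu.on
    rw [h5] at h3
    exact h3 hD
  exact c.subPl ⟨A, B, C, X, gA, gB, gC, gX,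
    fun l a1 a2 a3 => by
      rcases c.oval.arc l A hA B hB C hC a1 a2 a3 with e | e | e
      · exact hAB e
      · exact hAC e
      · exact hBC e,
    key A B t hA hB ht h1 hAB, key A C t hA hC ht h1 hAC, key B C s hB hC hs h2 hBC⟩

theorem card_oval {g : G} (hS : SubPl {p : P | g • p = p} {l : L | g • l = l}) {A : P}
    (hA : A ∈ O) (gA : g • A = A) : nf O g = hS.ord + 1 := by
  classical
  obtain ⟨t, ht⟩ := c.oval.exists_tan hA
  have gt : g • t = t := c.fix_tan gA ht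
  have a1 := card_ne (fun Q : P => Q ∈ O ∧ g • Q = Q) (x := A) ⟨hA, gA⟩
  have a2 := card_ne (fun l : L => l ∈ {l : L | g • l = l} ∧ A ∈ l) (x := t) ⟨gt, ht.on⟩
  rw [hS.card_thru (show A ∈ {p : P | g • p = p} from gA)] at a2
  have e : Nat.card {y : P // (y ∈ O ∧ g • y = y) ∧ y ≠ A} =
      Nat.card {y : L // (y ∈ {l : L | g • l = l} ∧ A ∈ y) ∧ y ≠ t} := by
    have h1 : ∀ Q : {y : P // (y ∈ O ∧ g • y = y) ∧ y ≠ A},
        ∃ l : {y : L // (y ∈ {l : L | g • l = l} ∧ A ∈ y) ∧ y ≠ t}, Q.1 ∈ l.1 := by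
      rintro ⟨Q, ⟨hQ, gQ⟩, hQA⟩
      obtain ⟨l, h1, h2⟩ := exists_join (L := L) hQA
      refine ⟨⟨l, ⟨c.fix_join hQA gQ gA h1 h2, h2⟩, ?_⟩, h1⟩
      rintro rfl
      exact hQA (ht.only Q hQ h1)
    choose f hf using h1
    refine Nat.card_eq_of_bijective f ⟨?_, ?_⟩
    · rintro ⟨Q, ⟨hQ, gQ⟩, hQA⟩ ⟨R, ⟨hR, gR⟩, hRA⟩ e
      have h3 := hf ⟨Q, ⟨hQ, gQ⟩, hQA⟩
      have h4 := hf ⟨R, ⟨hR, gR⟩, hRA⟩
      rw [← e] at h4
      rcases c.oval.arc _ Q hQ R hR A hA h3 h4 (f ⟨Q, ⟨hQ, gQ⟩, hQA⟩).2.1.2 with e1 | e1 | e1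
      · exact Subtype.ext e1
      · exact absurd e1 hQA
      · exact absurd e1 hRA
    · rintro ⟨l, ⟨gl, hl⟩, hlt⟩
      obtain ⟨Q, hQ, hQl, hQA⟩ : ∃ Q, Q ∈ O ∧ Q ∈ l ∧ Q ≠ A := by
        by_contra hc
        refine hlt (c.oval.tan_uniq ⟨hA, hl, fun Q hQ hQl => ?_⟩ ht)
        by_contra h3
        exact hc ⟨Q, hQ, hQl, h3⟩
      have gQ : g • Q = Q := by
        have h5 : g • Q ∈ l := c.mem_fix gl hQl
        rcases c.oval.arc l A hA Q hQ (g • Q) (c.inv g Q hQ) hl hQl h5 with e1 | e1 | e1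
        · exact absurd e1.symm hQA
        · exfalso
          apply hQA
          have e2 : g • Q = g • A := by rw [← e1, gA]
          exact MulAction.injective g e2
        · exact e1.symm
      refine ⟨⟨Q, ⟨hQ, gQ⟩, hQA⟩, Subtype.ext ?_⟩
      exact line_uniq hQA (hf ⟨Q, ⟨hQ, gQ⟩, hQA⟩) (f ⟨Q, ⟨hQ, gQ⟩, hQA⟩).2.1.2 hQl hl
  rw [nf]
  omega

theorem faithO {g : G} (hg : ∀ p ∈ O, g • p = p) : g = 1 := by
  have h3 : 3 ≤ Nat.card {p : P // p ∈ O} := by
    rw [c.oval.card]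
    have := c.oval.three_le
    omega
  obtain ⟨A, B, C, hA, hB, hC, hAB, hAC, hBC⟩ := exists_three h3
  have hS := c.subPl_of_three hA hB hC (hg A hA) (hg B hB) (hg C hC) hAB hAC hBC
  have h4 := c.card_oval hS hA (hg A hA)
  have h5 : nf O g = Nat.card {p : P // p ∈ O} :=
    Nat.card_congr (Equiv.subtypeEquivRight fun p => ⟨fun h => h.1, fun h => ⟨h, hg p h⟩⟩)
  rw [h5, c.oval.card] at h4
  have h6 : hS.ord = ProjectivePlane.order P L := by omega
  have h7 := hS.card_A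
  rw [h6, ← card_pts P L] at h7
  refine c.faith g fun p => ?_
  have h8 : Function.Injective (Subtype.val : {p : P | g • p = p} → P) := Subtype.val_injective
  obtain ⟨⟨q, hq⟩, e⟩ := (h8.bijective_of_nat_card_le (by rw [h7])).2 p
  rw [← e]
  exact hq

/-- the number of fixed points on the oval is even if there are at least two -/
theorem even_fix {g : G} {A B : P} (hA : A ∈ O) (hB : B ∈ O) (hAB : A ≠ B) (gA : g • A = A)
    (gB : g • B = B) : nf O g % 2 = 0 := by
  classical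
  obtain ⟨X, t, s, ht, hs, h1, h2, h3⟩ := c.exists_pole hA hB hAB
  have hts : t ≠ s := by
    rintro rfl
    exact hAB (hs.only A hA ht.on)
  have gX : g • X = X := c.fix_meet hts (c.fix_tan gA ht) (c.fix_tan gB hs) h1 h2
  obtain ⟨f, f1, f2, f3, f4, f5⟩ := c.oval.exists_proj h3
  have hne : ∀ Q ∈ O, X ≠ Q := by
    rintro Q hQ rfl
    exact h3 hQ
  have f6 : ∀ Q, Q ∈ O → g • Q = Q → g • f Q = f Q := by
    intro Q hQ gQ
    obtain ⟨l, hXl, hQl⟩ := exists_join (L := L) (hne Q hQ)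
    have gl : g • l = l := c.fix_join (hne Q hQ) gX gQ hXl hQl
    have h5 : g • f Q ∈ l := c.mem_fix gl (f5 Q hQ l hXl hQl)
    rcases f4 Q hQ (g • f Q) (c.inv g _ (f1 Q hQ)) l hXl hQl h5 with e | e
    · have e2 : g • f Q = g • Q := by rw [e, gQ]
      have e3 : f Q = Q := MulAction.injective g e2
      rw [e3, gQ]
    · exact e
  have h6 := card_fix_two
    (fun Q : {Q : P // Q ∈ O ∧ g • Q = Q} =>
      (⟨f Q.1, f1 Q.1 Q.2.1, f6 Q.1 Q.2.1 Q.2.2⟩ : {Q : P // Q ∈ O ∧ g • Q = Q}))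
    (fun Q => Subtype.ext (f2 Q.1 Q.2.1))
  have h7 : Nat.card {x : {Q : P // Q ∈ O ∧ g • Q = Q} //
      (⟨f x.1, f1 x.1 x.2.1, f6 x.1 x.2.1 x.2.2⟩ : {Q : P // Q ∈ O ∧ g • Q = Q}) = x} = 2 := by
    have e : {x : {Q : P // Q ∈ O ∧ g • Q = Q} //
      (⟨f x.1, f1 x.1 x.2.1, f6 x.1 x.2.1 x.2.2⟩ : {Q : P // Q ∈ O ∧ g • Q = Q}) = x} ≃
        ({A, B} : Set P) :=
      { toFun := fun x => ⟨x.1.1, by
          have e1 : f x.1.1 = x.1.1 := congrArg Subtype.val x.2
          obtain ⟨r, hr, hXr⟩ := (f3 x.1.1 x.1.2.1).1 e1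
          rcases c.oval.qvist h3 ht hs hr h1 h2 hXr with e2 | e2 | e2
          · exact absurd e2 hAB
          · exact Or.inl e2.symm
          · exact Or.inr e2.symm⟩
        invFun := fun y => ⟨⟨y.1, by
            rcases y.2 with e | e
            · have e' : y.1 = A := e
              exact ⟨by rw [e']; exact hA, by rw [e']; exact gA⟩
            · have e' : y.1 = B := e
              exact ⟨by rw [e']; exact hB, by rw [e']; exact gB⟩⟩, Subtype.ext (by
            rcases y.2 with e | e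
            · have e' : y.1 = A := e
              change f y.1 = y.1
              rw [e']
              exact (f3 A hA).2 ⟨t, ht, h1⟩
            · have e' : y.1 = B := e
              change f y.1 = y.1
              rw [e']
              exact (f3 B hB).2 ⟨s, hs, h2⟩)⟩
        left_inv := fun x => rfl
        right_inv := fun x => rfl }
    rw [Nat.card_congr e, Nat.card_coe_set_eq, Set.ncard_pair hAB]
  rw [h7] at h6
  unfold Nat.ModEq at h6
  rw [nf]
  omega

end Ctx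

end Cfsg.Agent.H901.Ov
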