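import Cfsg.Agent.H901.OvSign

/-!
# Configurations that are impossible when all involutions are homologies (helper901)
-/

set_option autoImplicit false
set_option linter.unusedSectionVars false

namespace Cfsg.Agent.H901.Ov

open Configuration

variable {G P L : Type*} [Membership P L] [ProjectivePlane P L] [Finite P] [Finite L] [Group G]
  [MulAction G P] [MulAction G L] {O : Set P}

theorem iter_smul {G α : Type*} [Group G] [MulAction G α] (g : G) (n : ℕ) (x : α) :
    (fun y : α => g • y)^[n] x = g ^ n • x := by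
  induction n generalizing x with
  | zero => simp
  | succ n ih => rw [Function.iterate_succ_apply, ih, pow_succ, mul_smul]

/-- all involutions are homologies; the two cases `n ≡ 3`, `n ≡ 1 (mod 4)` -/
def AllHom (G L : Type*) {P : Type*} [Membership P L] [ProjectivePlane P L] [Group G]
    [MulAction G P] [MulAction G L] (O : Set P) : Prop :=
  (ProjectivePlane.order P L % 4 = 3 ∧ ∀ g : G, g * g = 1 → g ≠ 1 → nf O g = 0 ∧ IsHom L P g) ∨
  (ProjectivePlane.order P L % 4 = 1 ∧ ∀ g : G, g * g = 1 → g ≠ 1 → nf O g = 2 ∧ IsHom L P g)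

theorem AllHom.hom (h : AllHom G L O) {g : G} (hg : g * g = 1) (hg1 : g ≠ 1) : IsHom L P g := by
  rcases h with h | h
  · exact (h.2 g hg hg1).2
  · exact (h.2 g hg hg1).2

theorem odd_pow_ne {G : Type*} [Group G] {g : G} {p : ℕ} (hp : p.Prime) (hp2 : p ≠ 2)
    (hg : orderOf g = p) : g ≠ g⁻¹ := by
  intro h
  have h1 : g ^ 2 = 1 := by
    rw [pow_two]
    nth_rw 2 [h]
    exact mul_inv_cancel g
  have h2 : p ∣ 2 := by
    rw [← hg]
    exact orderOf_dvd_of_pow_eq_one h1
  exact hp2 ((Nat.prime_dvd_prime_iff_eq hp Nat.prime_two).1 h2)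

/-- (P') -/
theorem Ctx.false_of_sub (c : Ctx G L O) {g s : G} (hs : s * s = 1) (hsH : IsHom L P s)
    (hsg : s * g * s⁻¹ = g⁻¹) (hg : g ≠ g⁻¹)
    (hS : SubPl {p : P | g • p = p} {l : L | g • l = l}) (hodd : Odd hS.ord) : False := by
  obtain ⟨C, l, hC⟩ := hsH
  have h1 := c.centre_mem hs hC (fun p hp => inv_fix hsg hp) (fun l hl => inv_fix hsg hl) hS hodd
  have h2 := (hC.comm_iff c g).2 h1
  rw [← h2, mul_inv_cancel_right] at hsg
  exact hg hsg

/-- (P) an element inverted by an involutory homology fixes at most two points of the oval -/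
theorem Ctx.nf_le_two (c : Ctx G L O) {g s : G} (hs : s * s = 1) (hsH : IsHom L P s)
    (hsg : s * g * s⁻¹ = g⁻¹) (hg : g ≠ g⁻¹) : nf O g ≤ 2 := by
  by_contra h
  obtain ⟨x, y, z, hx, hy, hz, hxy, hxz, hyz⟩ := exists_three (α := P)
    (Q := fun y => y ∈ O ∧ g • y = y) (by
      have : 2 < nf O g := by omega
      exact this)
  have hS := c.subPl_of_three hx.1 hy.1 hz.1 hx.2 hy.2 hz.2 hxy hxz hyz
  have h1 := c.card_oval hS hx.1 hx.2
  have h2 := c.even_fix hx.1 hy.1 hxy hx.2 hy.2
  refine c.false_of_sub hs hsH hsg hg hS ?_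
  rw [Nat.odd_iff]
  omega

/-- (B) -/
theorem Ctx.false_of_two (c : Ctx G L O) {g s s₁ s₂ : G} {p : ℕ} (hp : p.Prime) (hp2 : p ≠ 2)
    (hg : orderOf g = p) (hn : nf O g = 0) (hs : s * s = 1) (hsH : IsHom L P s)
    (hsg : s * g * s⁻¹ = g⁻¹) (h1 : s₁ * s₁ = 1) (h1H : IsHom L P s₁) (hg1 : g * s₁ = s₁ * g)
    (h2H : IsHom L P s₂) (hg2 : g * s₂ = s₂ * g) (hne : s₁ ≠ s₂) : False := by
  have hgg := odd_pow_ne hp hp2 hg
  have hpow : ∀ {α : Type _} [MulAction G α] (x : α), (fun y : α => g • y)^[p] x = x := by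
    intro α _ x
    rw [iter_smul, ← hg, pow_orderOf_eq_one, one_smul]
  have hmod : ProjectivePlane.order P L + 1 ≡ 0 [MOD p] := by
    have h3 := card_fix_mod_sub hp (fun y : P => g • y) hpow (fun y => y ∈ O) (fun y hy => c.inv g y hy)
    rw [c.oval.card] at h3
    rw [← hn]
    exact h3
  obtain ⟨C, l, hC⟩ := h1H
  obtain ⟨D, k, hD⟩ := h2H
  have gC : g • C = C := (hC.comm_iff c g).1 hg1
  have gD : g • D = D := (hD.comm_iff c g).1 hg2
  have hCD : C ≠ D := by
    rintro rfl
    exact hne (hC.uniq c hD)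
  have axis : ∀ {C : P} {l : L} {s : G}, Hom s C l → g * s = s * g → g • C = C → g • l = l := by
    intro C l s hC hgs gC
    have h3 := hC.conj c g
    rw [hgs, mul_inv_cancel_right, gC] at h3
    obtain ⟨u, v, huv, hu, hv⟩ := Hom.exists_two l P
    have h4 : u ∈ g • l := ((h3.fix u).1 (hC.fix_on hu)).resolve_left (by
      rintro rfl
      exact hC.nmem hu)
    have h5 : v ∈ g • l := ((h3.fix v).1 (hC.fix_on hv)).resolve_left (by
      rintro rfl
      exact hC.nmem hv)
    exact line_uniq huv h4 h5 hu hv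
  have gl : g • l = l := axis hC hg1 gC
  have gk : g • k = k := axis hD hg2 gD
  -- many fixed points on a fixed axis
  have many : ∀ {C D : P} {l : L}, g • C = C → g • D = D → C ≠ D → C ∉ l → g • l = l →
      ∃ u v w : P, u ≠ v ∧ u ≠ w ∧ v ≠ w ∧ u ∈ l ∧ v ∈ l ∧ w ∈ l ∧ g • u = u ∧ g • v = v ∧
        g • w = w := by
    intro C D l gC gD hCD hCl gl
    obtain ⟨r, hr1, hr2⟩ := exists_join (L := L) hCD
    have hrl : r ≠ l := by
      rintro rfl
      exact hCl hr1
    obtain ⟨X, hX1, hX2⟩ := exists_meet (P := P) hrl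
    have gX : g • X = X := c.fix_meet hrl (c.fix_join hCD gC gD hr1 hr2) gl hX1 hX2
    have h3 := card_fix_mod_sub hp (fun y : P => g • y) hpow (fun y => y ∈ l)
      (fun y hy => c.mem_fix gl hy)
    rw [Ov.card_on] at h3
    have h4 : Nat.card {y : P // y ∈ l ∧ g • y = y} ≡ 0 [MOD p] := h3.symm.trans hmod
    have h5 : 0 < Nat.card {y : P // y ∈ l ∧ g • y = y} := by
      have : Nonempty {y : P // y ∈ l ∧ g • y = y} := ⟨⟨X, hX2, gX⟩⟩
      exact Nat.card_pos
    have h6 : p ≤ Nat.card {y : P // y ∈ l ∧ g • y = y} :=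
      Nat.le_of_dvd h5 ((Nat.modEq_zero_iff_dvd).1 h4)
    have h7 : 3 ≤ p := by
      have := hp.two_le
      omega
    obtain ⟨u, v, w, hu, hv, hw, huv, huw, hvw⟩ := exists_three (α := P)
      (Q := fun y => y ∈ l ∧ g • y = y) (h7.trans h6)
    exact ⟨u, v, w, huv, huw, hvw, hu.1, hv.1, hw.1, hu.2, hv.2, hw.2⟩
  obtain ⟨u, v, w, huv, huw, hvw, hu, hv, hw, gu, gv, gw⟩ := many gC gD hCD hC.nmem gl
  -- a fixed point off `l`, different from `C`
  obtain ⟨W, hWl, hWC, gW⟩ : ∃ W : P, W ∉ l ∧ W ≠ C ∧ g • W = W := by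
    by_cases hDl : D ∈ l
    · obtain ⟨u', v', w', huv', huw', hvw', hu', hv', hw', gu', gv', gw'⟩ :=
        many gD gC hCD.symm hD.nmem gk
      have hkl : k ≠ l := by
        rintro rfl
        exact hD.nmem hDl
      -- one of the three is neither on `l` nor `C`
      by_contra hcon
      have hcon' : ∀ W, g • W = W → W ∈ l ∨ W = C := by
        intro W gW
        by_contra h3
        rw [not_or] at h3
        exact hcon ⟨W, h3.1, h3.2, gW⟩
      have hm : ∀ x y : P, x ∈ k → y ∈ k → x ≠ y → x ∈ l → y ∈ l → False :=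
        fun x y a1 a2 a3 a4 a5 => a3 (point_uniq hkl a1 a4 a2 a5)
      rcases hcon' u' gu' with a1 | a1 <;> rcases hcon' v' gv' with a2 | a2 <;>
        rcases hcon' w' gw' with a3 | a3
      · exact hm u' v' hu' hv' huv' a1 a2
      · exact hm u' v' hu' hv' huv' a1 a2
      · exact hm u' w' hu' hw' huw' a1 a3
      · exact hvw' (a2.trans a3.symm)
      · exact hm v' w' hv' hw' hvw' a2 a3
      · exact huw' (a1.trans a3.symm)
      · exact huv' (a1.trans a2.symm)
      · exact huv' (a1.trans a2.symm)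
    · exact ⟨D, hDl, hCD.symm, gD⟩
  obtain ⟨x, y, hx, hy, hQ⟩ := exists_quad huv huw hvw hu hv hw hC.nmem hWl hWC.symm
  have gx : g • x = x := by
    rcases hx with rfl | rfl | rfl <;> assumption
  have gy : g • y = y := by
    rcases hy with rfl | rfl | rfl <;> assumption
  have hS := c.subPl ⟨x, y, C, W, gx, gy, gC, gW, hQ⟩
  -- the order is odd
  have hodd : Odd hS.ord := by
    obtain ⟨r, hr1, hr2⟩ := exists_join (L := L) (p := C) (q := u) (by
      rintro rfl
      exact hC.nmem hu)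
    have hCu : C ≠ u := by
      rintro rfl
      exact hC.nmem hu
    have gr : g • r = r := c.fix_join hCu gC gu hr1 hr2
    have sr : s₁ • r = r := hC.fix_line c hr1
    have hrl : r ≠ l := by
      rintro rfl
      exact hC.nmem hr1
    have h3 := hS.card_on (show r ∈ {l : L | g • l = l} from gr)
    have h4 := card_fix_two_sub (fun y : P => s₁ • y) (fun y => smul_smul_self h1 y)
      (fun y => y ∈ {p : P | g • p = p} ∧ y ∈ r)
      (fun y hy => ⟨comm_fix hg1 hy.1, c.mem_fix sr hy.2⟩)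
    rw [h3] at h4
    have h5 : Nat.card {y : P // (y ∈ {p : P | g • p = p} ∧ y ∈ r) ∧ s₁ • y = y} =
        Nat.card ({C, u} : Set P) := by
      refine Nat.card_congr (Equiv.subtypeEquivRight fun y => ⟨?_, ?_⟩)
      · rintro ⟨⟨a1, a2⟩, a3⟩
        rcases (hC.fix y).1 a3 with e | e
        · exact Or.inl e
        · exact Or.inr (point_uniq hrl a2 e hr2 hu)
      · rintro (e | e)
        · have e' : y = C := e
          subst e'
          exact ⟨⟨gC, hr1⟩, hC.fix_C⟩
        · have e' : y = u := e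
          subst e'
          exact ⟨⟨gu, hr2⟩, hC.fix_on hu⟩
    rw [h5, Nat.card_coe_set_eq, Set.ncard_pair hCu] at h4
    rw [Nat.odd_iff]
    unfold Nat.ModEq at h4
    omega
  exact c.false_of_sub hs hsH hsg hgg hS hodd

/-- moving a fixed point of the oval inside the fixed points of `g` -/
theorem Ctx.fixed_pts (c : Ctx G L O) {g x : G} (hx : ∀ p : P, g • p = p → g • x • p = x • p)
    {A : P} (hA : A ∈ O ∧ g • A = A) : x • A ∈ O ∧ g • (x • A) = x • A :=
  ⟨c.inv x A hA.1, hx A hA.2⟩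

/-- (A) a four-group centralising `g`, which is inverted by an involution -/
theorem Ctx.false_of_A (c : Ctx G L O) (hall : AllHom G L O) {g s e₁ e₂ : G} {p : ℕ}
    (hp : p.Prime) (hp2 : p ≠ 2) (hg : orderOf g = p) (hs : s * s = 1) (hs1 : s ≠ 1)
    (hsg : s * g * s⁻¹ = g⁻¹) (h1 : e₁ * e₁ = 1) (h11 : e₁ ≠ 1) (h2 : e₂ * e₂ = 1) (h21 : e₂ ≠ 1)
    (h12 : e₁ ≠ e₂) (hc : e₁ * e₂ = e₂ * e₁) (hg1 : g * e₁ = e₁ * g) (hg2 : g * e₂ = e₂ * g) :
    False := by
  have hgg := odd_pow_ne hp hp2 hg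
  have hle := c.nf_le_two hs (hall.hom hs hs1) hsg hgg
  rcases Nat.eq_zero_or_pos (nf O g) with h0 | h0
  · exact c.false_of_two hp hp2 hg h0 hs (hall.hom hs hs1) hsg h1 (hall.hom h1 h11) hg1
      (hall.hom h2 h21) hg2 h12
  · -- a fixed point of `g` on the oval
    have hne : Nonempty {Q : P // Q ∈ O ∧ g • Q = Q} := by
      by_contra h6
      rw [not_nonempty_iff] at h6
      have : nf O g = 0 := Nat.card_of_isEmpty
      omega
    have hthree : ∀ x y z : P, (x ∈ O ∧ g • x = x) → (y ∈ O ∧ g • y = y) → (z ∈ O ∧ g • z = z) →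
        x ≠ y → x ≠ z → y ≠ z → False := by
      intro x y z hx hy hz hxy hxz hyz
      have h3 : 3 ≤ nf O g := by
        have hinj : Function.Injective (fun i : Fin 3 =>
            (![⟨x, hx⟩, ⟨y, hy⟩, ⟨z, hz⟩] : Fin 3 → {Q : P // Q ∈ O ∧ g • Q = Q}) i) := by
          intro i j hij
          fin_cases i <;> fin_cases j <;> simp_all
        have := Nat.card_le_card_of_injective _ hinj
        simpa [nf] using this
      omega
    rcases hall with ⟨-, hall⟩ | ⟨-, hall⟩
    · -- involutions fix no point of the oval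
      obtain ⟨A, hA⟩ := hne
      have hmv : ∀ e : G, e * e = 1 → e ≠ 1 → ∀ B ∈ O, e • B ≠ B := by
        intro e he he1 B hB heB
        have h3 := (hall e he he1).1
        have : Nonempty {Q : P // Q ∈ O ∧ e • Q = Q} := ⟨⟨B, hB, heB⟩⟩
        have h4 : 0 < nf O e := Nat.card_pos
        omega
      have h5 : e₁ * e₂ ≠ 1 := by
        intro h
        apply h12
        have : e₁ = e₂⁻¹ := eq_inv_of_mul_eq_one_left h
        rw [this]
        exact inv_eq_of_mul_eq_one_left h2
      have h6 : (e₁ * e₂) * (e₁ * e₂) = 1 := by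
        calc (e₁ * e₂) * (e₁ * e₂) = e₁ * (e₂ * e₁) * e₂ := by group
          _ = e₁ * (e₁ * e₂) * e₂ := by rw [hc]
          _ = (e₁ * e₁) * (e₂ * e₂) := by group
          _ = 1 := by rw [h1, h2, mul_one]
      refine hthree A (e₁ • A) (e₂ • A) hA (c.fixed_pts (fun p hp => comm_fix hg1 hp) hA)
        (c.fixed_pts (fun p hp => comm_fix hg2 hp) hA) (hmv e₁ h1 h11 A hA.1).symm
        (hmv e₂ h2 h21 A hA.1).symm ?_
      intro h7
      apply hmv (e₁ * e₂) h6 h5 A hA.1
      rw [mul_smul, ← h7, smul_smul_self h1]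
    · -- each involution fixes exactly two points of the oval, and `g` fixes them
      have key : ∀ e : G, e * e = 1 → e ≠ 1 → g * e = e * g → ∀ B ∈ O, e • B = B → g • B = B := by
        intro e he he1 hge B hB heB
        have h3 : Nat.card {Q : P // Q ∈ O ∧ e • Q = Q} = 2 := (hall e he he1).1
        -- g permutes a set of two elements and has odd order
        by_contra hgB
        have hB2 : e • (g • B) = g • B := comm_fix hge.symm heB
        -- the number of points in the set fixed by g is ≡ 2 mod p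
        have h4 := card_fix_mod_sub hp (fun y : P => g • y)
          (fun x => by rw [iter_smul, ← hg, pow_orderOf_eq_one, one_smul])
          (fun y => y ∈ O ∧ e • y = y) (fun y hy => ⟨c.inv g y hy.1, comm_fix hge.symm hy.2⟩)
        rw [h3] at h4
        have h5 : Nat.card {y : P // (y ∈ O ∧ e • y = y) ∧ g • y = y} + 1 ≤ 2 := by
          rw [← h3, ← card_ne (fun y => y ∈ O ∧ e • y = y) (x := B) ⟨hB, heB⟩]
          refine Nat.add_le_add_right (Nat.card_le_card_of_injective
            (fun y => (⟨y.1, y.2.1, ?_⟩ : {y : P // (y ∈ O ∧ e • y = y) ∧ y ≠ B})) ?_) 1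
          · intro e1
            have := y.2.2
            rw [e1] at this
            exact hgB this
          · intro x y hxy
            simp only [Subtype.mk.injEq] at hxy
            exact Subtype.ext hxy
        have h6 : 3 ≤ p := by
          have := hp.two_le
          omega
        have h7 : 2 % p = 2 := Nat.mod_eq_of_lt (by omega)
        have h8 : Nat.card {y : P // (y ∈ O ∧ e • y = y) ∧ g • y = y} % p =
            Nat.card {y : P // (y ∈ O ∧ e • y = y) ∧ g • y = y} := Nat.mod_eq_of_lt (by omega)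
        unfold Nat.ModEq at h4
        omega
      -- two fixed points of e₁, one of e₂
      have h3 : Nat.card {Q : P // Q ∈ O ∧ e₁ • Q = Q} = 2 := (hall e₁ h1 h11).1
      have h4 : Nat.card {Q : P // Q ∈ O ∧ e₂ • Q = Q} = 2 := (hall e₂ h2 h21).1
      have := Fintype.ofFinite {Q : P // Q ∈ O ∧ e₁ • Q = Q}
      rw [Nat.card_eq_fintype_card] at h3
      obtain ⟨⟨A, hA⟩, ⟨B, hB⟩, hAB⟩ := Fintype.exists_pair_of_one_lt_card (by omega : 1 < Fintype.card
        {Q : P // Q ∈ O ∧ e₁ • Q = Q})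
      have hne2 : Nonempty {Q : P // Q ∈ O ∧ e₂ • Q = Q} := by
        by_contra h6
        rw [not_nonempty_iff] at h6
        have : Nat.card {Q : P // Q ∈ O ∧ e₂ • Q = Q} = 0 := Nat.card_of_isEmpty
        omega
      obtain ⟨C, hC⟩ := hne2
      obtain ⟨D1, l1, hD1⟩ := (hall e₁ h1 h11).2
      obtain ⟨D2, l2, hD2⟩ := (hall e₂ h2 h21).2
      have hdis : ∀ X : P, X ∈ O → e₁ • X = X → e₂ • X = X → False := fun X hX a1 a2 =>
        h12 (hD1.eq_of_common c hD2 hc (hall e₁ h1 h11).1 hX a1 a2)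
      refine hthree A B C ⟨hA.1, key e₁ h1 h11 hg1 A hA.1 hA.2⟩ ⟨hB.1, key e₁ h1 h11 hg1 B hB.1 hB.2⟩
        ⟨hC.1, key e₂ h2 h21 hg2 C hC.1 hC.2⟩ (fun e => hAB (Subtype.ext e)) ?_ ?_
      · rintro rfl
        exact hdis A hA.1 hA.2 hC.2
      · rintro rfl
        exact hdis B hB.1 hB.2 hC.2

end Cfsg.Agent.H901.Ov
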