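import Cfsg.Agent.H901.OvKill
import Cfsg.Prelude.Def_CaseTheorems

/-!
# More impossible configurations, and the 2-rank (helper901)
-/

set_option autoImplicit false
set_option linter.unusedSectionVars false

namespace Cfsg.Agent.H901.Ov

open Configuration

variable {G P L : Type*} [Membership P L] [ProjectivePlane P L] [Finite P] [Finite L] [Group G]
  [MulAction G P] [MulAction G L] {O : Set P}

theorem mul_inv_of_comm {G : Type*} [Group G] {x y : G} (hx : x * x = 1) (hy : y * y = 1)
    (hc : x * y = y * x) : (x * y) * (x * y) = 1 := by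
  calc (x * y) * (x * y) = x * (y * x) * y := by group
    _ = x * (x * y) * y := by rw [hc]
    _ = (x * x) * (y * y) := by group
    _ = 1 := by rw [hx, hy, mul_one]

theorem mul_ne_one_of {G : Type*} [Group G] {x y : G} (hy : y * y = 1) (hne : x ≠ y) :
    x * y ≠ 1 := by
  intro h
  apply hne
  have : x = y⁻¹ := eq_inv_of_mul_eq_one_left h
  rw [this]
  exact inv_eq_of_mul_eq_one_left hy

theorem two_pts {g : G} (h : nf O g = 2) : ∃ A B : P, A ≠ B ∧ A ∈ O ∧ B ∈ O ∧ g • A = A ∧
    g • B = B ∧ ∀ X ∈ O, g • X = X → X = A ∨ X = B := by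
  have := Fintype.ofFinite {Q : P // Q ∈ O ∧ g • Q = Q}
  rw [nf, Nat.card_eq_fintype_card] at h
  obtain ⟨⟨A, hA⟩, ⟨B, hB⟩, hAB⟩ := Fintype.exists_pair_of_one_lt_card (by omega : 1 < Fintype.card
    {Q : P // Q ∈ O ∧ g • Q = Q})
  have hAB' : A ≠ B := fun e => hAB (Subtype.ext e)
  refine ⟨A, B, hAB', hA.1, hB.1, hA.2, hB.2, fun X hX gX => ?_⟩
  by_contra hc
  rw [not_or] at hc
  have hinj : Function.Injective (fun i : Fin 3 =>
      (![⟨A, hA⟩, ⟨B, hB⟩, ⟨X, hX, gX⟩] : Fin 3 → {Q : P // Q ∈ O ∧ g • Q = Q}) i) := by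
    intro i j hij
    have h1 := hc.1
    have h2 := hc.2
    fin_cases i <;> fin_cases j <;> simp_all
  have h3 := Fintype.card_le_of_injective _ hinj
  rw [Fintype.card_fin] at h3
  omega

/-- two homologies with the same two fixed points on the oval are equal -/
theorem Hom.eq_of_two (c : Ctx G L O) {g h : G} {C D : P} {l k : L} (hg : Hom g C l)
    (hh : Hom h D k) {A B : P} (hAB : A ≠ B) (hA : A ∈ O) (hB : B ∈ O) (gA : g • A = A)
    (gB : g • B = B) (hhA : h • A = A) (hhB : h • B = B) : g = h := by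
  obtain ⟨t, ht, hCt⟩ := (hg.fix_iff c hA).1 gA
  obtain ⟨s, hs, hCs⟩ := (hg.fix_iff c hB).1 gB
  obtain ⟨t', ht', hDt⟩ := (hh.fix_iff c hA).1 hhA
  obtain ⟨s', hs', hDs⟩ := (hh.fix_iff c hB).1 hhB
  have e1 : t' = t := c.oval.tan_uniq ht' ht
  have e2 : s' = s := c.oval.tan_uniq hs' hs
  subst e1
  subst e2
  have hts : t' ≠ s' := by
    rintro rfl
    exact hAB (ht.only B hB hs.on).symm
  have e : C = D := point_uniq hts hCt hCs hDt hDs
  subst e
  exact hg.uniq c hh

/-- (Z) -/
theorem Ctx.false_of_Z (c : Ctx G L O) (hall : AllHom G L O) {g e₁ e₂ s₂ : G} {p : ℕ}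
    (hp : p.Prime) (hp2 : p ≠ 2) (hg : orderOf g = p) (h1 : e₁ * e₁ = 1) (h2 : e₂ * e₂ = 1)
    (h21 : e₂ ≠ 1) (hs : s₂ * s₂ = 1) (hg1 : g * e₁ = e₁ * g) (hgs : g * s₂ = s₂ * g)
    (hg2 : e₂ * g * e₂⁻¹ = g⁻¹) (hc : e₁ * e₂ = e₂ * e₁) (hne : s₂ * e₁ ≠ e₁ * s₂) : False := by
  have h11 : e₁ ≠ 1 := by
    rintro rfl
    apply hne
    rw [mul_one, one_mul]
  have hs1 : s₂ ≠ 1 := by
    rintro rfl
    apply hne
    rw [mul_one, one_mul]
  have h12 : e₁ ≠ e₂ := by
    intro e
    have h3 := odd_pow_ne hp hp2 hg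
    rw [← e, ← hg1, mul_inv_cancel_right] at hg2
    exact h3 hg2
  have hes : e₁ ≠ s₂ := by
    rintro rfl
    exact hne rfl
  have hgg := odd_pow_ne hp hp2 hg
  have hle := c.nf_le_two h2 (hall.hom h2 h21) hg2 hgg
  have hthree : ∀ x y z : P, (x ∈ O ∧ g • x = x) → (y ∈ O ∧ g • y = y) → (z ∈ O ∧ g • z = z) →
      x ≠ y → x ≠ z → y ≠ z → False := by
    intro x y z hx hy hz hxy hxz hyz
    have h3 : 3 ≤ nf O g := by
      have hinj : Function.Injective (fun i : Fin 3 =>
          (![⟨x, hx⟩, ⟨y, hy⟩, ⟨z, hz⟩] : Fin 3 → {Q : P // Q ∈ O ∧ g • Q = Q}) i) := by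
        intro i j hij
        fin_cases i <;> fin_cases j <;> simp_all
      have := Nat.card_le_card_of_injective _ hinj
      simpa [nf] using this
    omega
  rcases Nat.eq_zero_or_pos (nf O g) with h0 | h0
  · exact c.false_of_two hp hp2 hg h0 h2 (hall.hom h2 h21) hg2 h1 (hall.hom h1 h11) hg1
      (hall.hom hs hs1) hgs hes
  · have hne' : Nonempty {Q : P // Q ∈ O ∧ g • Q = Q} := by
      by_contra h6
      rw [not_nonempty_iff] at h6
      have : nf O g = 0 := Nat.card_of_isEmpty
      omega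
    obtain ⟨A, hA⟩ := hne'
    have a1 := c.fixed_pts (g := g) (x := e₁) (fun p hp => comm_fix hg1 hp) hA
    have a2 := c.fixed_pts (g := g) (x := e₂) (fun p hp => inv_fix hg2 hp) hA
    have h5 := mul_ne_one_of h2 h12
    have h6 := mul_inv_of_comm h1 h2 hc
    -- one of the three involutions fixes `A`
    have h7 : e₁ • A = A ∨ e₂ • A = A ∨ (e₁ * e₂) • A = A := by
      by_contra hcon
      rw [not_or, not_or] at hcon
      refine hthree A (e₁ • A) (e₂ • A) hA a1 a2 (Ne.symm hcon.1) (Ne.symm hcon.2.1) ?_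
      intro h7
      apply hcon.2.2
      rw [mul_smul, ← h7, smul_smul_self h1]
    rcases hall with ⟨-, hall⟩ | ⟨-, hall⟩
    · have hmv : ∀ e : G, e * e = 1 → e ≠ 1 → e • A ≠ A := by
        intro e he he1 heB
        have h3 := (hall e he he1).1
        have : Nonempty {Q : P // Q ∈ O ∧ e • Q = Q} := ⟨⟨A, hA.1, heB⟩⟩
        have h4 : 0 < nf O e := Nat.card_pos
        omega
      rcases h7 with h7 | h7 | h7
      · exact hmv e₁ h1 h11 h7
      · exact hmv e₂ h2 h21 h7
      · exact hmv (e₁ * e₂) h6 h5 h7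
    · obtain ⟨D1, l1, hD1⟩ := (hall e₁ h1 h11).2
      obtain ⟨D2, l2, hD2⟩ := (hall e₂ h2 h21).2
      -- a second fixed point of `g`
      obtain ⟨B, hB, hBA⟩ : ∃ B : P, (B ∈ O ∧ g • B = B) ∧ B ≠ A := by
        by_contra hcon
        have h8 : ∀ B : P, (B ∈ O ∧ g • B = B) → B = A := fun B hB => by
          by_contra h9
          exact hcon ⟨B, hB, h9⟩
        exact h12 (hD1.eq_of_common c hD2 hc (hall e₁ h1 h11).1 hA.1 (h8 _ a1) (h8 _ a2))
      have hpair : ∀ X : P, (X ∈ O ∧ g • X = X) → X = A ∨ X = B := by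
        intro X hX
        by_contra hcon
        rw [not_or] at hcon
        exact hthree X A B hX hA hB hcon.1 hcon.2 hBA.symm
      -- the conclusion for an involution fixing `A`
      have key : ∀ e x : G, e * e = 1 → e ≠ 1 → e • A = A →
          (∀ p : P, g • p = p → g • e • p = e • p) → (∀ p : P, g • p = p → g • x • p = x • p) →
          (∀ p : P, g • p = p → g • x⁻¹ • p = x⁻¹ • p) → x * e = e * x := by
        intro e x he he1 heA heg hxg hxg'
        have heB : e • B = B := by
          rcases hpair (e • B) (c.fixed_pts heg hB) with h8 | h8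
          · exfalso
            apply hBA
            have : e • B = e • A := by rw [h8, heA]
            exact MulAction.injective e this
          · exact h8
        obtain ⟨E, r, hE⟩ := (hall e he he1).2
        have hE' := hE.conj c x
        have hfix : ∀ X : P, (X ∈ O ∧ g • X = X) → (x * e * x⁻¹) • X = X := by
          intro X hX
          have h8 : e • (x⁻¹ • X) = x⁻¹ • X := by
            rcases hpair (x⁻¹ • X) (c.fixed_pts hxg' hX) with h9 | h9
            · rw [h9, heA]
            · rw [h9, heB]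
          rw [mul_smul, mul_smul, h8, smul_inv_smul]
        have h8 := hE'.eq_of_two c hE hBA hB.1 hA.1 (hfix B hB) (hfix A hA) heB heA
        rw [mul_inv_eq_iff_eq_mul] at h8
        exact h8
      have ginv : ∀ p : P, g • p = p → g • g⁻¹ • p = g⁻¹ • p := by
        intro p hp
        rw [smul_inv_smul, eq_inv_smul_iff, hp]
      have gg : ∀ p : P, g • p = p → g • g • p = g • p := by
        intro p hp
        rw [hp, hp]
      have s2i : s₂⁻¹ = s₂ := inv_eq_of_mul_eq_one_left hs
      rcases h7 with h7 | h7 | h7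
      · exact hne (key e₁ s₂ h1 h11 h7 (fun p hp => comm_fix hg1 hp) (fun p hp => comm_fix hgs hp)
          (fun p hp => by rw [s2i]; exact comm_fix hgs hp))
      · have h8 := key e₂ g h2 h21 h7 (fun p hp => inv_fix hg2 hp) gg ginv
        rw [← h8, mul_inv_cancel_right] at hg2
        exact hgg hg2
      · have hg12 : (e₁ * e₂) * g * (e₁ * e₂)⁻¹ = g⁻¹ := by
          have : (e₁ * e₂) * g * (e₁ * e₂)⁻¹ = e₁ * (e₂ * g * e₂⁻¹) * e₁⁻¹ := by group
          rw [this, hg2]
          have h9 : e₁ * g⁻¹ = g⁻¹ * e₁ := by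
            have h10 : g⁻¹ * (g * e₁) * g⁻¹ = g⁻¹ * (e₁ * g) * g⁻¹ := by rw [hg1]
            have h11 : g⁻¹ * (g * e₁) * g⁻¹ = e₁ * g⁻¹ := by group
            have h12 : g⁻¹ * (e₁ * g) * g⁻¹ = g⁻¹ * e₁ := by group
            rw [h11, h12] at h10
            exact h10
          rw [h9, mul_inv_cancel_right]
        have h8 := key (e₁ * e₂) g h6 h5 h7 (fun p hp => inv_fix hg12 hp) gg ginv
        rw [← h8, mul_inv_cancel_right] at hg12
        exact hgg hg12

/-- (W) an element of order four commutes with no involution except its square -/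
theorem Ctx.false_of_W (c : Ctx G L O) (hall : AllHom G L O) {u s : G} (hu4 : (u * u) * (u * u) = 1)
    (hu2 : u * u ≠ 1) (hs : s * s = 1) (hs1 : s ≠ 1) (hc : u * s = s * u) (hne : s ≠ u * u) :
    False := by
  classical
  have hts : (u * u) * s = s * (u * u) := by
    rw [mul_assoc, hc, ← mul_assoc, hc, mul_assoc]
  rcases hall with ⟨h3, hall⟩ | ⟨-, hall⟩
  · -- lines through the centre of `s`
    obtain ⟨C, l, hC⟩ := (hall (u * u) hu4 hu2).2
    obtain ⟨X, k, hX⟩ := (hall s hs hs1).2
    obtain ⟨hXl, hCk, hlk, hCX⟩ := hC.two c hX hts (Ne.symm hne)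
    have uX : u • X = X := (hX.comm_iff c u).1 hc
    obtain ⟨r, hr1, hr2⟩ := exists_join (L := L) hCX
    have hrl : r ≠ l := by
      rintro rfl
      exact hC.nmem hr1
    have uX' : u⁻¹ • X = X := by rw [inv_smul_eq_iff, uX]
    have hmem : ∀ (x : G), x • X = X → ∀ m : L, X ∈ m → X ∈ x • m := by
      intro x hx m hm
      have := (c.coll x X m).2 hm
      rwa [hx] at this
    let σ : Equiv.Perm {m : L // X ∈ m} :=
      { toFun := fun m => ⟨u • m.1, hmem u uX m.1 m.2⟩
        invFun := fun m => ⟨u⁻¹ • m.1, hmem u⁻¹ uX' m.1 m.2⟩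
        left_inv := fun m => Subtype.ext (inv_smul_smul u m.1)
        right_inv := fun m => Subtype.ext (smul_inv_smul u m.1) }
    have := Fintype.ofFinite {m : L // X ∈ m}
    have hσ : (σ * σ) * (σ * σ) = 1 := by
      ext m
      change u • u • u • u • m.1 = m.1
      rw [← mul_smul, ← mul_smul, ← mul_smul]
      have : u * u * u * u = 1 := by rw [← hu4]; group
      rw [this, one_smul]
    have h4 := card_fix_mod_four (σ * σ) hσ (by
      rw [map_mul]
      exact Int.units_mul_self _)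
    rw [Ov.card_thru] at h4
    have h5 : Nat.card {m : {m : L // X ∈ m} // (σ * σ) m = m} = Nat.card ({l, r} : Set L) := by
      refine Nat.card_congr
        { toFun := fun m => ⟨m.1.1, ?_⟩
          invFun := fun m => ⟨⟨m.1, ?_⟩, ?_⟩
          left_inv := fun _ => rfl
          right_inv := fun _ => rfl }
      · have h6 : (u * u) • m.1.1 = m.1.1 := by
          rw [mul_smul]
          exact congrArg Subtype.val m.2
        rcases hC.line_cases c h6 with e | e
        · exact Or.inl e
        · exact Or.inr (line_uniq hCX e m.1.2 hr1 hr2)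
      · rcases m.2 with e | e
        · have e' : m.1 = l := e
          rw [e']
          exact hXl
        · have e' : m.1 = r := e
          rw [e']
          exact hr2
      · apply Subtype.ext
        change u • u • m.1 = m.1
        rw [← mul_smul]
        rcases m.2 with e | e
        · have e' : m.1 = l := e
          rw [e']
          exact hC.fix_axis c
        · have e' : m.1 = r := e
          rw [e']
          exact hC.fix_line c hr1
    rw [h5, Nat.card_coe_set_eq, Set.ncard_pair hrl.symm] at h4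
    omega
  · obtain ⟨A, B, hAB, hA, hB, sA, sB, hpair⟩ := two_pts (hall s hs hs1).1
    obtain ⟨C, l, hC⟩ := (hall (u * u) hu4 hu2).2
    obtain ⟨X, k, hX⟩ := (hall s hs hs1).2
    have h5 : (u * u) • A = A := by
      rw [mul_smul]
      rcases hpair (u • A) (c.inv u A hA) (comm_fix hc.symm sA) with e | e
      · rw [e, e]
      · rcases hpair (u • B) (c.inv u B hB) (comm_fix hc.symm sB) with e1 | e1
        · rw [e, e1]
        · exfalso
          apply hAB
          have : u • A = u • B := by rw [e, e1]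
          exact MulAction.injective u this
    exact hne (hC.eq_of_common c hX hts (hall (u * u) hu4 hu2).1 hA h5 sA).symm

/-- three commuting homologies -/
theorem Ctx.third (c : Ctx G L O) {x y z : G} (hx2 : x * x = 1) (hx1 : x ≠ 1) (hy2 : y * y = 1)
    (hy1 : y ≠ 1) (hxy : x * y = y * x) (hxz : x * z = z * x) (hyz : y * z = z * y) (hne : x ≠ y)
    (hx : IsHom L P x) (hy : IsHom L P y) (hz : IsHom L P z) : z = x ∨ z = y ∨ z = x * y := by
  obtain ⟨C, l, hC⟩ := hx
  obtain ⟨D, k, hD⟩ := hy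
  obtain ⟨F, m, hF⟩ := hz
  obtain ⟨E, r, hE⟩ := c.hom_mul hx2 hy2 hxy hne hC hD
  obtain ⟨hDl, hCk, hlk, hCD⟩ := hC.two c hD hxy hne
  have key : ∀ (E : P), x • E = E → y • E = E → E ≠ C → E ≠ D → E ∈ l ∧ E ∈ k := by
    intro E h1 h2 h3 h4
    exact ⟨((hC.fix E).1 h1).resolve_left h3, ((hD.fix E).1 h2).resolve_left h4⟩
  by_contra hcon
  rw [not_or, not_or] at hcon
  obtain ⟨h1, h2, h3⟩ := hcon
  have hFC : F ≠ C := by
    rintro rfl
    exact h1 (hF.uniq c hC)
  have hFD : F ≠ D := by
    rintro rfl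
    exact h2 (hF.uniq c hD)
  have hEC : E ≠ C := by
    rintro rfl
    have := hE.uniq c hC
    exact hy1 (mul_eq_left.1 this)
  have hED : E ≠ D := by
    rintro rfl
    have := hE.uniq c hD
    exact hx1 (mul_eq_right.1 this)
  have h4 := key F ((hF.comm_iff c x).1 hxz) ((hF.comm_iff c y).1 hyz) hFC hFD
  have h5 := key E ((hE.comm_iff c x).1 (by rw [mul_assoc, ← hxy]))
    ((hE.comm_iff c y).1 (by rw [← mul_assoc, ← hxy])) hEC hED
  have h6 : F = E := point_uniq hlk h4.1 h4.2 h5.1 h5.2
  subst h6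
  exact h3 (hF.uniq c hE)

/-- at most four commuting homologies (with the identity) -/
theorem Ctx.card_le_four (c : Ctx G L O) (S : Set G) (_hfin : S.Finite)
    (h2 : ∀ x ∈ S, x * x = 1) (hcomm : ∀ x ∈ S, ∀ y ∈ S, x * y = y * x)
    (hhom : ∀ x ∈ S, x ≠ 1 → IsHom L P x) : S.ncard ≤ 4 := by
  classical
  by_cases hex : ∃ x ∈ S, x ≠ 1 ∧ ∃ y ∈ S, y ≠ 1 ∧ x ≠ y
  · obtain ⟨x, hx, hx1, y, hy, hy1, hxy⟩ := hex
    have hsub : S ⊆ ((({1, x, y, x * y} : Finset G) : Finset G) : Set G) := by
      intro z hz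
      by_cases hz1 : z = 1
      · simp [hz1]
      · rcases c.third (h2 x hx) hx1 (h2 y hy) hy1 (hcomm x hx y hy) (hcomm x hx z hz)
          (hcomm y hy z hz) hxy (hhom x hx hx1) (hhom y hy hy1) (hhom z hz hz1) with e | e | e <;>
          simp [e]
    have h3 := Set.ncard_le_ncard hsub (Finset.finite_toSet _)
    rw [Set.ncard_coe_finset] at h3
    exact h3.trans (Finset.card_le_four)
  · have h3 : ∃ x : G, S ⊆ ((({1, x} : Finset G) : Finset G) : Set G) := by
      by_cases hx : ∃ x ∈ S, x ≠ 1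
      · obtain ⟨x, hx, hx1⟩ := hx
        refine ⟨x, fun y hy => ?_⟩
        by_cases hy1 : y = 1
        · simp [hy1]
        · have : x = y := by
            by_contra h4
            exact hex ⟨x, hx, hx1, y, hy, hy1, h4⟩
          simp [this]
      · refine ⟨1, fun y hy => ?_⟩
        have : y = 1 := by
          by_contra h4
          exact hx ⟨y, hy, h4⟩
        simp [this]
    obtain ⟨x, hx⟩ := h3
    have h4 := Set.ncard_le_ncard hx (Finset.finite_toSet _)
    rw [Set.ncard_coe_finset] at h4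
    have h5 : ({1, x} : Finset G).card ≤ 2 := Finset.card_le_two
    omega

theorem Ctx.rank_two (c : Ctx G L O) [Finite G] (hall : AllHom G L O) : Cfsg.PRankLE 2 2 G := by
  intro A hA h2
  have h3 := c.card_le_four (A : Set G) (Set.toFinite _)
    (fun x hx => by have := h2 x hx; rwa [pow_two] at this)
    (fun x hx y hy => congrArg Subtype.val (hA.is_comm.comm ⟨x, hx⟩ ⟨y, hy⟩))
    (fun x hx hx1 => hall.hom (by have := h2 x hx; rwa [pow_two] at this) hx1)
  rw [← Nat.card_coe_set_eq] at h3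
  exact h3

/-- the abstract consequences -/
theorem Ctx.main (c : Ctx G L O) [Finite G] [IsSimpleGroup G] (hG : ¬ IsMulCommutative G) :
    Cfsg.PRankLE 2 3 G ∧ ∃ H : G → Prop, (∀ x g, H g → H (x * g * x⁻¹)) ∧
      (∀ a b : G, a * a = 1 → a ≠ 1 → b * b = 1 → b ≠ 1 → a * b = b * a → a ≠ b →
        ¬ H a → ¬ H b → H (a * b)) ∧
      ((∀ a : G, a * a = 1 → a ≠ 1 → H a) → AllHom G L O) := by
  classical
  have hb : ∀ g : G, g * g = 1 → g ≠ 1 → ¬ IsHom L P g → IsBaer L O g := by
    intro g hg hg1 hn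
    rcases c.dichotomy hG hg hg1 with ⟨-, -, h⟩ | ⟨-, ⟨-, h⟩ | h⟩
    · exact absurd h hn
    · exact absurd h hn
    · exact h
  have hBBB : ∀ a b : G, a * a = 1 → a ≠ 1 → b * b = 1 → b ≠ 1 → a * b = b * a → a ≠ b →
      ¬ IsHom L P a → ¬ IsHom L P b → IsHom L P (a * b) := by
    intro a b ha ha1 hb2 hb1 hab hne h1 h2
    by_contra h3
    exact c.no_BBB ha hb2 hab (hb a ha ha1 h1) (hb b hb2 hb1 h2)
      (hb (a * b) (mul_inv_of_comm ha hb2 hab) (mul_ne_one_of hb2 hne) h3)
  refine ⟨?_, IsHom L P, ?_, hBBB, ?_⟩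
  · intro A hA h2
    have h2' : ∀ x ∈ A, x * x = 1 := fun x hx => by
      have := h2 x hx
      rwa [pow_two] at this
    have hcomm : ∀ x ∈ A, ∀ y ∈ A, x * y = y * x := fun x hx y hy =>
      congrArg Subtype.val (hA.is_comm.comm ⟨x, hx⟩ ⟨y, hy⟩)
    let S : Set G := {x | x ∈ A ∧ (x = 1 ∨ IsHom L P x)}
    have hS : S.ncard ≤ 4 := c.card_le_four S (Set.toFinite _) (fun x hx => h2' x hx.1)
      (fun x hx y hy => hcomm x hx.1 y hy.1) (fun x hx hx1 => hx.2.resolve_left hx1)
    have h3 : (A : Set G).ncard ≤ 8 := by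
      by_cases hex : ∃ b ∈ A, b ∉ S
      · obtain ⟨b, hb1, hb2⟩ := hex
        have hb3 : b ≠ 1 := fun e => hb2 ⟨hb1, Or.inl e⟩
        have hb4 : ¬ IsHom L P b := fun e => hb2 ⟨hb1, Or.inr e⟩
        have hsub : (A : Set G) ⊆ S ∪ (fun x => b * x) '' S := by
          intro x hx
          by_cases hxS : x ∈ S
          · exact Or.inl hxS
          · right
            have hx3 : x ≠ 1 := fun e => hxS ⟨hx, Or.inl e⟩
            have hx4 : ¬ IsHom L P x := fun e => hxS ⟨hx, Or.inr e⟩
            refine ⟨b * x, ⟨A.mul_mem hb1 hx, ?_⟩, ?_⟩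
            · by_cases e : b = x
              · left
                rw [← e]
                exact h2' b hb1
              · right
                exact hBBB b x (h2' b hb1) hb3 (h2' x hx) hx3 (hcomm b hb1 x hx) e hb4 hx4
            · change b * (b * x) = x
              rw [← mul_assoc, h2' b hb1, one_mul]
        have h4 := Set.ncard_le_ncard hsub (Set.toFinite _)
        have h5 := Set.ncard_union_le S ((fun x => b * x) '' S)
        have h6 := Set.ncard_image_le (f := fun x => b * x) (Set.toFinite S)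
        omega
      · have hsub : (A : Set G) ⊆ S := by
          intro x hx
          by_contra h4
          exact hex ⟨x, hx, h4⟩
        have h4 := Set.ncard_le_ncard hsub (Set.toFinite _)
        omega
    rw [← Nat.card_coe_set_eq] at h3
    exact h3
  · rintro x g ⟨C, l, hC⟩
    exact ⟨x • C, x • l, hC.conj c x⟩
  · intro hall
    have h2 : ProjectivePlane.order P L % 4 = 3 ∨ ProjectivePlane.order P L % 4 = 1 := by
      obtain ⟨k, hk⟩ := c.oval.odd
      omega
    rcases h2 with h2 | h2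
    · refine Or.inl ⟨h2, fun g hg hg1 => ⟨?_, hall g hg hg1⟩⟩
      obtain ⟨C, l, hC⟩ := hall g hg hg1
      have h3 := hC.nf_le_two c
      have h4 := c.nf_mod_four hG hg
      omega
    · refine Or.inr ⟨h2, fun g hg hg1 => ⟨?_, hall g hg hg1⟩⟩
      obtain ⟨C, l, hC⟩ := hall g hg hg1
      have h3 := hC.nf_le_two c
      have h4 := c.nf_mod_four hG hg
      omega

end Cfsg.Agent.H901.Ov
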