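import Mathlib

/-!
# Involutory collineations of finite projective planes of odd order (helper901)

`Inv a b` : the pair of maps `a` (points), `b` (lines) is an involutory (or trivial) collineation.
* `Inv.block` : every line contains a fixed point;
* `Inv.noncol` : if the order is odd, the fixed points are not collinear;
* `SubPl A B` : the points `A` and lines `B` form a subplane;
* `Inv.classify` : in odd order a non-trivial involution is a homology or fixes a Baer subplane.
-/

set_option autoImplicit false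
set_option linter.unusedSectionVars false

namespace Cfsg.Agent.H901.Ov

open Configuration

section basic

variable {P L : Type*} [Membership P L] [ProjectivePlane P L]

theorem line_uniq {p q : P} (h : p ≠ q) {l k : L} (h1 : p ∈ l) (h2 : q ∈ l) (h3 : p ∈ k)
    (h4 : q ∈ k) : l = k :=
  (Nondegenerate.eq_or_eq h1 h2 h3 h4).resolve_left h

theorem point_uniq {l k : L} (h : l ≠ k) {p q : P} (h1 : p ∈ l) (h2 : p ∈ k) (h3 : q ∈ l)
    (h4 : q ∈ k) : p = q :=
  (Nondegenerate.eq_or_eq h1 h3 h2 h4).resolve_right h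

theorem exists_join {p q : P} (h : p ≠ q) : ∃ l : L, p ∈ l ∧ q ∈ l :=
  ⟨HasLines.mkLine h, HasLines.mkLine_ax h⟩

theorem exists_meet {l k : L} (h : l ≠ k) : ∃ p : P, p ∈ l ∧ p ∈ k :=
  ⟨HasPoints.mkPoint h, HasPoints.mkPoint_ax h⟩

variable [Finite P] [Finite L]

theorem card_on (l : L) : Nat.card {p : P // p ∈ l} = ProjectivePlane.order P L + 1 :=
  ProjectivePlane.pointCount_eq P l

theorem card_thru (p : P) : Nat.card {l : L // p ∈ l} = ProjectivePlane.order P L + 1 :=
  ProjectivePlane.lineCount_eq L p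

variable (P L) in
theorem card_pts : Nat.card P = ProjectivePlane.order P L ^ 2 + ProjectivePlane.order P L + 1 := by
  have := Fintype.ofFinite P
  rw [Nat.card_eq_fintype_card, ProjectivePlane.card_points P L]

variable (P L) in
theorem card_lns : Nat.card L = ProjectivePlane.order P L ^ 2 + ProjectivePlane.order P L + 1 := by
  have := Fintype.ofFinite L
  rw [Nat.card_eq_fintype_card, ProjectivePlane.card_lines P L]

theorem card_pair_le {α : Type*} (u v : α) : Nat.card ({u, v} : Set α) ≤ 2 := by
  rw [Nat.card_coe_set_eq]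
  by_cases h : u = v
  · subst h
    rw [Set.pair_eq_singleton, Set.ncard_singleton]
    omega
  · rw [Set.ncard_pair h]

theorem exists_point_ne (l : L) (u v : P) : ∃ p : P, p ∈ l ∧ p ≠ u ∧ p ≠ v := by
  by_contra hc
  have hc' : ∀ p : P, p ∈ l → p = u ∨ p = v := by
    intro p hp
    by_contra h
    rw [not_or] at h
    exact hc ⟨p, hp, h.1, h.2⟩
  have h1 : Nat.card {p : P // p ∈ l} ≤ Nat.card ({u, v} : Set P) :=
    Nat.card_le_card_of_injective (fun p => ⟨p.1, by
      rcases hc' p.1 p.2 with h | h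
      · exact Or.inl h
      · exact Or.inr h⟩) (fun x y h => by
        simp only [Subtype.mk.injEq] at h
        exact Subtype.ext h)
  have h2 := card_pair_le u v
  have h3 := ProjectivePlane.one_lt_order P L
  rw [card_on] at h1
  omega

theorem exists_line_ne (p : P) (l k : L) : ∃ r : L, p ∈ r ∧ r ≠ l ∧ r ≠ k := by
  by_contra hc
  have hc' : ∀ r : L, p ∈ r → r = l ∨ r = k := by
    intro r hr
    by_contra h
    rw [not_or] at h
    exact hc ⟨r, hr, h.1, h.2⟩
  have h1 : Nat.card {r : L // p ∈ r} ≤ Nat.card ({l, k} : Set L) :=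
    Nat.card_le_card_of_injective (fun r => ⟨r.1, by
      rcases hc' r.1 r.2 with h | h
      · exact Or.inl h
      · exact Or.inr h⟩) (fun x y h => by
        simp only [Subtype.mk.injEq] at h
        exact Subtype.ext h)
  have h2 := card_pair_le l k
  have h3 := ProjectivePlane.one_lt_order P L
  rw [card_thru] at h1
  omega

end basic

/-! ### Counting fixed points modulo a prime -/

theorem card_fix_mod {α : Type*} [Finite α] {p : ℕ} (hp : p.Prime) (f : α → α)
    (h : ∀ x, f^[p] x = x) : Nat.card α ≡ Nat.card {x // f x = x} [MOD p] := by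
  classical
  have := Fintype.ofFinite α
  have : Fact p.Prime := ⟨hp⟩
  let F : Function.End α := f
  have h2 : ∀ n : ℕ, F ^ n = f^[n] := by
    intro n
    induction n with
    | zero => rfl
    | succ n ih =>
      rw [pow_succ, ih]
      rfl
  have h1 : F ^ p ^ 1 = 1 := by
    rw [pow_one]
    funext x
    rw [h2]
    exact h x
  have h2 := Equiv.Perm.card_fixedPoints_modEq h1
  rw [Nat.card_eq_fintype_card, Nat.card_eq_fintype_card]
  exact h2

theorem card_fix_two {α : Type*} [Finite α] (f : α → α) (h : ∀ x, f (f x) = x) :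
    Nat.card α ≡ Nat.card {x // f x = x} [MOD 2] :=
  card_fix_mod Nat.prime_two f h

/-- the version for an invariant predicate -/
theorem card_fix_mod_sub {α : Type*} [Finite α] {p : ℕ} (hp : p.Prime) (f : α → α)
    (h : ∀ x, f^[p] x = x) (Q : α → Prop) (hQ : ∀ x, Q x → Q (f x)) :
    Nat.card {x // Q x} ≡ Nat.card {x // Q x ∧ f x = x} [MOD p] := by
  let F : {x // Q x} → {x // Q x} := fun x => ⟨f x.1, hQ x.1 x.2⟩
  have h1 : ∀ n : ℕ, ∀ x : {x // Q x}, (F^[n] x).1 = f^[n] x.1 := by
    intro n
    induction n with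
    | zero => intro x; rfl
    | succ n ih =>
      intro x
      rw [Function.iterate_succ_apply, Function.iterate_succ_apply, ih]
  have h2 := card_fix_mod hp F (fun x => Subtype.ext (by rw [h1, h]))
  refine h2.trans (Nat.ModEq.refl _ |>.trans ?_)
  have e : {x : {x // Q x} // F x = x} ≃ {x // Q x ∧ f x = x} :=
    { toFun := fun x => ⟨x.1.1, x.1.2, congrArg Subtype.val x.2⟩
      invFun := fun x => ⟨⟨x.1, x.2.1⟩, Subtype.ext x.2.2⟩
      left_inv := fun x => rfl
      right_inv := fun x => rfl }
  rw [Nat.card_congr e]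

theorem card_fix_two_sub {α : Type*} [Finite α] (f : α → α)
    (h : ∀ x, f (f x) = x) (Q : α → Prop) (hQ : ∀ x, Q x → Q (f x)) :
    Nat.card {x // Q x} ≡ Nat.card {x // Q x ∧ f x = x} [MOD 2] :=
  card_fix_mod_sub Nat.prime_two f h Q hQ

section inv

variable {P L : Type*} [Membership P L]

/-- an involutory (or trivial) collineation -/
structure Inv (a : P → P) (b : L → L) : Prop where
  mem : ∀ p l, a p ∈ b l ↔ p ∈ l
  aa : ∀ p, a (a p) = p
  bb : ∀ l, b (b l) = l

variable [ProjectivePlane P L] [Finite P] [Finite L] {a : P → P} {b : L → L}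

theorem Inv.fix_meet (h : Inv a b) {l k : L} (hlk : l ≠ k) (hl : b l = l) (hk : b k = k) {p : P}
    (h1 : p ∈ l) (h2 : p ∈ k) : a p = p := by
  have h3 : a p ∈ l := by
    have := (h.mem p l).2 h1
    rwa [hl] at this
  have h4 : a p ∈ k := by
    have := (h.mem p k).2 h2
    rwa [hk] at this
  exact point_uniq hlk h3 h4 h1 h2

theorem Inv.fix_join (h : Inv a b) {p q : P} (hpq : p ≠ q) (hp : a p = p) (hq : a q = q) {l : L}
    (h1 : p ∈ l) (h2 : q ∈ l) : b l = l := by
  have h3 : p ∈ b l := by
    have := (h.mem p l).2 h1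
    rwa [hp] at this
  have h4 : q ∈ b l := by
    have := (h.mem q l).2 h2
    rwa [hq] at this
  exact line_uniq hpq h3 h4 h1 h2

/-- the line through a moved point and its image is fixed -/
theorem Inv.fix_line (h : Inv a b) {p : P} (hp : a p ≠ p) {l : L} (h1 : p ∈ l) (h2 : a p ∈ l) :
    b l = l := by
  have h3 : p ∈ b l := by
    have := (h.mem (a p) l).2 h2
    rwa [h.aa] at this
  have h4 : a p ∈ b l := (h.mem p l).2 h1
  exact line_uniq hp.symm h3 h4 h1 h2

/-- a fixed line through a moved point -/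
theorem Inv.mem_of_fix (h : Inv a b) {p : P} {l : L} (hl : b l = l) (h1 : p ∈ l) : a p ∈ l := by
  have := (h.mem p l).2 h1
  rwa [hl] at this

theorem Inv.uniq_fix_line (h : Inv a b) {p : P} (hp : a p ≠ p) {l k : L} (hl : b l = l)
    (hk : b k = k) (h1 : p ∈ l) (h2 : p ∈ k) : l = k :=
  line_uniq hp.symm h1 (h.mem_of_fix hl h1) h2 (h.mem_of_fix hk h2)

/-- every line contains a fixed point -/
theorem Inv.block (h : Inv a b) (l : L) : ∃ p, a p = p ∧ p ∈ l := by
  by_cases hl : b l = l
  · by_contra hc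
    have hc' : ∀ p : P, p ∈ l → a p ≠ p := fun p hp hpp => hc ⟨p, hpp, hp⟩
    have h1 : ∀ k : L, b k = k → k = l := by
      intro k hk
      by_contra hkl
      obtain ⟨p, hp1, hp2⟩ := exists_meet (P := P) hkl
      exact hc' p hp2 (h.fix_meet hkl hk hl hp1 hp2)
    have h2 : ∀ p : P, p ∉ l → a p = p := by
      intro p hp
      by_contra hpp
      obtain ⟨k, hk1, hk2⟩ := exists_join (L := L) (Ne.symm hpp)
      have h3 := h1 k (h.fix_line hpp hk1 hk2)
      rw [h3] at hk1
      exact hp hk1
    obtain ⟨p, hp⟩ := Nondegenerate.exists_point (P := P) l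
    obtain ⟨k, hk, -, -⟩ := exists_line_ne p l l
    have hkl : k ≠ l := by
      rintro rfl
      exact hp hk
    obtain ⟨z, hz1, hz2⟩ := exists_meet (P := P) hkl
    obtain ⟨q, hq1, hq2, hq3⟩ := exists_point_ne k p z
    have hql : q ∉ l := fun hql => hq3 (point_uniq hkl hq1 hql hz1 hz2)
    exact hkl (h1 k (h.fix_join hq2.symm (h2 p hp) (h2 q hql) hk hq1))
  · obtain ⟨p, hp1, hp2⟩ := exists_meet (P := P) hl
    refine ⟨p, ?_, hp2⟩
    have h3 : a p ∈ l := by
      have := (h.mem p (b l)).2 hp1
      rwa [h.bb] at this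
    have h4 : a p ∈ b l := (h.mem p l).2 hp2
    exact point_uniq hl h4 h3 hp1 hp2

/-- in odd order the fixed points are not collinear -/
theorem Inv.noncol (h : Inv a b) (hodd : Odd (ProjectivePlane.order P L)) (k : L) :
    ∃ p, a p = p ∧ p ∉ k := by
  by_contra hc
  have hc' : ∀ p : P, a p = p → p ∈ k := fun p hp => by
    by_contra h1
    exact hc ⟨p, hp, h1⟩
  have h1 : ∀ p : P, p ∈ k → a p = p := by
    intro p hp
    obtain ⟨l, hl, hlk, -⟩ := exists_line_ne p k k
    obtain ⟨q, hq1, hq2⟩ := h.block l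
    have h2 : q = p := point_uniq hlk hq2 (hc' q hq1) hl hp
    rw [← h2]
    exact hq1
  have h2 := card_fix_two a h.aa
  have h3 : Nat.card {x // a x = x} = Nat.card {p : P // p ∈ k} :=
    Nat.card_congr (Equiv.subtypeEquivRight fun p => ⟨hc' p, h1 p⟩)
  rw [h3, card_on, card_pts P L] at h2
  obtain ⟨m, hm⟩ := hodd
  rw [hm] at h2
  have h4 : ((2 * m + 1) ^ 2 + (2 * m + 1) + 1) % 2 = 1 := by
    have : (2 * m + 1) ^ 2 + (2 * m + 1) + 1 = 2 * (2 * m ^ 2 + 3 * m + 1) + 1 := by ring
    omega
  have h5 : (2 * m + 1 + 1) % 2 = 0 := by omega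
  unfold Nat.ModEq at h2
  omega

/-- lower bound for the number of fixed points -/
theorem Inv.card_ge (h : Inv a b) :
    ProjectivePlane.order P L + 1 ≤ Nat.card {x // a x = x} := by
  classical
  have := Fintype.ofFinite P
  have := Fintype.ofFinite L
  -- the map (fixed point, line through it) → line is onto
  have h1 : Nat.card L ≤ Nat.card (Σ x : {x // a x = x}, {l : L // x.1 ∈ l}) := by
    refine Nat.card_le_card_of_surjective (fun y => y.2.1) fun l => ?_
    obtain ⟨p, hp1, hp2⟩ := h.block l
    exact ⟨⟨⟨p, hp1⟩, ⟨l, hp2⟩⟩, rfl⟩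
  rw [Nat.card_sigma] at h1
  simp only [card_thru] at h1
  rw [Finset.sum_const, Finset.card_univ, smul_eq_mul, card_lns P L, ← Nat.card_eq_fintype_card] at h1
  by_contra hc
  have h2 : Nat.card {x // a x = x} ≤ ProjectivePlane.order P L := by omega
  have h3 : Nat.card {x // a x = x} * (ProjectivePlane.order P L + 1) ≤
      ProjectivePlane.order P L * (ProjectivePlane.order P L + 1) := Nat.mul_le_mul_right _ h2
  nlinarith

end inv

end Cfsg.Agent.H901.Ov
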