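import Cfsg.Agent.H901.OvHom

/-!
# Involutions acting on the fixed subplane of a collineation (helper901)
-/

set_option autoImplicit false
set_option linter.unusedSectionVars false

namespace Cfsg.Agent.H901.Ov

open Configuration

variable {G P L : Type*} [Membership P L] [ProjectivePlane P L] [Finite P] [Finite L] [Group G]
  [MulAction G P] [MulAction G L] {O : Set P}

theorem smul_smul_self {G α : Type*} [Group G] [MulAction G α] {s : G} (hs : s * s = 1) (x : α) :
    s • s • x = x := by
  rw [← mul_smul, hs, one_smul]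

theorem Ctx.toInv (c : Ctx G L O) {g : G} (hg : g * g = 1) :
    Inv (fun p : P => g • p) (fun l : L => g • l) where
  mem p l := c.coll g p l
  aa p := smul_smul_self hg p
  bb l := smul_smul_self hg l

theorem comm_fix {G α : Type*} [Group G] [MulAction G α] {g s : G} (h : g * s = s * g) {p : α}
    (hp : g • p = p) : g • s • p = s • p := by
  rw [← mul_smul, h, mul_smul, hp]

theorem inv_fix {G α : Type*} [Group G] [MulAction G α] {g s : G} (h : s * g * s⁻¹ = g⁻¹) {p : α}
    (hp : g • p = p) : g • s • p = s • p := by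
  have h1 : g * s = s * g⁻¹ := by
    have h2 : s * g = g⁻¹ * s := by rw [← h, inv_mul_cancel_right]
    have h3 : g * (s * g) = g * (g⁻¹ * s) := by rw [h2]
    rw [← mul_assoc, mul_inv_cancel_left] at h3
    exact eq_mul_inv_of_mul_eq h3
  have h2 : g⁻¹ • p = p := by
    rw [inv_smul_eq_iff, hp]
  rw [← mul_smul, h1, mul_smul, h2]

/-- the action of `s` on the fixed subplane of `g` -/
theorem Ctx.restr (c : Ctx G L O) {g s : G} (hs : s * s = 1)
    (h1 : ∀ p : P, g • p = p → g • s • p = s • p) (h2 : ∀ l : L, g • l = l → g • s • l = s • l) :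
    @Inv {p : P | g • p = p} {l : L | g • l = l} (subMem _ _)
      (fun p => ⟨s • p.1, h1 p.1 p.2⟩) (fun l => ⟨s • l.1, h2 l.1 l.2⟩) :=
  letI := subMem {p : P | g • p = p} {l : L | g • l = l}
  { mem := fun p l => c.coll s p.1 l.1
    aa := fun p => Subtype.ext (smul_smul_self hs p.1)
    bb := fun l => Subtype.ext (smul_smul_self hs l.1) }

theorem card_restr {g s : G} (h1 : ∀ p : P, g • p = p → g • s • p = s • p) :
    Nat.card {x : {p : P | g • p = p} // (⟨s • x.1, h1 x.1 x.2⟩ : {p : P | g • p = p}) = x} =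
      Nat.card {p : P // g • p = p ∧ s • p = p} :=
  Nat.card_congr
    { toFun := fun x => ⟨x.1.1, x.1.2, congrArg Subtype.val x.2⟩
      invFun := fun p => ⟨⟨p.1, p.2.1⟩, Subtype.ext p.2.2⟩
      left_inv := fun _ => rfl
      right_inv := fun _ => rfl }

theorem Ctx.restr_ge (c : Ctx G L O) {g s : G} (hs : s * s = 1)
    (h1 : ∀ p : P, g • p = p → g • s • p = s • p) (h2 : ∀ l : L, g • l = l → g • s • l = s • l)
    (hS : SubPl {p : P | g • p = p} {l : L | g • l = l}) :
    hS.ord + 1 ≤ Nat.card {p : P // g • p = p ∧ s • p = p} := by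
  have h := @Inv.card_ge _ _ (subMem _ _) hS.plane _ _ _ _ (c.restr hs h1 h2)
  rw [card_restr] at h
  exact h

theorem Ctx.restr_card (c : Ctx G L O) {g s : G} (hs : s * s = 1)
    (h1 : ∀ p : P, g • p = p → g • s • p = s • p) (h2 : ∀ l : L, g • l = l → g • s • l = s • l)
    (hS : SubPl {p : P | g • p = p} {l : L | g • l = l}) (hodd : Odd hS.ord) :
    (∀ p : P, g • p = p → s • p = p) ∨
      Nat.card {p : P // g • p = p ∧ s • p = p} = hS.ord + 2 ∨
      ∃ k : ℕ, 3 ≤ k ∧ k ^ 2 = hS.ord ∧
        Nat.card {p : P // g • p = p ∧ s • p = p} = k ^ 2 + k + 1 := by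
  have h := @Inv.card_fix _ _ (subMem _ _) hS.plane _ _ _ _ (c.restr hs h1 h2) hodd
  rw [card_restr] at h
  rcases h with h | h | h
  · left
    intro p hp
    exact Subtype.mk.inj (h ⟨p, hp⟩)
  · exact Or.inr (Or.inl h)
  · exact Or.inr (Or.inr h)

theorem Ctx.restr_noncol (c : Ctx G L O) {g s : G} (hs : s * s = 1)
    (h1 : ∀ p : P, g • p = p → g • s • p = s • p) (h2 : ∀ l : L, g • l = l → g • s • l = s • l)
    (hS : SubPl {p : P | g • p = p} {l : L | g • l = l}) (hodd : Odd hS.ord) {l : L}
    (hl : g • l = l) : ∃ p : P, g • p = p ∧ s • p = p ∧ p ∉ l := by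
  obtain ⟨p, hp1, hp2⟩ :=
    @Inv.noncol _ _ (subMem _ _) hS.plane _ _ _ _ (c.restr hs h1 h2) hodd ⟨l, hl⟩
  exact ⟨p.1, p.2, Subtype.ext_iff.1 hp1, hp2⟩

/-- a homology acting on a fixed subplane of odd order has its centre there -/
theorem Ctx.centre_mem (c : Ctx G L O) {g s : G} (hs : s * s = 1) {C : P} {l : L} (hC : Hom s C l)
    (h1 : ∀ p : P, g • p = p → g • s • p = s • p) (h2 : ∀ l : L, g • l = l → g • s • l = s • l)
    (hS : SubPl {p : P | g • p = p} {l : L | g • l = l}) (hodd : Odd hS.ord) : g • C = C := by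
  by_contra hgC
  have h3 := c.restr_ge hs h1 h2 hS
  have h4 : ∀ p : P, g • p = p → s • p = p → p ∈ l := by
    intro p hp hsp
    refine ((hC.fix p).1 hsp).resolve_left ?_
    rintro rfl
    exact hgC hp
  have h5 := hS.one_lt
  obtain ⟨x, y, z, hx, hy, hz, hxy, -, -⟩ := exists_three (α := P)
    (Q := fun p => g • p = p ∧ s • p = p) (by omega)
  have hl : g • l = l := c.fix_join hxy hx.1 hy.1 (h4 x hx.1 hx.2) (h4 y hy.1 hy.2)
  obtain ⟨p, hp1, hp2, hp3⟩ := c.restr_noncol hs h1 h2 hS hodd hl
  exact hp3 (h4 p hp1 hp2)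

/-- the product of two commuting involutory homologies is a homology -/
theorem Ctx.hom_mul (c : Ctx G L O) {g h : G} (hg2 : g * g = 1) (hh2 : h * h = 1)
    (hc : g * h = h * g) (hne : g ≠ h) {C D : P} {l k : L} (hg : Hom g C l) (hh : Hom h D k) :
    ∃ (E : P) (r : L), Hom (g * h) E r := by
  have h2 : (g * h) * (g * h) = 1 := by
    calc (g * h) * (g * h) = g * (h * g) * h := by group
      _ = g * (g * h) * h := by rw [hc]
      _ = (g * g) * (h * h) := by group
      _ = 1 := by rw [hg2, hh2, mul_one]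
  have hI := c.toInv h2
  have hne' : ∃ p : P, (g * h) • p ≠ p := by
    by_contra hcon
    have h3 : g * h = 1 := c.faith _ fun p => by
      by_contra h4
      exact hcon ⟨p, h4⟩
    apply hne
    have : g = h⁻¹ := eq_inv_of_mul_eq_one_left h3
    rw [this]
    exact inv_eq_of_mul_eq_one_left hh2
  rcases hI.classify c.oval.odd hne' with ⟨E, r, hE, hf⟩ | ⟨hS, hS2⟩
  · exact ⟨E, r, ⟨hE, hf⟩⟩
  · exfalso
    have hc' : (g * h) * g = g * (g * h) := by
      rw [mul_assoc, ← hc]
    have h3 := c.restr_ge (g := g * h) hg2 (fun p hp => comm_fix hc' hp)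
      (fun l hl => comm_fix hc' hl) hS
    obtain ⟨hDl, hCk, hlk, hCD⟩ := hg.two c hh hc hne
    obtain ⟨Z, hZl, hZk⟩ := exists_meet (P := P) hlk
    have h4 : ∀ p : P, (g * h) • p = p ∧ g • p = p → p = C ∨ p = D ∨ p = Z := by
      rintro p ⟨h5, h6⟩
      have h7 : h • p = p := by
        have h8 : g • (h • p) = g • p := by rw [← mul_smul, h5, h6]
        exact MulAction.injective g h8
      rcases (hg.fix p).1 h6 with h8 | h8
      · exact Or.inl h8
      · rcases (hh.fix p).1 h7 with h9 | h9
        · exact Or.inr (Or.inl h9)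
        · exact Or.inr (Or.inr (point_uniq hlk h8 h9 hZl hZk))
    have h5 : Nat.card {p : P // (g * h) • p = p ∧ g • p = p} ≤ Nat.card ({C, D, Z} : Set P) :=
      Nat.card_le_card_of_injective (fun p => ⟨p.1, by
        rcases h4 p.1 p.2 with e | e | e
        · exact Or.inl e
        · exact Or.inr (Or.inl e)
        · exact Or.inr (Or.inr e)⟩) (fun x y hxy => by
          simp only [Subtype.mk.injEq] at hxy
          exact Subtype.ext hxy)
    have h6 : Nat.card ({C, D, Z} : Set P) ≤ 3 := by
      rw [Nat.card_coe_set_eq]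
      refine (Set.ncard_insert_le _ _).trans ?_
      have := card_pair_le D Z
      rw [Nat.card_coe_set_eq] at this
      omega
    have h7 := hS.one_lt
    have h8 : hS.ord ≠ 2 := by
      intro e
      have := c.oval.odd
      rw [hS2, e] at this
      exact absurd this (by decide)
    have h9 : hS.ord + 1 ≤ 3 := h3.trans (h5.trans h6)
    omega

end Cfsg.Agent.H901.Ov
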