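import Cfsg.Agent.H901.OvPlane

/-!
# Subplanes (helper901)
-/

set_option autoImplicit false
set_option linter.unusedSectionVars false

namespace Cfsg.Agent.H901.Ov

open Configuration

section

variable {P L : Type*} [Membership P L]

/-- `a`, `b`, `c` are not on a common line -/
def NonCol (L : Type*) {P : Type*} [Membership P L] (a b c : P) : Prop :=
  ∀ l : L, a ∈ l → b ∈ l → c ∉ l

/-- four points, no three on a line -/
structure Quad (L : Type*) {P : Type*} [Membership P L] (a b c d : P) : Prop where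
  abc : NonCol L a b c
  abd : NonCol L a b d
  acd : NonCol L a c d
  bcd : NonCol L b c d

/-- the points `A` and the lines `B` form a subplane -/
structure SubPl (A : Set P) (B : Set L) : Prop where
  join : ∀ p ∈ A, ∀ q ∈ A, p ≠ q → ∀ l : L, p ∈ l → q ∈ l → l ∈ B
  meet : ∀ l ∈ B, ∀ k ∈ B, l ≠ k → ∀ p : P, p ∈ l → p ∈ k → p ∈ A
  quad : ∃ a b c d, a ∈ A ∧ b ∈ A ∧ c ∈ A ∧ d ∈ A ∧ Quad L a b c d

variable [ProjectivePlane P L]

theorem exists_line_any (a c : P) : ∃ l : L, a ∈ l ∧ c ∈ l := by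
  by_cases h : a = c
  · subst h
    obtain ⟨p, hp⟩ : ∃ p : P, p ≠ a := by
      obtain ⟨l, hl⟩ := Nondegenerate.exists_line (L := L) a
      obtain ⟨p, q, r, l₁, l₂, l₃, h⟩ := @ProjectivePlane.exists_config P L _ _
      by_cases h1 : p = a
      · refine ⟨q, ?_⟩
        rintro rfl
        subst h1
        exact h.1 h.2.2.2.1
      · exact ⟨p, h1⟩
    obtain ⟨l, hl, -⟩ := exists_join (L := L) hp.symm
    exact ⟨l, hl, hl⟩
  · exact exists_join h

theorem NonCol.ne12 {a b c : P} (h : NonCol L a b c) : a ≠ b := by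
  rintro rfl
  obtain ⟨l, h1, h2⟩ := exists_line_any (L := L) a c
  exact h l h1 h1 h2

theorem NonCol.ne13 {a b c : P} (h : NonCol L a b c) : a ≠ c := by
  rintro rfl
  obtain ⟨l, h1, h2⟩ := exists_line_any (L := L) a b
  exact h l h1 h2 h1

theorem NonCol.ne23 {a b c : P} (h : NonCol L a b c) : b ≠ c := by
  rintro rfl
  obtain ⟨l, h1, h2⟩ := exists_line_any (L := L) a b
  exact h l h1 h2 h2

/-- `a`, `b` on `l`, `c` not on `l` -/
theorem NonCol.mk' {a b c : P} {l : L} (hab : a ≠ b) (ha : a ∈ l) (hb : b ∈ l) (hc : c ∉ l) :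
    NonCol L a b c := by
  intro k h1 h2 h3
  rw [line_uniq hab h1 h2 ha hb] at h3
  exact hc h3

theorem NonCol.rot {a b c : P} (h : NonCol L a b c) : NonCol L b c a :=
  fun l h1 h2 h3 => h l h3 h1 h2

theorem NonCol.swap {a b c : P} (h : NonCol L a b c) : NonCol L b a c :=
  fun l h1 h2 h3 => h l h2 h1 h3

/-- the incidence of a subplane -/
@[reducible] def subMem (A : Set P) (B : Set L) : Membership A B := ⟨fun l p => (p : P) ∈ (l : L)⟩

open Classical in
/-- the plane structure of a subplane -/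
@[reducible] noncomputable def SubPl.plane {A : Set P} {B : Set L} (h : SubPl A B) :
    @ProjectivePlane A B (subMem A B) :=
  letI := subMem A B
  { exists_point := by
      rintro ⟨l, hl⟩
      obtain ⟨a, b, c, d, ha, hb, hc, hd, hq⟩ := h.quad
      by_cases h1 : a ∈ l
      · by_cases h2 : b ∈ l
        · exact ⟨⟨c, hc⟩, hq.abc l h1 h2⟩
        · exact ⟨⟨b, hb⟩, h2⟩
      · exact ⟨⟨a, ha⟩, h1⟩
    exists_line := by
      rintro ⟨p, hp⟩
      obtain ⟨a, b, c, d, ha, hb, hc, hd, hq⟩ := h.quad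
      obtain ⟨l1, h1, h1'⟩ := exists_join (L := L) hq.abc.ne12
      obtain ⟨l2, h2, h2'⟩ := exists_join (L := L) hq.acd.ne12
      obtain ⟨l3, h3, h3'⟩ := exists_join (L := L) hq.bcd.ne23
      by_cases e1 : p ∈ l1
      · by_cases e2 : p ∈ l2
        · have e3 : l1 ≠ l2 := by
            rintro rfl
            exact hq.abc l1 h1 h1' h2'
          have e4 : p = a := point_uniq e3 e1 e2 h1 h2
          subst e4
          exact ⟨⟨l3, h.join c hc d hd hq.bcd.ne23 l3 h3 h3'⟩, fun e5 => hq.acd l3 e5 h3 h3'⟩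
        · exact ⟨⟨l2, h.join a ha c hc hq.acd.ne12 l2 h2 h2'⟩, e2⟩
      · exact ⟨⟨l1, h.join a ha b hb hq.abc.ne12 l1 h1 h1'⟩, e1⟩
    eq_or_eq := by
      rintro ⟨p, hp⟩ ⟨q, hq⟩ ⟨l, hl⟩ ⟨k, hk⟩ h1 h2 h3 h4
      rcases Nondegenerate.eq_or_eq (P := P) (L := L) h1 h2 h3 h4 with e | e
      · exact Or.inl (Subtype.ext e)
      · exact Or.inr (Subtype.ext e)
    mkPoint := fun {l k} hlk => ⟨HasPoints.mkPoint (P := P) (L := L) (fun e => hlk (Subtype.ext e)),
      h.meet l.1 l.2 k.1 k.2 (fun e => hlk (Subtype.ext e)) _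
        (HasPoints.mkPoint_ax (P := P) (L := L) _).1 (HasPoints.mkPoint_ax (P := P) (L := L) _).2⟩
    mkPoint_ax := fun {l k} hlk =>
      HasPoints.mkPoint_ax (P := P) (L := L) (fun e => hlk (Subtype.ext e))
    mkLine := fun {p q} hpq => ⟨HasLines.mkLine (P := P) (L := L) (fun e => hpq (Subtype.ext e)),
      h.join p.1 p.2 q.1 q.2 (fun e => hpq (Subtype.ext e)) _
        (HasLines.mkLine_ax (P := P) (L := L) _).1 (HasLines.mkLine_ax (P := P) (L := L) _).2⟩
    mkLine_ax := fun {p q} hpq =>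
      HasLines.mkLine_ax (P := P) (L := L) (fun e => hpq (Subtype.ext e))
    exists_config := by
      obtain ⟨a, b, c, d, ha, hb, hc, hd, hq⟩ := h.quad
      obtain ⟨l1, h1, h1'⟩ := exists_join (L := L) hq.abd.ne13
      obtain ⟨l2, h2, h2'⟩ := exists_join (L := L) hq.bcd.ne12
      obtain ⟨l3, h3, h3'⟩ := exists_join (L := L) hq.bcd.ne13
      refine ⟨⟨a, ha⟩, ⟨b, hb⟩, ⟨c, hc⟩, ⟨l1, h.join a ha d hd hq.abd.ne13 l1 h1 h1'⟩,
        ⟨l2, h.join b hb c hc hq.bcd.ne12 l2 h2 h2'⟩, ⟨l3, h.join b hb d hd hq.bcd.ne13 l3 h3 h3'⟩,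
        fun e => hq.abc l2 e h2 h2', fun e => hq.abd l3 e h3 h3', fun e => hq.abd l1 h1 e h1',
        h2, h3, fun e => hq.acd l1 h1 e h1', h2', fun e => hq.bcd l3 h3 e h3'⟩ }

/-- the order of a subplane -/
noncomputable def SubPl.ord {A : Set P} {B : Set L} (h : SubPl A B) : ℕ :=
  @ProjectivePlane.order A B (subMem A B) h.plane

variable [Finite P] [Finite L] {A : Set P} {B : Set L}

theorem SubPl.one_lt (h : SubPl A B) : 1 < h.ord :=
  @ProjectivePlane.one_lt_order A B (subMem A B) h.plane _ _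

theorem SubPl.card_A (h : SubPl A B) : Nat.card A = h.ord ^ 2 + h.ord + 1 :=
  @card_pts A B (subMem A B) h.plane _ _

theorem SubPl.card_B (h : SubPl A B) : Nat.card B = h.ord ^ 2 + h.ord + 1 :=
  @card_lns A B (subMem A B) h.plane _ _

theorem SubPl.card_on (h : SubPl A B) {l : L} (hl : l ∈ B) :
    Nat.card {p : P // p ∈ A ∧ p ∈ l} = h.ord + 1 := by
  have h1 := @Ov.card_on A B (subMem A B) h.plane _ _ ⟨l, hl⟩
  rw [← SubPl.ord] at h1
  rw [← h1]
  exact Nat.card_congr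
    { toFun := fun p => ⟨⟨p.1, p.2.1⟩, p.2.2⟩
      invFun := fun p => ⟨p.1.1, p.1.2, p.2⟩
      left_inv := fun _ => rfl
      right_inv := fun _ => rfl }

theorem SubPl.card_thru (h : SubPl A B) {p : P} (hp : p ∈ A) :
    Nat.card {l : L // l ∈ B ∧ p ∈ l} = h.ord + 1 := by
  have h1 := @Ov.card_thru A B (subMem A B) h.plane _ _ ⟨p, hp⟩
  rw [← SubPl.ord] at h1
  rw [← h1]
  exact Nat.card_congr
    { toFun := fun p => ⟨⟨p.1, p.2.1⟩, p.2.2⟩
      invFun := fun p => ⟨p.1.1, p.1.2, p.2⟩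
      left_inv := fun _ => rfl
      right_inv := fun _ => rfl }

/-- a quadrangle from three points on a line and two points off it -/
theorem exists_quad {u v w c d : P} {l : L} (huv : u ≠ v) (huw : u ≠ w) (hvw : v ≠ w)
    (hu : u ∈ l) (hv : v ∈ l) (hw : w ∈ l) (hc : c ∉ l) (hd : d ∉ l) (hcd : c ≠ d) :
    ∃ x y, (x = u ∨ x = v ∨ x = w) ∧ (y = u ∨ y = v ∨ y = w) ∧ Quad L x y c d := by
  obtain ⟨k, hck, hdk⟩ := exists_join (L := L) hcd
  have hkl : k ≠ l := by
    rintro rfl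
    exact hc hck
  have key : ∀ x y : P, x ≠ y → x ∈ l → y ∈ l → x ∉ k → y ∉ k → Quad L x y c d := by
    intro x y hxy hx hy hxk hyk
    exact ⟨NonCol.mk' hxy hx hy hc, NonCol.mk' hxy hx hy hd,
      (NonCol.mk' hcd hck hdk hxk).rot.rot, (NonCol.mk' hcd hck hdk hyk).rot.rot⟩
  by_cases h1 : u ∈ k
  · have h2 : v ∉ k := fun h => huv (point_uniq hkl h1 hu h hv)
    have h3 : w ∉ k := fun h => huw (point_uniq hkl h1 hu h hw)
    exact ⟨v, w, Or.inr (Or.inl rfl), Or.inr (Or.inr rfl), key v w hvw hv hw h2 h3⟩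
  · by_cases h2 : v ∈ k
    · have h3 : w ∉ k := fun h => hvw (point_uniq hkl h2 hv h hw)
      exact ⟨u, w, Or.inl rfl, Or.inr (Or.inr rfl), key u w huw hu hw h1 h3⟩
    · exact ⟨u, v, Or.inl rfl, Or.inr (Or.inl rfl), key u v huv hu hv h1 h2⟩

end

end Cfsg.Agent.H901.Ov
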