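import Cfsg.Agent.H901.SaxLin

/-!
# `Sp_2(q²).2 < Sp_4(q)`, `q` odd, has no element of order `4 p` modulo scalars (helper901, for S2498 and S2528)
-/

set_option autoImplicit false

namespace Cfsg.Agent.H901.SaxSp

open Module Cfsg Cfsg.Geo Cfsg.Agent.H884.El Matrix
open Cfsg.Agent.ClassicalGeometry.SympBasic
open scoped MatrixGroups Matrix

universe u

variable {ι : Type} [Fintype ι] [DecidableEq ι] {F : Type u} [Field F]
  {K : Subalgebra F (Matrix ι ι F)}

theorem mulVec_eq_zero_of_field {s : ℕ} (hK : IsFieldSubalgebra s K) {a : Matrix ι ι F} (ha : a ∈ K) {w : ι → F}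
    (hw : w ≠ 0) (h : a *ᵥ w = 0) : a = 0 := by
  by_contra h0
  obtain ⟨b, hb, hab⟩ := hK.inv a ha h0
  apply hw
  have h1 : (b * a) *ᵥ w = w := by rw [hK.comm b hb a ha, hab, Matrix.one_mulVec]
  rw [← h1, ← Matrix.mulVec_mulVec, h, Matrix.mulVec_zero]

/-- the `K`-span of `v`, `n v`. -/
theorem span_two {K : Subalgebra F (Matrix ι ι F)} (hK : IsFieldSubalgebra 2 K) (h4 : Fintype.card ι = 4)
    {n : Matrix ι ι F} (hn : ∀ k ∈ K, n * k = k * n) {v : ι → F} (h1 : n *ᵥ v ≠ 0) (h2 : n *ᵥ (n *ᵥ v) = 0)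
    (w : ι → F) : ∃ a ∈ K, ∃ b ∈ K, w = a *ᵥ v + b *ᵥ (n *ᵥ v) := by
  have hfd : Module.Finite F K := inferInstance
  let f : (K × K) →ₗ[F] (ι → F) :=
    { toFun := fun x => (x.1 : Matrix ι ι F) *ᵥ v + (x.2 : Matrix ι ι F) *ᵥ (n *ᵥ v)
      map_add' := fun x y => by
        simp only [Prod.fst_add, Prod.snd_add, Subalgebra.coe_add, Matrix.add_mulVec]
        abel
      map_smul' := fun c x => by
        simp only [Prod.smul_fst, Prod.smul_snd, Subalgebra.coe_smul, Matrix.smul_mulVec, smul_add,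
          RingHom.id_apply] }
  have hinj : Function.Injective f := by
    rw [← LinearMap.ker_eq_bot, LinearMap.ker_eq_bot']
    rintro ⟨a, b⟩ hab
    have e : (a : Matrix ι ι F) *ᵥ v + (b : Matrix ι ι F) *ᵥ (n *ᵥ v) = 0 := hab
    have e1 : (a : Matrix ι ι F) *ᵥ (n *ᵥ v) = 0 := by
      have := congrArg (fun x => n *ᵥ x) e
      simp only [Matrix.mulVec_add, Matrix.mulVec_mulVec, Matrix.mulVec_zero] at this
      rw [hn _ a.2, ← mul_assoc, hn _ b.2, mul_assoc, ← Matrix.mulVec_mulVec _ (a : Matrix ι ι F),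
        ← Matrix.mulVec_mulVec _ (b : Matrix ι ι F), ← Matrix.mulVec_mulVec _ n n, h2, Matrix.mulVec_zero,
        add_zero] at this
      exact this
    have ha := mulVec_eq_zero_of_field hK a.2 h1 e1
    rw [ha, Matrix.zero_mulVec, zero_add] at e
    have hb := mulVec_eq_zero_of_field hK b.2 h1 e
    exact Prod.ext (Subtype.ext ha) (Subtype.ext hb)
  have hsurj : Function.Surjective f := by
    refine (LinearMap.injective_iff_surjective_of_finrank_eq_finrank (f := f) ?_).1 hinj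
    rw [Module.finrank_prod, hK.finrank_eq, Module.finrank_fintype_fun_eq_card, h4]
  obtain ⟨⟨a, b⟩, hab⟩ := hsurj w
  exact ⟨a, a.2, b, b.2, hab.symm⟩

/-- an element commuting with `K` and `v`, `n v` is zero if ... -/
theorem eq_zero_of_two {K : Subalgebra F (Matrix ι ι F)} (hK : IsFieldSubalgebra 2 K) (h4 : Fintype.card ι = 4)
    {n : Matrix ι ι F} (hn : ∀ k ∈ K, n * k = k * n) {v : ι → F} (h1 : n *ᵥ v ≠ 0) (h2 : n *ᵥ (n *ᵥ v) = 0)
    {D : Matrix ι ι F} (hD : ∀ k ∈ K, D * k = k * D) (e1 : D *ᵥ v = 0) (e2 : D *ᵥ (n *ᵥ v) = 0) : D = 0 := by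
  apply Matrix.toLin'.injective
  rw [map_zero]
  refine LinearMap.ext fun w => ?_
  rw [Matrix.toLin'_apply, LinearMap.zero_apply]
  obtain ⟨a, ha, b, hb, rfl⟩ := span_two hK h4 hn h1 h2 w
  rw [Matrix.mulVec_add, Matrix.mulVec_mulVec, Matrix.mulVec_mulVec, hD a ha, hD b hb, ← Matrix.mulVec_mulVec,
    ← Matrix.mulVec_mulVec, e1, e2, Matrix.mulVec_zero, Matrix.mulVec_zero, add_zero]

/-- **the `p`-th power of an element whose square is `ε + n`, `n ≠ 0` nilpotent, lies in `K`.** -/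
theorem pow_mem_of {p : ℕ} [hp : Fact p.Prime] [CharP F p] {K : Subalgebra F (Matrix ι ι F)}
    (hK : IsFieldSubalgebra 2 K) (h4 : Fintype.card ι = 4) {Y : Matrix ι ι F} (hY : ∀ k ∈ K, Y * k = k * Y)
    {ε : F} {n : Matrix ι ι F} (hn : n = Y ^ 2 - ε • 1) (hnp : n ^ p = 0) (hn0 : n ≠ 0) : Y ^ p ∈ K := by
  classical
  have hne : Nonempty ι := Fintype.card_pos_iff.1 (by omega)
  have hchar : CharP (Matrix ι ι F) p := inferInstance
  have hnK : ∀ k ∈ K, n * k = k * n := by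
    intro k hk
    rw [hn, sub_mul, mul_sub, pow_two, mul_assoc, hY k hk, ← mul_assoc, hY k hk, mul_assoc, Matrix.smul_mul,
      Matrix.mul_smul, one_mul, mul_one]
  have hnY : n * Y = Y * n := by
    rw [hn, sub_mul, mul_sub, ← pow_succ, ← pow_succ', Matrix.smul_mul, Matrix.mul_smul, one_mul, mul_one]
  -- `v` with `n v ≠ 0`, `n² v = 0`
  obtain ⟨v, h1, h2⟩ : ∃ v : ι → F, n *ᵥ v ≠ 0 ∧ n *ᵥ (n *ᵥ v) = 0 := by
    obtain ⟨u, hu⟩ : ∃ u : ι → F, n *ᵥ u ≠ 0 := by
      by_contra h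
      push Not at h
      apply hn0
      apply Matrix.toLin'.injective
      rw [map_zero]
      exact LinearMap.ext fun w => by rw [Matrix.toLin'_apply]; exact h w
    have hex : ∃ j : ℕ, (n ^ j) *ᵥ u = 0 := ⟨p, by rw [hnp, Matrix.zero_mulVec]⟩
    set j := Nat.find hex with hj
    have hj0 : (n ^ j) *ᵥ u = 0 := Nat.find_spec hex
    have hj2 : 2 ≤ j := by
      by_contra hcon
      push Not at hcon
      have : j = 0 ∨ j = 1 := by omega
      rcases this with h | h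
      · rw [h, pow_zero, Matrix.one_mulVec] at hj0
        rw [hj0, Matrix.mulVec_zero] at hu
        exact hu rfl
      · rw [h, pow_one] at hj0
        exact hu hj0
    refine ⟨(n ^ (j - 2)) *ᵥ u, ?_, ?_⟩
    · rw [Matrix.mulVec_mulVec, ← pow_succ']
      exact Nat.find_min hex (by omega)
    · rw [Matrix.mulVec_mulVec, Matrix.mulVec_mulVec, ← pow_two, ← pow_add,
        show 2 + (j - 2) = j by omega]
      exact hj0
  have hnn : n * n = 0 := by
    refine eq_zero_of_two hK h4 hnK h1 h2 (fun k hk => ?_) ?_ ?_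
    · rw [mul_assoc, hnK k hk, ← mul_assoc, hnK k hk, mul_assoc]
    · rw [← Matrix.mulVec_mulVec, h2]
    · rw [← Matrix.mulVec_mulVec, h2, Matrix.mulVec_zero]
  obtain ⟨a, ha, b, hb, hab⟩ := span_two hK h4 hnK h1 h2 (Y *ᵥ v)
  have hYe : Y - (a + b * n) = 0 := by
    refine eq_zero_of_two hK h4 hnK h1 h2 (fun k hk => ?_) ?_ ?_
    · rw [sub_mul, mul_sub, hY k hk, add_mul, mul_add, hK.comm a ha k hk, mul_assoc, hnK k hk, ← mul_assoc,
        hK.comm b hb k hk, mul_assoc]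
    · rw [Matrix.sub_mulVec, Matrix.add_mulVec, ← Matrix.mulVec_mulVec _ b n, hab, sub_self]
    · have e1 : Y *ᵥ (n *ᵥ v) = n *ᵥ (Y *ᵥ v) := by
        rw [Matrix.mulVec_mulVec, ← hnY, Matrix.mulVec_mulVec]
      rw [Matrix.sub_mulVec, Matrix.add_mulVec, ← Matrix.mulVec_mulVec _ b n, h2, Matrix.mulVec_zero, add_zero, e1,
        hab, Matrix.mulVec_add, Matrix.mulVec_mulVec, Matrix.mulVec_mulVec, hnK a ha, hnK b hb,
        ← Matrix.mulVec_mulVec, ← Matrix.mulVec_mulVec, h2, Matrix.mulVec_zero, add_zero, sub_self]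
  rw [sub_eq_zero] at hYe
  have hcomm : Commute a (b * n) := by
    change a * (b * n) = b * n * a
    rw [mul_assoc, hnK a ha, ← mul_assoc, ← mul_assoc, hK.comm a ha b hb]
  have hcbn : Commute b n := (hnK b hb).symm
  rw [hYe, add_pow_char_of_commute _ hcomm, hcbn.mul_pow, hnp, mul_zero, add_zero]
  exact K.pow_mem ha p

/-- squares in the normaliser of a quadratic field commute with it. -/
theorem sq_comm [Fintype F] [Nonempty ι] {K : Subalgebra F (Matrix ι ι F)} (hK : IsFieldSubalgebra 2 K)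
    {g : GL ι F} (hgK : g ∈ subalgebraNormalizer K) :
    ∀ x ∈ K, ((g : Matrix ι ι F) ^ 2) * x = x * ((g : Matrix ι ι F) ^ 2) := by
  have hN : H912.NormAlg (subalgebraNormalizer K) K := fun _ hh a ha => (hh a).mp ha
  let _ : Field K := (H912.isField_of_fieldSub hK).toField
  have hfd : Module.Finite F K := inferInstance
  have hKfin : Finite K := Module.finite_of_finite F
  have hgal : IsGalois F K := inferInstance
  let σ : K ≃ₐ[F] K := H912.conjSub hN ⟨g, hgK⟩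
  have hσk : ∀ (k : ℕ) (x : K), (((σ ^ k) x : K) : Matrix ι ι F) =
      ((g ^ k : GL ι F) : Matrix ι ι F) * x * (((g ^ k)⁻¹ : GL ι F) : Matrix ι ι F) := by
    intro k
    induction k with
    | zero => intro x; simp
    | succ k ih =>
      intro x
      rw [pow_succ, AlgEquiv.mul_apply, ih, H912.conjSub_coe, pow_succ, _root_.mul_inv_rev, Units.val_mul,
        Units.val_mul]
      simp only [Matrix.mul_assoc]
  have hσ2 : σ ^ 2 = 1 := by
    have h3 : Nat.card (K ≃ₐ[F] K) = 2 := by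
      rw [IsGalois.card_aut_eq_finrank, hK.finrank_eq]
    rw [← h3]
    exact pow_card_eq_one'
  intro x hx
  have h1 := hσk 2 ⟨x, hx⟩
  rw [hσ2] at h1
  have h3 : x = ((g ^ 2 : GL ι F) : Matrix ι ι F) * x * (((g ^ 2)⁻¹ : GL ι F) : Matrix ι ι F) := h1
  rw [← Units.val_pow_eq_pow_val]
  conv_rhs => rw [h3]
  rw [Matrix.mul_assoc, ← Units.val_mul, inv_mul_cancel, Units.val_one, Matrix.mul_one]

/-- **`Sp_2(q²).2` has no element of order `4 p` modulo scalars.** -/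
theorem ext_scalar [Fintype F] {p : ℕ} [hp : Fact p.Prime] [CharP F p] (hp2 : p ≠ 2)
    {K : Subalgebra F (Matrix (Fin 2 ⊕ Fin 2) (Fin 2 ⊕ Fin 2) F)} (hK : IsFieldSubalgebra 2 K)
    (hsa : IsSelfAdjointFor (sympForm 2 F) K) {z : GL (Fin 2 ⊕ Fin 2) F} (hz : z ∈ spGL 2 F)
    (hzK : z ∈ subalgebraNormalizer K) {ε : F} (hε : ε ^ 2 = 1)
    (h : (z : Matrix (Fin 2 ⊕ Fin 2) (Fin 2 ⊕ Fin 2) F) ^ (4 * p) = ε • 1) :
    (∃ c : F, (z : Matrix (Fin 2 ⊕ Fin 2) (Fin 2 ⊕ Fin 2) F) ^ 4 = c • 1) ∨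
      ∃ c : F, (z : Matrix (Fin 2 ⊕ Fin 2) (Fin 2 ⊕ Fin 2) F) ^ (2 * p) = c • 1 := by
  have hodd := hp.out.odd_of_ne_two hp2
  set Z : Matrix (Fin 2 ⊕ Fin 2) (Fin 2 ⊕ Fin 2) F := (z : Matrix (Fin 2 ⊕ Fin 2) (Fin 2 ⊕ Fin 2) F) with hZ
  have hY := sq_comm hK hzK
  rw [← hZ] at hY
  by_cases hn0 : (Z ^ 2) ^ 2 - ε • (1 : Matrix (Fin 2 ⊕ Fin 2) (Fin 2 ⊕ Fin 2) F) = 0
  · left
    refine ⟨ε, ?_⟩
    rw [sub_eq_zero, ← pow_mul] at hn0
    exact hn0
  · right
    have hεp : ε ^ p = ε := by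
      obtain ⟨k, hk⟩ := hodd
      rw [hk, pow_succ, pow_mul, hε, one_pow, one_mul]
    have hchar : CharP (Matrix (Fin 2 ⊕ Fin 2) (Fin 2 ⊕ Fin 2) F) p := inferInstance
    have hnp : ((Z ^ 2) ^ 2 - ε • (1 : Matrix (Fin 2 ⊕ Fin 2) (Fin 2 ⊕ Fin 2) F)) ^ p = 0 := by
      have hc : Commute ((Z ^ 2) ^ 2) (ε • (1 : Matrix (Fin 2 ⊕ Fin 2) (Fin 2 ⊕ Fin 2) F)) := by
        change _ * _ = _ * _
        rw [Matrix.mul_smul, Matrix.smul_mul, mul_one, one_mul]
      rw [sub_pow_char_of_commute _ hc, smul_pow, one_pow, hεp, ← pow_mul, ← pow_mul,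
        show 2 * (2 * p) = 4 * p by ring, h, sub_self]
    have hmem := pow_mem_of (p := p) hK (by decide) hY rfl hnp hn0
    -- the element `c = Z ^ (2 p)` of `K` is an isometry
    set C : Matrix (Fin 2 ⊕ Fin 2) (Fin 2 ⊕ Fin 2) F := (Z ^ 2) ^ p with hC
    have hiso : ∀ u v, sympForm 2 F (C *ᵥ u) (C *ᵥ v) = sympForm 2 F u v := by
      intro u v
      have h1 := (spGL 2 F).pow_mem hz (2 * p) u v
      have h2 : glToMat (Fin 2 ⊕ Fin 2) F (z ^ (2 * p)) = C := by
        change ((z ^ (2 * p) : GL (Fin 2 ⊕ Fin 2) F) : Matrix (Fin 2 ⊕ Fin 2) (Fin 2 ⊕ Fin 2) F) = C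
        rw [Units.val_pow_eq_pow_val, hC, ← pow_mul]
      rw [h2] at h1
      exact h1
    have hCC : C * C = 1 := by
      apply Matrix.toLin'.injective
      refine LinearMap.ext fun v => ?_
      rw [Matrix.toLin'_apply, Matrix.toLin'_apply, Matrix.one_mulVec]
      rw [← sub_eq_zero]
      apply eq_zero_of_forall_sympForm_left
      intro u
      have h1 := hiso u v
      rw [hsa C hmem, Matrix.mulVec_mulVec] at h1
      have h2 : sympForm 2 F u ((C * C) *ᵥ v - v) = sympForm 2 F u ((C * C) *ᵥ v) - sympForm 2 F u v := by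
        have := map_sub (sympBilin 2 F u) ((C * C) *ᵥ v) v
        exact this
      rw [h2, h1, sub_self]
    have hprod : (C - 1) * (C + 1) = 0 := by
      rw [sub_mul, mul_add, mul_one, one_mul, hCC]
      abel
    rw [pow_mul, ← hC]
    by_cases h1 : C - 1 = 0
    · exact ⟨1, by rw [one_smul]; exact sub_eq_zero.1 h1⟩
    · obtain ⟨b, hb, hab⟩ := hK.inv (C - 1) (K.sub_mem hmem K.one_mem) h1
      have h2 : C + 1 = 0 := by
        have h3 : b * (C - 1) = 1 := by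
          rw [hK.comm b hb (C - 1) (K.sub_mem hmem K.one_mem), hab]
        have h4 := congrArg (fun x => b * x) hprod
        simp only [mul_zero] at h4
        rw [← mul_assoc, h3, one_mul] at h4
        exact h4
      exact ⟨-1, by rw [neg_smul, one_smul]; exact eq_neg_of_add_eq_zero_left h2⟩

end Cfsg.Agent.H901.SaxSp
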