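import Cfsg.Agent.H884.ElRows
import Cfsg.Agent.H262.ElSympPSp
import Cfsg.Agent.H938.Sax.Base

/-!
# Fields commuting with isometries of a bilinear form (helper901, for S2498 and S2528)
-/

set_option autoImplicit false
set_option linter.unusedSectionVars false

namespace Cfsg.Agent.H901.SaxSp

open Module Cfsg Cfsg.Geo Cfsg.Agent.H884.El
open Cfsg.Agent.H951 (fx cm Inv)
open scoped MatrixGroups Matrix

universe u v

section Abs

variable {F : Type u} [Field F] [Fintype F] {V : Type v} [AddCommGroup V] [Module F V] [FiniteDimensional F V]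
  {x : Module.End F V} {r e : ℕ}

theorem dvd_of_inv (hrr : (r : F) ≠ 0) (hxr : x ^ r = 1) (hr : PP (Nat.card F) e r) {W : Submodule F V}
    (hW : Inv x W) : e ∣ finrank F ↥(W ⊓ cm x) := by
  have := Fact.mk hr.prime
  rw [← ord_eq hr]
  exact H951.ord_dvd_finrank hxr (hW.inf H951.inv_cm) (H951.inf_fx_of_le_cm hrr hxr inf_le_right)

/-- a quadratic field does not commute with an isometry `x` of order `r` (`r` a primitive prime divisor of
`q ^ e - 1`, `e ≥ 3` odd) of a nondegenerate bilinear form in dimension less than `4 e`. -/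
theorem no_quadratic_bilin (B : LinearMap.BilinForm F V) (hB : ∀ v, (∀ u, B v u = 0) → v = 0)
    (hBx : ∀ u v, B (x u) (x v) = B u v) (hr : PP (Nat.card F) e r) (he : Odd e) (he3 : 3 ≤ e)
    (hxr : x ^ r = 1) (hx1 : x ≠ 1) (hn : finrank F V < 4 * e) {J : Module.End F V}
    (hJx : ∀ v, J (x v) = x (J v)) (heven : ∀ W : Submodule F V, (∀ w ∈ W, J w ∈ W) → Even (finrank F W)) :
    False := by
  have hprime := Fact.mk hr.prime
  have hfin : Finite V := Module.finite_of_finite F
  have hrr : (r : F) ≠ 0 := hr.ne0 (by omega)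
  have hr2 : r ≠ 2 := by have := hr.lt (by omega); omega
  -- the commutator space
  have hcmJ : ∀ w ∈ cm x, J w ∈ cm x := by
    intro w hw
    obtain ⟨y, hy⟩ := H951.mem_cm.1 hw
    exact H951.mem_cm.2 ⟨J y, by rw [← hJx, ← map_sub, hy]⟩
  have hcmev := heven _ hcmJ
  have hcmd : e ∣ finrank F (cm x) := by
    have := dvd_of_inv hrr hxr hr (W := ⊤) H951.inv_top
    rwa [top_inf_eq] at this
  have hcm0 : finrank F (cm x) ≠ 0 := fun h0 => cm_ne_bot hx1 (Submodule.finrank_eq_zero.1 h0)
  have hcmle : finrank F (cm x) ≤ finrank F V := Submodule.finrank_le _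
  have hcm : finrank F (cm x) = 2 * e := by
    obtain ⟨A, hA⟩ := hcmd
    have hA4 : A < 4 := by
      by_contra hcon
      push Not at hcon
      have := Nat.mul_le_mul_left e hcon
      omega
    have hA0 : A ≠ 0 := by rintro rfl; omega
    have hAe : Even A := by
      rw [hA, Nat.even_mul] at hcmev
      exact hcmev.resolve_left (Nat.not_even_iff_odd.2 he)
    have hA2 : A = 2 := by
      obtain ⟨c, hc⟩ := hAe
      omega
    rw [hA, hA2, mul_comm]
  -- an irreducible subspace `W` of the commutator space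
  obtain ⟨W, hWcm, hWirr⟩ := H951.exists_irr (x := x) H951.inv_cm (cm_ne_bot hx1)
  have hWe : finrank F W = e := by rw [hWirr.finrank_eq hrr hxr hWcm, ord_eq hr]
  obtain ⟨hWd, hW, hirr⟩ := hWirr
  have hWo : Odd (finrank F W) := by rw [hWe]; exact he
  -- an invariant bilinear form vanishes on `W`
  have hodd : ∀ c : LinearMap.BilinForm F V,
      (∀ u v, c (x u) (x v) = c u v) → ∀ u ∈ W, ∀ v ∈ W, c u v = 0 := by
    intro c hinv
    let N : Submodule F V :=
      { carrier := {v | v ∈ W ∧ ∀ u ∈ W, c u v = 0}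
        add_mem' := fun {a b} ha hb => ⟨W.add_mem ha.1 hb.1, fun u hu => by
          rw [map_add, ha.2 u hu, hb.2 u hu, add_zero]⟩
        zero_mem' := ⟨W.zero_mem, fun u _ => map_zero _⟩
        smul_mem' := fun a v hv => ⟨W.smul_mem a hv.1, fun u hu => by
          rw [map_smul, hv.2 u hu, smul_zero]⟩ }
    have hNW : N ≤ W := fun v hv => hv.1
    have hNi : Inv x N := by
      rintro v ⟨hv, hv2⟩
      refine ⟨hW v hv, fun u hu => ?_⟩
      obtain ⟨u', hu', rfl⟩ : ∃ u' ∈ W, x u' = u := by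
        refine ⟨(x ^ (r - 1)) u, hW.pow _ u hu, ?_⟩
        rw [← Module.End.mul_apply, ← pow_succ', Nat.sub_add_cancel hr.prime.one_le, hxr]
        rfl
      rw [hinv]
      exact hv2 u' hu'
    rcases hirr N hNW hNi with hN | hN
    · exfalso
      have hev := H200.LinFix.even_of_irr (l := r) hr2 hrr (y := x) hxr (W := W) hWcm hW
        (fun s hs hi => hirr s hs hi) hWd c (fun u _ v _ => hinv u v) (fun v hv hv2 => by
          have : v ∈ N := ⟨hv, hv2⟩
          rw [hN] at this
          exact (Submodule.mem_bot F).1 this)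
      exact (Nat.not_even_iff_odd.2 hWo) hev
    · intro u hu v hv
      rw [← hN] at hv
      exact hv.2 u hu
  have hJW : ¬ ∀ w ∈ W, J w ∈ W := fun h => (Nat.not_even_iff_odd.2 hWo) (heven W h)
  -- `cm x = W + J W`
  have hJWi : Inv x (W.map J) := by
    rintro _ ⟨w, hw, rfl⟩
    exact ⟨x w, hW w hw, hJx w⟩
  have hJWcm : W.map J ≤ cm x := by
    rintro _ ⟨w, hw, rfl⟩
    exact hcmJ w (hWcm hw)
  have hsum : W ⊔ W.map J = cm x := by
    apply Submodule.eq_of_le_of_finrank_eq (sup_le hWcm hJWcm)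
    have h1 : e ∣ finrank F ↥(W ⊔ W.map J) := by
      have h2 : Inv x (W ⊔ W.map J) := H951.Inv.sup hW hJWi
      have := dvd_of_inv hrr hxr hr h2
      rwa [inf_eq_left.2 (sup_le hWcm hJWcm)] at this
    have h2 : finrank F ↥(W ⊔ W.map J) ≤ 2 * e := by
      rw [← hcm]; exact Submodule.finrank_mono (sup_le hWcm hJWcm)
    have h3 : finrank F W < finrank F ↥(W ⊔ W.map J) := by
      apply Submodule.finrank_lt_finrank_of_lt
      refine lt_of_le_of_ne le_sup_left fun h => hJW fun w hw => ?_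
      rw [h]
      exact Submodule.mem_sup_right ⟨w, hw, rfl⟩
    rw [hcm]
    obtain ⟨A, hA⟩ := h1
    have hA3 : A < 3 := by
      by_contra hcon
      push Not at hcon
      have := Nat.mul_le_mul_left e hcon
      omega
    have hA2 : 1 < A := by
      by_contra hcon
      push Not at hcon
      have := Nat.mul_le_mul_left e hcon
      omega
    have : A = 2 := by omega
    rw [hA, this, mul_comm]
  -- the forms `B u v` and `B u (J v)` vanish on `W`
  have h1 := hodd B hBx
  have h2 := hodd (LinearMap.BilinForm.comp B LinearMap.id J) (fun u v => by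
    change B (x u) (J (x v)) = B u (J v)
    rw [hJx, hBx])
  -- `W ⊥ cm x` hence `W ⊥ V`
  obtain ⟨w, hw, hw0⟩ := Submodule.exists_mem_ne_zero_of_ne_bot hWd
  have h3 : ∀ z ∈ cm x, B w z = 0 := by
    intro z hz
    rw [← hsum] at hz
    obtain ⟨a, ha, _, ⟨b, hb, rfl⟩, rfl⟩ := Submodule.mem_sup.1 hz
    rw [map_add, h1 w hw a ha, zero_add]
    exact h2 w hw b hb
  have h4 : ∀ z ∈ fx x, ∀ y ∈ cm x, B y z = 0 := by
    intro z hz y hy
    obtain ⟨y', rfl⟩ := H951.mem_cm.1 hy
    have h5 := hBx y' z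
    rw [H951.mem_fx.1 hz] at h5
    rw [map_sub, LinearMap.sub_apply, h5, sub_self]
  apply hw0
  apply hB
  intro z
  have hz : z ∈ fx x ⊔ cm x := by
    rw [(H951.isCompl_fx_cm hrr hxr).sup_eq_top]
    trivial
  obtain ⟨a, ha, b, hb, rfl⟩ := Submodule.mem_sup.1 hz
  rw [map_add, h4 a ha w (hWcm hw), h3 b hb, add_zero]

end Abs

section Mat

open Cfsg.Agent.ClassicalGeometry.SympBasic

variable {F : Type u} [Field F] [Fintype F] {m : ℕ} {H : Subgroup (GL (Fin m ⊕ Fin m) F)} {r e : ℕ}

/-- an element of prime order. -/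
theorem exists_elt' {ι : Type} [Fintype ι] [DecidableEq ι] {H : Subgroup (GL ι F)} (hr : r.Prime)
    (hdvd : r ∣ Nat.card H) : ∃ g ∈ H, g ^ r = 1 ∧ g ≠ 1 := by
  have hfin : Finite (GL ι F) := inferInstance
  have := Fact.mk hr
  obtain ⟨g, hg⟩ := exists_prime_orderOf_dvd_card' r hdvd
  have hgr : (g : GL ι F) ^ r = 1 := by
    rw [← Subgroup.coe_pow, ← hg, pow_orderOf_eq_one]; rfl
  refine ⟨g, g.2, hgr, ?_⟩
  intro h1
  have hg2 : g = 1 := Subtype.ext h1
  rw [hg2, orderOf_one] at hg
  exact hr.one_lt.ne hg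

/-- **No quadratic field** is normalised by a subgroup of `Sp_2m(q)` whose order is divisible by a primitive prime
divisor of `q ^ e - 1`, `e` odd, `2 m < 4 e`. -/
theorem no_quadratic_field_sp (hm : 1 ≤ m) (hH : H ≤ spGL m F) (hr : PP (Nat.card F) e r)
    (he : Odd e) (he3 : 3 ≤ e) (hn : 2 * m < 4 * e) (hdvd : r ∣ Nat.card H)
    {K : Subalgebra F (Matrix (Fin m ⊕ Fin m) (Fin m ⊕ Fin m) F)} (hK : IsFieldSubalgebra 2 K)
    (hHK : H ≤ subalgebraNormalizer K) : False := by
  obtain ⟨g, hgH, hgr, hg1⟩ := exists_elt' hr.prime hdvd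
  have hne : Nonempty (Fin m ⊕ Fin m) := ⟨Sum.inl ⟨0, by omega⟩⟩
  have hr2 : r ≠ 2 := by have := hr.lt (by omega); omega
  have hcomm := comm_field Nat.prime_two hK (hHK hgH) hr.prime hr2 hgr
  obtain ⟨J, hJK, hJ, hgen⟩ := Cfsg.Agent.H884.HermGL.exists_gen hK
  refine no_quadratic_bilin (x := lin g) (r := r) (e := e) (sympBilin m F) ?_ ?_ hr he he3 ?_ (lin_ne_one hg1) ?_
    (J := Matrix.toLin' J) ?_ ?_
  · intro v hv
    apply eq_zero_of_forall_sympForm_left
    intro u
    have h1 : sympForm m F v u = 0 := hv u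
    rw [sympForm_swap, h1, neg_zero]
  · intro u v
    rw [lin, Matrix.toLin'_apply, Matrix.toLin'_apply]
    exact hH hgH u v
  · rw [← H251.GeoCard.toLin_pow, hgr]; exact lin_one
  · rw [Module.finrank_fintype_fun_eq_card, Cfsg.Agent.H931.card_sum_fin]; exact hn
  · intro v
    rw [lin, Matrix.toLin'_apply, Matrix.toLin'_apply, Matrix.toLin'_apply, Matrix.toLin'_apply,
      Matrix.mulVec_mulVec, Matrix.mulVec_mulVec, hcomm J hJK]
  · intro W hW
    refine even_of_field hK fun k hk w hw => ?_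
    obtain ⟨s, t, rfl⟩ := hgen k hk
    rw [Matrix.add_mulVec, Matrix.smul_mulVec, Matrix.smul_mulVec, Matrix.one_mulVec]
    refine W.add_mem (W.smul_mem _ hw) (W.smul_mem _ ?_)
    have := hW w hw
    rwa [Matrix.toLin'_apply] at this

omit [Fintype F] in
/-- the degree of a field subalgebra divides the dimension. -/
theorem dvd_of_field {ι : Type} [Fintype ι] [DecidableEq ι] [Nonempty ι] {s : ℕ} {K : Subalgebra F (Matrix ι ι F)}
    (hK : IsFieldSubalgebra s K) : s ∣ Fintype.card ι := by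
  let _ : Field K := (H912.isField_of_fieldSub hK).toField
  have h1 := Module.finrank_mul_finrank F K (ι → F)
  rw [hK.finrank_eq, Module.finrank_fintype_fun_eq_card] at h1
  exact ⟨_, h1.symm⟩

end Mat

end Cfsg.Agent.H901.SaxSp
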