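import Cfsg.Agent.H901.SaxSpRow
import Cfsg.Agent.H901.SaxExt
import Cfsg.Agent.H909.Sp4GeomMain
import Cfsg.Agent.H97.Sp4Ext
import Cfsg.Agent.H374.SpFour

/-!
# `PSp_4(q)`, `q` odd: every maximal subgroup misses an element order (helper901, for S2498 and S2528)
-/

set_option autoImplicit false
set_option linter.unusedSectionVars false

namespace Cfsg.Agent.H901.SaxSp

open Module Cfsg Cfsg.Geo Cfsg.Agent.H884.El
open Cfsg.Agent.H262.El (pre pre_le pre_ne scalars_le_pre mem_pre spToGL_injective two_le_of_symp)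
open Cfsg.Agent.ClassicalGeometry.SympBasic Cfsg.Agent.H876 Cfsg.Agent.H931
open Cfsg.Agent.H938.Sax (PGap OrdGap OGMax)
open Cfsg.Agent.H909.Sp4List Cfsg.Agent.H909.Sp4Geom Cfsg.Agent.H909.Sp4Arith
open Cfsg.Agent.H374.SpFour Cfsg.Agent.H374.Quad
open scoped MatrixGroups Matrix

universe u

section gen

variable {F : Type u} [Field F] {m : ℕ}

/-- preimages of maximal subgroups are maximal. -/
theorem isMaximalIn_pre {M : Subgroup (PSp m F)} (hM : IsCoatom M) : IsMaximalIn (spGL m F) (pre M) := by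
  refine ⟨lt_of_le_of_ne (pre_le M) (pre_ne hM.1), fun N hMN hN => ?_⟩
  set N' : Subgroup (PSp m F) := (N.comap (spToGL m F)).map
    (QuotientGroup.mk' (Subgroup.center (Matrix.symplecticGroup (Fin m) F))) with hN'
  have hmem : ∀ A : Matrix.symplecticGroup (Fin m) F, (QuotientGroup.mk A : PSp m F) ∈ N' → spToGL m F A ∈ N := by
    rintro A ⟨B, hB, hBA⟩
    have h1 : (QuotientGroup.mk B : PSp m F) = QuotientGroup.mk A := hBA
    have h2 : B⁻¹ * A ∈ Subgroup.center (Matrix.symplecticGroup (Fin m) F) := QuotientGroup.eq.1 h1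
    have h3 : spToGL m F (B⁻¹ * A) ∈ pre M := by
      rw [mem_pre]
      have : (QuotientGroup.mk (B⁻¹ * A) : PSp m F) = 1 := (QuotientGroup.eq_one_iff _).2 h2
      rw [this]
      exact M.one_mem
    have h4 : spToGL m F A = spToGL m F B * spToGL m F (B⁻¹ * A) := by
      rw [← map_mul, mul_inv_cancel_left]
    rw [h4]
    exact N.mul_mem hB (hMN h3)
  have hle : M ≤ N' := by
    intro x hx
    obtain ⟨A, rfl⟩ := QuotientGroup.mk_surjective x
    exact ⟨A, hMN (mem_pre.2 hx), rfl⟩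
  by_cases h : N' = ⊤
  · right
    refine le_antisymm hN fun g hg => ?_
    obtain ⟨A, rfl⟩ := exists_spToGL hg
    exact hmem A (by rw [h]; trivial)
  · left
    have h1 : N' = M := by
      by_contra hne
      exact h (hM.2 _ (lt_of_le_of_ne hle (Ne.symm hne)))
    refine le_antisymm (fun g hg => ?_) hMN
    obtain ⟨A, rfl⟩ := exists_spToGL (hN hg)
    rw [mem_pre, ← h1]
    exact ⟨A, hg, rfl⟩

end gen

variable {F : Type u} [Field F] [Fintype F]

/-- a prime missing in the preimage is missing. -/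
theorem PGap.of_pre {m : ℕ} {R : Subgroup (PSp m F)} {r : ℕ} (hr : r.Prime) (h1 : r ∣ Nat.card (PSp m F))
    (h2 : ¬ r ∣ Nat.card (pre R)) : PGap (PSp m F) R :=
  ⟨r, hr, h1, fun h => h2 (h.trans (card_dvd_pre R))⟩

/-- an element order not dividing the order of the preimage is missing. -/
theorem OrdGap.of_pre {m : ℕ} {R : Subgroup (PSp m F)} {N : ℕ} (h1 : ∃ x : PSp m F, orderOf x = N)
    (h2 : ¬ N ∣ Nat.card (pre R)) : OrdGap (PSp m F) R := by
  obtain ⟨x, hx⟩ := h1
  refine ⟨x, fun y hy hyx => h2 ?_⟩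
  rw [← hx, ← hyx, ← Subgroup.orderOf_mk y hy]
  exact (orderOf_dvd_natCard _).trans (card_dvd_pre R)

theorem exists_four_mul {p : ℕ} [hp : Fact p.Prime] [CharP F p] (hodd : Odd (Fintype.card F)) :
    ∃ x : PSp 2 F, orderOf x = 4 * p := by
  obtain ⟨n, -, hn⟩ := FiniteField.card F p
  have h3 : 3 ≤ p ^ (n : ℕ) := by
    rw [← hn]
    have h1 : 1 < Fintype.card F := Fintype.one_lt_card
    obtain ⟨k, hk⟩ := hodd
    omega
  rw [exists_iff (p := p) n.2.ne' hn h3, Om]
  have h4 : 4 ∣ p ^ (n : ℕ) - 1 ∨ 4 ∣ p ^ (n : ℕ) + 1 := by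
    rw [← hn]
    obtain ⟨k, hk⟩ := hodd
    rcases Nat.even_or_odd k with ⟨j, hj⟩ | ⟨j, hj⟩
    · left; exact ⟨j, by omega⟩
    · right; exact ⟨j + 1, by omega⟩
  rcases h4 with h | h
  · left
    rw [mul_comm]
    exact Nat.mul_dvd_mul_left p h
  · right; left
    rw [mul_comm]
    exact Nat.mul_dvd_mul_left p h

/-- the large primitive prime against products of `q`, `q² - 1`, `2`, `f`. -/
theorem PP.false_of_dvd {r q : ℕ} (hr : PP q 4 r) (hq : 1 ≤ q) {a b c d : ℕ} (h : r ∣ 2 * a * (q ^ b * (q ^ 2 - 1) ^ c) ^ d)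
    (ha : ¬ r ∣ a) : False := by
  have hp := hr.prime
  have h2 : ¬ r ∣ 2 := fun h => by
    have h1 := Nat.le_of_dvd (by norm_num) h
    have := hr.lt (by norm_num)
    omega
  have hq' := hr.not_dvd (by norm_num)
  have hq2 : ¬ r ∣ q ^ 2 - 1 := by
    rw [hr.dvd_iff hq]
    decide
  rcases (hp.dvd_mul).1 h with h | h
  · rcases (hp.dvd_mul).1 h with h | h
    · exact h2 h
    · exact ha h
  · have h := hp.dvd_of_dvd_pow h
    rcases (hp.dvd_mul).1 h with h | h
    · exact hq' (hp.dvd_of_dvd_pow h)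
    · exact hq2 (hp.dvd_of_dvd_pow h)

/-- **`PSp_4(q)`, `q` odd**: every maximal subgroup misses an element order. -/
theorem ogMax_four (hodd : Odd (Fintype.card F)) : OGMax (PSp 2 F) := by
  classical
  intro M hM
  by_contra hO
  have hP : ¬ PGap (PSp 2 F) M := fun h => hO h.ordGap
  have h2F : (2 : F) ≠ 0 := Cfsg.Agent.H909.Sp4Geom.two_ne hodd
  have hq := one_lt_q F
  have hc : Nat.card F = Fintype.card F := Nat.card_eq_fintype_card
  obtain ⟨p, hpchar⟩ : ∃ p, CharP F p := CharP.exists F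
  have hp : p.Prime := CharP.char_is_prime F p
  have hpf : Fact p.Prime := ⟨hp⟩
  obtain ⟨n, hn1, hn⟩ : ∃ n : ℕ, 1 ≤ n ∧ Fintype.card F = p ^ n := by
    obtain ⟨n, -, hn⟩ := FiniteField.card F p
    exact ⟨n, n.pos, hn⟩
  have hp2 : p ≠ 2 := by
    rintro rfl
    rw [hn] at hodd
    exact (Nat.not_even_iff_odd.2 hodd) (Even.pow_of_ne_zero even_two (by omega))
  have hp3 : 3 ≤ p := by have := hp.two_le; omega
  have hpn : Nat.card F = p ^ n := by rw [hc, hn]
  -- the primes
  obtain ⟨r₀, hr₀⟩ : ∃ r, PP p (n * 4) r := exists_pp hp.two_le (by omega) (by omega)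
  have hr₀q : PP (Nat.card F) 4 r₀ := by rw [hpn]; exact hr₀.of_pow hn1
  have hlt := hr₀.lt (by omega)
  have h0 : r₀ ∣ Nat.card (pre M) :=
    hits_of hP (e := 4) (i := 2) (by norm_num) le_rfl (by norm_num) (Or.inl (by norm_num)) _ hr₀q
  have hpd : p ∣ Nat.card (pre M) := by
    have h1 : p ∣ Nat.card (PSp 2 F) := by
      have h2 := card_psp (F := F) (m := 2) (by norm_num)
      have h3 : p ∣ Nat.gcd 2 (Fintype.card F - 1) * Nat.card (PSp 2 F) := by
        rw [h2, hn, ← pow_mul]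
        exact (dvd_pow_self p (by positivity)).mul_right _
      rcases (Nat.Prime.dvd_mul hp).1 h3 with h | h
      · exfalso
        exact hp2 ((Nat.prime_dvd_prime_iff_eq hp Nat.prime_two).1 (h.trans (Nat.gcd_dvd_left _ _)))
      · exact h
    have h2 : p ∣ Nat.card M := by
      by_contra h
      exact hP ⟨p, hp, h1, h⟩
    exact h2.trans (card_dvd_pre M)
  have hmax := isMaximalIn_pre hM
  rcases list hodd (res88 hodd) hmax with h | h | h | h | h | h | h | h
  · -- totally isotropic subspaces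
    obtain ⟨y, hyH, hyr, hy1⟩ := exists_elt' hr₀q.prime h0
    obtain ⟨W, hW0, hW, hWe⟩ := h
    rw [hWe] at hyH
    exact Cfsg.Agent.H262.El.not_mem_subspaceStabilizer_of_irr
      (Cfsg.Agent.H262.El.irr_of_od (by
        rw [← hc]; exact PP.od hr₀q (by norm_num)) hyr hy1)
      hW0 (Cfsg.Agent.H262.El.totallySingular_ne_top (by norm_num) hW) hyH.1
  · rw [card_of_T2 h2F h, a2] at h0
    exact PP.false_of_dvd (a := 1) (b := 1) (c := 1) (d := 2) hr₀q hq.le (by simpa using h0)
      (fun h => hr₀q.prime.one_lt.ne' (Nat.dvd_one.1 h))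
  · rw [card_of_T3 h2F h, a3] at h0
    refine PP.false_of_dvd (a := 1) (b := 1) (c := 2) (d := 1) hr₀q hq.le (h0.trans ?_)
      (fun h => hr₀q.prime.one_lt.ne' (Nat.dvd_one.1 h))
    have h1 : Nat.card F - 1 ∣ Nat.card F ^ 2 - 1 := by
      have := Nat.sub_dvd_pow_sub_pow (Nat.card F) 1 2
      rwa [one_pow] at this
    rw [mul_one, pow_one, pow_one, mul_assoc (Nat.card F), pow_two (Nat.card F ^ 2 - 1)]
    exact Nat.mul_dvd_mul_left _ (Nat.mul_dvd_mul_left _ (Nat.mul_dvd_mul_right h1 _))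
  · -- `Sp_2(q²).2`
    obtain ⟨K, hK, hsa, -, hKe⟩ := h
    obtain ⟨x, hx⟩ := exists_four_mul (F := F) (p := p) hodd
    obtain ⟨y, hy, hyo⟩ := Cfsg.Agent.H938.Sax.exists_order_of_not_ordGap hO x
    rw [hx] at hyo
    obtain ⟨A, hA, rfl⟩ := cl_surj y
    have hAp : spToGL 2 F ⟨A, hA⟩ ∈ pre M := mem_pre.2 hy
    have hAK : spToGL 2 F ⟨A, hA⟩ ∈ subalgebraNormalizer K := by
      rw [hKe] at hAp
      exact hAp.1
    have hpow : (cl A hA) ^ (4 * p) = 1 := by rw [← hyo]; exact pow_orderOf_eq_one _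
    obtain ⟨ε, hε⟩ := cl_pow_eq_one.1 hpow
    have hε2 := sq_of_scalar hA hε
    have hp0 := hp.pos
    rcases ext_scalar (p := p) hp2 hK hsa (spToGL_mem _) hAK hε2 hε with ⟨c, hc'⟩ | ⟨c, hc'⟩
    · have h1 : (cl A hA) ^ 4 = 1 := cl_pow_eq_one.2 ⟨c, hc'⟩
      have h2 := orderOf_dvd_of_pow_eq_one h1
      rw [hyo] at h2
      have := Nat.le_of_dvd (by norm_num) h2
      omega
    · have h1 : (cl A hA) ^ (2 * p) = 1 := cl_pow_eq_one.2 ⟨c, hc'⟩
      have h2 := orderOf_dvd_of_pow_eq_one h1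
      rw [hyo] at h2
      have := Nat.le_of_dvd (by omega) h2
      omega
  · rw [card_of_T5 h2F h, a5] at h0
    refine PP.false_of_dvd (a := 1) (b := 1) (c := 2) (d := 1) hr₀q hq.le (h0.trans ?_)
      (fun h => hr₀q.prime.one_lt.ne' (Nat.dvd_one.1 h))
    have h1 : Nat.card F + 1 ∣ Nat.card F ^ 2 - 1 := by
      refine ⟨Nat.card F - 1, ?_⟩
      have := Nat.sq_sub_sq (Nat.card F) 1
      rwa [one_pow] at this
    rw [mul_one, pow_one, pow_one, mul_assoc (Nat.card F), pow_two (Nat.card F ^ 2 - 1)]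
    exact Nat.mul_dvd_mul_left _ (Nat.mul_dvd_mul_left _ (Nat.mul_dvd_mul_right h1 _))
  · -- subfields
    obtain ⟨F₀, s, P, ζ, hs, hcard, -, -, hMe⟩ := h
    exact kill_subfield (H := pre M) (hMe.le.trans inf_le_left) hs (by rw [hc]; exact hcard) hp hpn hr₀
      (by decide) (by norm_num) h0
  · -- `2^{1+4}`
    have hprime := prime_of_T7 h
    have hF : Nat.card F = p := by
      have h1 : p ∣ Nat.card F := by rw [hpn]; exact dvd_pow_self p (by omega)
      exact ((Nat.prime_dvd_prime_iff_eq hp hprime).1 h1).symm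
    have h7 : Nat.card (pre M) ∣ 3840 := Cfsg.Agent.H97.Sp4Ext.card_T7_dvd h
    have h5 : r₀ = 5 := five_of_3840 hr₀.prime (by omega) (h0.trans h7)
    by_cases hp5 : 5 ≤ p
    · have h6 : p = 5 := five_of_3840 hp hp5 (hpd.trans h7)
      apply hr₀.not_dvd (by omega)
      rw [h5, h6]
    · have hpe : p = 3 := by
        have : p = 3 ∨ p = 4 := by omega
        rcases this with h | h
        · exact h
        · rw [h] at hp; exact absurd hp (by norm_num)
      subst hpe
      refine hO (OrdGap.of_pre (N := 9) (exists_nine hpchar) fun h9 => ?_)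
      exact absurd (h9.trans h7) (by norm_num)
  · obtain ⟨P, p', hcore, hp', hchar, h | h | h⟩ := h
    · obtain ⟨⟨e⟩, h1, h5, -⟩ := h
      have hpp : p' = p := CharP.eq F hchar hpchar
      subst hpp
      have h7 := Cfsg.Agent.H753.ResCard.card_A6 hmax.1.le hcore e
      have h8 : ∀ r : ℕ, r.Prime → 5 ≤ r → r ∣ 2880 → r = 5 := by
        intro r hr h5 h
        rw [show 2880 = 2 ^ 6 * 3 ^ 2 * 5 by norm_num] at h
        rcases (hr.dvd_mul).1 h with h | h
        · rcases (hr.dvd_mul).1 h with h | h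
          · have := Nat.le_of_dvd (by norm_num) (hr.dvd_of_dvd_pow h)
            omega
          · have := Nat.le_of_dvd (by norm_num) (hr.dvd_of_dvd_pow h)
            omega
        · have := Nat.le_of_dvd (by norm_num) h
          omega
      have h9 := h8 _ hr₀.prime (by omega) (h0.trans h7)
      have h10 := h8 _ hp h5 (hpd.trans h7)
      apply hr₀.not_dvd (by omega)
      rw [h9, h10]
    · obtain ⟨⟨e⟩, h1⟩ := h
      have h7 := Cfsg.Agent.H753.ResCard.card_A7 hmax.1.le hcore e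
      have hp7 : p = 7 := by
        have h2 : p ∣ 7 := by rw [← h1, hn]; exact dvd_pow_self p (by omega)
        exact (Nat.prime_dvd_prime_iff_eq hp (by norm_num)).1 h2
      refine hO (OrdGap.of_pre (N := 25) ?_ fun h25 => ?_)
      · have h3 : 3 ≤ p ^ n := by rw [← hn, h1]; norm_num
        refine (@exists_iff F _ _ p n hpf hpchar (by omega) hn h3 25).2 ?_
        rw [Om, ← hn, h1]
        norm_num
      · exact absurd (h25.trans h7) (by norm_num)
    · obtain ⟨⟨e⟩, h5, h7⟩ := h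
      have h8 := Cfsg.Agent.H753.ResCard.card_L2 hp hn hodd (by omega) hmax.1.le hcore e
      refine PP.false_of_dvd (a := n) (b := 1) (c := 1) (d := 1) hr₀q hq.le ?_ ?_
      · simpa using h0.trans h8
      · intro h
        have := Nat.le_of_dvd hn1 h
        omega

end Cfsg.Agent.H901.SaxSp
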